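import Cfsg.Agent.Comp.G24.Chk0
import Cfsg.Agent.Comp.G24.Chk1
import Cfsg.Agent.Comp.G24.Chk2

set_option autoImplicit false
set_option maxRecDepth 100000
set_option Elab.async false

namespace Cfsg.Agent.Comp.G24

theorem hs : ∀ j, j < J.N' → J.slpAt j = true := (range_step (lo := 25) 7 (range_step (lo := 16) 9 (range_step (lo := 0) 16 range_start s0) s1) s2)

theorem chain3 {Γ X : Type*} [Group Γ] [MulAction Γ X] {T : Lst X J.n} {gen : ℕ → Γ} {A : Subgroup Γ} (h : J.Model T gen A) : ChainOK h.M J.E (J.el gen) [] := trivial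

theorem chain2 {Γ X : Type*} [Group Γ] [MulAction Γ X] {T : Lst X J.n} {gen : ℕ → Γ} {A : Subgroup Γ} (h : J.Model T gen A) : ChainOK h.M J.E (J.el gen) [L2] :=
  h.chain_cons hs (chain3 h) l2 (range_step (lo := 0) 60 range_start q2_0)

theorem chain1 {Γ X : Type*} [Group Γ] [MulAction Γ X] {T : Lst X J.n} {gen : ℕ → Γ} {A : Subgroup Γ} (h : J.Model T gen A) : ChainOK h.M J.E (J.el gen) [L1, L2] :=
  h.chain_cons hs (chain2 h) l1 (range_step (lo := 0) 1024 range_start q1_0)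

theorem chain0 {Γ X : Type*} [Group Γ] [MulAction Γ X] {T : Lst X J.n} {gen : ℕ → Γ} {A : Subgroup Γ} (h : J.Model T gen A) : ChainOK h.M J.E (J.el gen) [L0, L1, L2] :=
  h.chain_cons hs (chain1 h) l0 (range_step (lo := 3888) 207 (range_step (lo := 3456) 432 (range_step (lo := 3024) 432 (range_step (lo := 2592) 432 (range_step (lo := 2160) 432 (range_step (lo := 1728) 432 (range_step (lo := 1296) 432 (range_step (lo := 864) 432 (range_step (lo := 432) 432 (range_step (lo := 0) 432 range_start q0_0) q0_1) q0_2) q0_3) q0_4) q0_5) q0_6) q0_7) q0_8) q0_9)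

theorem GpL_eq {Γ : Type*} [Group Γ] (gen : ℕ → Γ) : GpL (J.el gen) [L0, L1, L2] = J.G gen := Job.GpL_top rfl rfl

theorem card {Γ X : Type*} [Group Γ] [MulAction Γ X] {T : Lst X J.n} {gen : ℕ → Γ} {A : Subgroup Γ} (h : J.Model T gen A) : Nat.card (J.G gen) = 251596800 := by
  rw [← GpL_eq, (chain0 h).card]; rfl

theorem finite {Γ X : Type*} [Group Γ] [MulAction Γ X] {T : Lst X J.n} {gen : ℕ → Γ} {A : Subgroup Γ} (h : J.Model T gen A) : Finite (J.G gen) := by
  rw [← GpL_eq]; exact (chain0 h).finite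

theorem ctx {Γ X : Type*} [Group Γ] [MulAction Γ X] {T : Lst X J.n} {gen : ℕ → Γ} {A : Subgroup Γ} (h : J.Model T gen A) : Ctx h.M J.E (J.el gen) [L0, L1, L2] R :=
  h.ctx hs (chain0 h) rfl rfl rp

theorem cov1056 {Γ X : Type*} [Group Γ] [MulAction Γ X] {T : Lst X J.n} {gen : ℕ → Γ} {A : Subgroup Γ} (h : J.Model T gen A) : Cov h.M (J.el gen) [L0, L1, L2] R [nat_lit 128988, nat_lit 133866] :=
  cov_full (ctx h) n1056

theorem cov1055 {Γ X : Type*} [Group Γ] [MulAction Γ X] {T : Lst X J.n} {gen : ℕ → Γ} {A : Subgroup Γ} (h : J.Model T gen A) : Cov h.M (J.el gen) [L0, L1, L2] R [nat_lit 128988, nat_lit 135198] :=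
  cov_full (ctx h) n1055

theorem cov1054 {Γ X : Type*} [Group Γ] [MulAction Γ X] {T : Lst X J.n} {gen : ℕ → Γ} {A : Subgroup Γ} (h : J.Model T gen A) : Cov h.M (J.el gen) [L0, L1, L2] R [nat_lit 128988, nat_lit 131040] :=
  cov_full (ctx h) n1054

theorem cov1053 {Γ X : Type*} [Group Γ] [MulAction Γ X] {T : Lst X J.n} {gen : ℕ → Γ} {A : Subgroup Γ} (h : J.Model T gen A) : Cov h.M (J.el gen) [L0, L1, L2] R [nat_lit 128988, nat_lit 130806] :=
  cov_full (ctx h) n1053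

theorem cov1052 {Γ X : Type*} [Group Γ] [MulAction Γ X] {T : Lst X J.n} {gen : ℕ → Γ} {A : Subgroup Γ} (h : J.Model T gen A) : Cov h.M (J.el gen) [L0, L1, L2] R [nat_lit 128988, nat_lit 130590] :=
  cov_full (ctx h) n1052

theorem cov1051 {Γ X : Type*} [Group Γ] [MulAction Γ X] {T : Lst X J.n} {gen : ℕ → Γ} {A : Subgroup Γ} (h : J.Model T gen A) : Cov h.M (J.el gen) [L0, L1, L2] R [nat_lit 128988, nat_lit 142596] :=
  cov_full (ctx h) n1051

theorem cov1050 {Γ X : Type*} [Group Γ] [MulAction Γ X] {T : Lst X J.n} {gen : ℕ → Γ} {A : Subgroup Γ} (h : J.Model T gen A) : Cov h.M (J.el gen) [L0, L1, L2] R [nat_lit 128988, nat_lit 142830] :=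
  cov_full (ctx h) n1050

theorem cov1049 {Γ X : Type*} [Group Γ] [MulAction Γ X] {T : Lst X J.n} {gen : ℕ → Γ} {A : Subgroup Γ} (h : J.Model T gen A) : Cov h.M (J.el gen) [L0, L1, L2] R [nat_lit 128988, nat_lit 140418] :=
  cov_full (ctx h) n1049

theorem cov1048 {Γ X : Type*} [Group Γ] [MulAction Γ X] {T : Lst X J.n} {gen : ℕ → Γ} {A : Subgroup Γ} (h : J.Model T gen A) : Cov h.M (J.el gen) [L0, L1, L2] R [nat_lit 128988, nat_lit 129096] :=
  cov_full (ctx h) n1048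

theorem cov1047 {Γ X : Type*} [Group Γ] [MulAction Γ X] {T : Lst X J.n} {gen : ℕ → Γ} {A : Subgroup Γ} (h : J.Model T gen A) : Cov h.M (J.el gen) [L0, L1, L2] R [nat_lit 128988, nat_lit 129024] :=
  cov_full (ctx h) n1047

theorem cov1046 {Γ X : Type*} [Group Γ] [MulAction Γ X] {T : Lst X J.n} {gen : ℕ → Γ} {A : Subgroup Γ} (h : J.Model T gen A) : Cov h.M (J.el gen) [L0, L1, L2] R [nat_lit 128988, nat_lit 115434] :=
  cov_full (ctx h) n1046

theorem cov1045 {Γ X : Type*} [Group Γ] [MulAction Γ X] {T : Lst X J.n} {gen : ℕ → Γ} {A : Subgroup Γ} (h : J.Model T gen A) : Cov h.M (J.el gen) [L0, L1, L2] R [nat_lit 128988, nat_lit 120780] :=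
  cov_full (ctx h) n1045

theorem cov1044 {Γ X : Type*} [Group Γ] [MulAction Γ X] {T : Lst X J.n} {gen : ℕ → Γ} {A : Subgroup Γ} (h : J.Model T gen A) : Cov h.M (J.el gen) [L0, L1, L2] R [nat_lit 128988, nat_lit 112590] :=
  cov_full (ctx h) n1044

theorem cov1043 {Γ X : Type*} [Group Γ] [MulAction Γ X] {T : Lst X J.n} {gen : ℕ → Γ} {A : Subgroup Γ} (h : J.Model T gen A) : Cov h.M (J.el gen) [L0, L1, L2] R [nat_lit 128988, nat_lit 112446] :=
  cov_full (ctx h) n1043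

theorem cov1042 {Γ X : Type*} [Group Γ] [MulAction Γ X] {T : Lst X J.n} {gen : ℕ → Γ} {A : Subgroup Γ} (h : J.Model T gen A) : Cov h.M (J.el gen) [L0, L1, L2] R [nat_lit 128988, nat_lit 112212] :=
  cov_full (ctx h) n1042

theorem cov1041 {Γ X : Type*} [Group Γ] [MulAction Γ X] {T : Lst X J.n} {gen : ℕ → Γ} {A : Subgroup Γ} (h : J.Model T gen A) : Cov h.M (J.el gen) [L0, L1, L2] R [nat_lit 128988, nat_lit 111240] :=
  cov_full (ctx h) n1041

theorem cov1040 {Γ X : Type*} [Group Γ] [MulAction Γ X] {T : Lst X J.n} {gen : ℕ → Γ} {A : Subgroup Γ} (h : J.Model T gen A) : Cov h.M (J.el gen) [L0, L1, L2] R [nat_lit 128988, nat_lit 124434] :=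
  cov_full (ctx h) n1040

theorem cov1039 {Γ X : Type*} [Group Γ] [MulAction Γ X] {T : Lst X J.n} {gen : ℕ → Γ} {A : Subgroup Γ} (h : J.Model T gen A) : Cov h.M (J.el gen) [L0, L1, L2] R [nat_lit 128988, nat_lit 110736] :=
  cov_full (ctx h) n1039

theorem cov1038 {Γ X : Type*} [Group Γ] [MulAction Γ X] {T : Lst X J.n} {gen : ℕ → Γ} {A : Subgroup Γ} (h : J.Model T gen A) : Cov h.M (J.el gen) [L0, L1, L2] R [nat_lit 128988, nat_lit 110646] :=
  cov_full (ctx h) n1038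

theorem cov1037 {Γ X : Type*} [Group Γ] [MulAction Γ X] {T : Lst X J.n} {gen : ℕ → Γ} {A : Subgroup Γ} (h : J.Model T gen A) : Cov h.M (J.el gen) [L0, L1, L2] R [nat_lit 128988, nat_lit 110592] :=
  cov_full (ctx h) n1037

theorem cov1036 {Γ X : Type*} [Group Γ] [MulAction Γ X] {T : Lst X J.n} {gen : ℕ → Γ} {A : Subgroup Γ} (h : J.Model T gen A) : Cov h.M (J.el gen) [L0, L1, L2] R [nat_lit 128988, nat_lit 98352] :=
  cov_full (ctx h) n1036

theorem cov1035 {Γ X : Type*} [Group Γ] [MulAction Γ X] {T : Lst X J.n} {gen : ℕ → Γ} {A : Subgroup Γ} (h : J.Model T gen A) : Cov h.M (J.el gen) [L0, L1, L2] R [nat_lit 128988, nat_lit 107838] :=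
  cov_full (ctx h) n1035

theorem cov1034 {Γ X : Type*} [Group Γ] [MulAction Γ X] {T : Lst X J.n} {gen : ℕ → Γ} {A : Subgroup Γ} (h : J.Model T gen A) : Cov h.M (J.el gen) [L0, L1, L2] R [nat_lit 128988, nat_lit 94302] :=
  cov_full (ctx h) n1034

theorem cov1033 {Γ X : Type*} [Group Γ] [MulAction Γ X] {T : Lst X J.n} {gen : ℕ → Γ} {A : Subgroup Γ} (h : J.Model T gen A) : Cov h.M (J.el gen) [L0, L1, L2] R [nat_lit 128988, nat_lit 97794] :=
  cov_full (ctx h) n1033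

theorem cov1032 {Γ X : Type*} [Group Γ] [MulAction Γ X] {T : Lst X J.n} {gen : ℕ → Γ} {A : Subgroup Γ} (h : J.Model T gen A) : Cov h.M (J.el gen) [L0, L1, L2] R [nat_lit 128988, nat_lit 102168] :=
  cov_full (ctx h) n1032

theorem cov1031 {Γ X : Type*} [Group Γ] [MulAction Γ X] {T : Lst X J.n} {gen : ℕ → Γ} {A : Subgroup Γ} (h : J.Model T gen A) : Cov h.M (J.el gen) [L0, L1, L2] R [nat_lit 128988, nat_lit 92610] :=
  cov_full (ctx h) n1031

theorem cov1030 {Γ X : Type*} [Group Γ] [MulAction Γ X] {T : Lst X J.n} {gen : ℕ → Γ} {A : Subgroup Γ} (h : J.Model T gen A) : Cov h.M (J.el gen) [L0, L1, L2] R [nat_lit 128988, nat_lit 92376] :=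
  cov_full (ctx h) n1030

theorem cov1029 {Γ X : Type*} [Group Γ] [MulAction Γ X] {T : Lst X J.n} {gen : ℕ → Γ} {A : Subgroup Γ} (h : J.Model T gen A) : Cov h.M (J.el gen) [L0, L1, L2] R [nat_lit 128988, nat_lit 103518] :=
  cov_full (ctx h) n1029

theorem cov1028 {Γ X : Type*} [Group Γ] [MulAction Γ X] {T : Lst X J.n} {gen : ℕ → Γ} {A : Subgroup Γ} (h : J.Model T gen A) : Cov h.M (J.el gen) [L0, L1, L2] R [nat_lit 128988, nat_lit 92250] :=
  cov_full (ctx h) n1028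

theorem cov1027 {Γ X : Type*} [Group Γ] [MulAction Γ X] {T : Lst X J.n} {gen : ℕ → Γ} {A : Subgroup Γ} (h : J.Model T gen A) : Cov h.M (J.el gen) [L0, L1, L2] R [nat_lit 128988, nat_lit 92160] :=
  cov_full (ctx h) n1027

theorem cov1026 {Γ X : Type*} [Group Γ] [MulAction Γ X] {T : Lst X J.n} {gen : ℕ → Γ} {A : Subgroup Γ} (h : J.Model T gen A) : Cov h.M (J.el gen) [L0, L1, L2] R [nat_lit 128988, nat_lit 78246] :=
  cov_full (ctx h) n1026

theorem cov1025 {Γ X : Type*} [Group Γ] [MulAction Γ X] {T : Lst X J.n} {gen : ℕ → Γ} {A : Subgroup Γ} (h : J.Model T gen A) : Cov h.M (J.el gen) [L0, L1, L2] R [nat_lit 128988, nat_lit 77850] :=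
  cov_full (ctx h) n1025

theorem cov1024 {Γ X : Type*} [Group Γ] [MulAction Γ X] {T : Lst X J.n} {gen : ℕ → Γ} {A : Subgroup Γ} (h : J.Model T gen A) : Cov h.M (J.el gen) [L0, L1, L2] R [nat_lit 128988, nat_lit 89100] :=
  cov_full (ctx h) n1024

theorem cov1023 {Γ X : Type*} [Group Γ] [MulAction Γ X] {T : Lst X J.n} {gen : ℕ → Γ} {A : Subgroup Γ} (h : J.Model T gen A) : Cov h.M (J.el gen) [L0, L1, L2] R [nat_lit 128988, nat_lit 84636] :=
  cov_full (ctx h) n1023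

theorem cov1022 {Γ X : Type*} [Group Γ] [MulAction Γ X] {T : Lst X J.n} {gen : ℕ → Γ} {A : Subgroup Γ} (h : J.Model T gen A) : Cov h.M (J.el gen) [L0, L1, L2] R [nat_lit 128988, nat_lit 84402] :=
  cov_full (ctx h) n1022

theorem cov1021 {Γ X : Type*} [Group Γ] [MulAction Γ X] {T : Lst X J.n} {gen : ℕ → Γ} {A : Subgroup Γ} (h : J.Model T gen A) : Cov h.M (J.el gen) [L0, L1, L2] R [nat_lit 128988, nat_lit 83232] :=
  cov_full (ctx h) n1021

theorem cov1020 {Γ X : Type*} [Group Γ] [MulAction Γ X] {T : Lst X J.n} {gen : ℕ → Γ} {A : Subgroup Γ} (h : J.Model T gen A) : Cov h.M (J.el gen) [L0, L1, L2] R [nat_lit 128988, nat_lit 85590] :=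
  cov_full (ctx h) n1020

theorem cov1019 {Γ X : Type*} [Group Γ] [MulAction Γ X] {T : Lst X J.n} {gen : ℕ → Γ} {A : Subgroup Γ} (h : J.Model T gen A) : Cov h.M (J.el gen) [L0, L1, L2] R [nat_lit 128988, nat_lit 82512] :=
  cov_full (ctx h) n1019

theorem cov1018 {Γ X : Type*} [Group Γ] [MulAction Γ X] {T : Lst X J.n} {gen : ℕ → Γ} {A : Subgroup Γ} (h : J.Model T gen A) : Cov h.M (J.el gen) [L0, L1, L2] R [nat_lit 128988, nat_lit 75654] :=
  cov_full (ctx h) n1018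

theorem cov1017 {Γ X : Type*} [Group Γ] [MulAction Γ X] {T : Lst X J.n} {gen : ℕ → Γ} {A : Subgroup Γ} (h : J.Model T gen A) : Cov h.M (J.el gen) [L0, L1, L2] R [nat_lit 128988, nat_lit 80568] :=
  cov_full (ctx h) n1017

theorem cov1016 {Γ X : Type*} [Group Γ] [MulAction Γ X] {T : Lst X J.n} {gen : ℕ → Γ} {A : Subgroup Γ} (h : J.Model T gen A) : Cov h.M (J.el gen) [L0, L1, L2] R [nat_lit 128988, nat_lit 73944] :=
  cov_full (ctx h) n1016

theorem cov1015 {Γ X : Type*} [Group Γ] [MulAction Γ X] {T : Lst X J.n} {gen : ℕ → Γ} {A : Subgroup Γ} (h : J.Model T gen A) : Cov h.M (J.el gen) [L0, L1, L2] R [nat_lit 128988, nat_lit 73872] :=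
  cov_full (ctx h) n1015

theorem cov1014 {Γ X : Type*} [Group Γ] [MulAction Γ X] {T : Lst X J.n} {gen : ℕ → Γ} {A : Subgroup Γ} (h : J.Model T gen A) : Cov h.M (J.el gen) [L0, L1, L2] R [nat_lit 128988, nat_lit 74088] :=
  cov_full (ctx h) n1014

theorem cov1013 {Γ X : Type*} [Group Γ] [MulAction Γ X] {T : Lst X J.n} {gen : ℕ → Γ} {A : Subgroup Γ} (h : J.Model T gen A) : Cov h.M (J.el gen) [L0, L1, L2] R [nat_lit 128988, nat_lit 73728] :=
  cov_full (ctx h) n1013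

theorem cov1012 {Γ X : Type*} [Group Γ] [MulAction Γ X] {T : Lst X J.n} {gen : ℕ → Γ} {A : Subgroup Γ} (h : J.Model T gen A) : Cov h.M (J.el gen) [L0, L1, L2] R [nat_lit 128988] :=
  cov_red (ctx h) h.hAV n1012 (forall_mem_cons' (cov1013 h) (forall_mem_cons' (cov1014 h) (forall_mem_cons' (cov1015 h) (forall_mem_cons' (cov1016 h) (forall_mem_cons' (cov1017 h) (forall_mem_cons' (cov1018 h) (forall_mem_cons' (cov1019 h) (forall_mem_cons' (cov1020 h) (forall_mem_cons' (cov1021 h) (forall_mem_cons' (cov1022 h) (forall_mem_cons' (cov1023 h) (forall_mem_cons' (cov1024 h) (forall_mem_cons' (cov1025 h) (forall_mem_cons' (cov1026 h) (forall_mem_cons' (cov1027 h) (forall_mem_cons' (cov1028 h) (forall_mem_cons' (cov1029 h) (forall_mem_cons' (cov1030 h) (forall_mem_cons' (cov1031 h) (forall_mem_cons' (cov1032 h) (forall_mem_cons' (cov1033 h) (forall_mem_cons' (cov1034 h) (forall_mem_cons' (cov1035 h) (forall_mem_cons' (cov1036 h)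 (forall_mem_cons' (cov1037 h) (forall_mem_cons' (cov1038 h) (forall_mem_cons' (cov1039 h) (forall_mem_cons' (cov1040 h) (forall_mem_cons' (cov1041 h) (forall_mem_cons' (cov1042 h) (forall_mem_cons' (cov1043 h) (forall_mem_cons' (cov1044 h) (forall_mem_cons' (cov1045 h) (forall_mem_cons' (cov1046 h) (forall_mem_cons' (cov1047 h) (forall_mem_cons' (cov1048 h) (forall_mem_cons' (cov1049 h) (forall_mem_cons' (cov1050 h) (forall_mem_cons' (cov1051 h) (forall_mem_cons' (cov1052 h) (forall_mem_cons' (cov1053 h) (forall_mem_cons' (cov1054 h) (forall_mem_cons' (cov1055 h) (forall_mem_cons' (cov1056 h) forall_mem_nil'))))))))))))))))))))))))))))))))))))))))))))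

theorem cov1011 {Γ X : Type*} [Group Γ] [MulAction Γ X] {T : Lst X J.n} {gen : ℕ → Γ} {A : Subgroup Γ} (h : J.Model T gen A) : Cov h.M (J.el gen) [L0, L1, L2] R [nat_lit 110574, nat_lit 143622] :=
  cov_full (ctx h) n1011

theorem cov1010 {Γ X : Type*} [Group Γ] [MulAction Γ X] {T : Lst X J.n} {gen : ℕ → Γ} {A : Subgroup Γ} (h : J.Model T gen A) : Cov h.M (J.el gen) [L0, L1, L2] R [nat_lit 110574, nat_lit 146088] :=
  cov_full (ctx h) n1010

theorem cov1009 {Γ X : Type*} [Group Γ] [MulAction Γ X] {T : Lst X J.n} {gen : ℕ → Γ} {A : Subgroup Γ} (h : J.Model T gen A) : Cov h.M (J.el gen) [L0, L1, L2] R [nat_lit 110574, nat_lit 135630] :=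
  cov_full (ctx h) n1009

theorem cov1008 {Γ X : Type*} [Group Γ] [MulAction Γ X] {T : Lst X J.n} {gen : ℕ → Γ} {A : Subgroup Γ} (h : J.Model T gen A) : Cov h.M (J.el gen) [L0, L1, L2] R [nat_lit 110574, nat_lit 130752] :=
  cov_full (ctx h) n1008

theorem cov1007 {Γ X : Type*} [Group Γ] [MulAction Γ X] {T : Lst X J.n} {gen : ℕ → Γ} {A : Subgroup Γ} (h : J.Model T gen A) : Cov h.M (J.el gen) [L0, L1, L2] R [nat_lit 110574, nat_lit 130590] :=
  cov_full (ctx h) n1007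

theorem cov1006 {Γ X : Type*} [Group Γ] [MulAction Γ X] {T : Lst X J.n} {gen : ℕ → Γ} {A : Subgroup Γ} (h : J.Model T gen A) : Cov h.M (J.el gen) [L0, L1, L2] R [nat_lit 110574, nat_lit 129960] :=
  cov_full (ctx h) n1006

theorem cov1005 {Γ X : Type*} [Group Γ] [MulAction Γ X] {T : Lst X J.n} {gen : ℕ → Γ} {A : Subgroup Γ} (h : J.Model T gen A) : Cov h.M (J.el gen) [L0, L1, L2] R [nat_lit 110574, nat_lit 129240] :=
  cov_full (ctx h) n1005

theorem cov1004 {Γ X : Type*} [Group Γ] [MulAction Γ X] {T : Lst X J.n} {gen : ℕ → Γ} {A : Subgroup Γ} (h : J.Model T gen A) : Cov h.M (J.el gen) [L0, L1, L2] R [nat_lit 110574, nat_lit 129150] :=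
  cov_full (ctx h) n1004

theorem cov1003 {Γ X : Type*} [Group Γ] [MulAction Γ X] {T : Lst X J.n} {gen : ℕ → Γ} {A : Subgroup Γ} (h : J.Model T gen A) : Cov h.M (J.el gen) [L0, L1, L2] R [nat_lit 110574, nat_lit 133650] :=
  cov_full (ctx h) n1003

theorem cov1002 {Γ X : Type*} [Group Γ] [MulAction Γ X] {T : Lst X J.n} {gen : ℕ → Γ} {A : Subgroup Γ} (h : J.Model T gen A) : Cov h.M (J.el gen) [L0, L1, L2] R [nat_lit 110574, nat_lit 129006] :=
  cov_full (ctx h) n1002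

theorem cov1001 {Γ X : Type*} [Group Γ] [MulAction Γ X] {T : Lst X J.n} {gen : ℕ → Γ} {A : Subgroup Γ} (h : J.Model T gen A) : Cov h.M (J.el gen) [L0, L1, L2] R [nat_lit 110574, nat_lit 119466] :=
  cov_full (ctx h) n1001

theorem cov1000 {Γ X : Type*} [Group Γ] [MulAction Γ X] {T : Lst X J.n} {gen : ℕ → Γ} {A : Subgroup Γ} (h : J.Model T gen A) : Cov h.M (J.el gen) [L0, L1, L2] R [nat_lit 110574, nat_lit 116820] :=
  cov_full (ctx h) n1000

theorem cov999 {Γ X : Type*} [Group Γ] [MulAction Γ X] {T : Lst X J.n} {gen : ℕ → Γ} {A : Subgroup Γ} (h : J.Model T gen A) : Cov h.M (J.el gen) [L0, L1, L2] R [nat_lit 110574, nat_lit 127944] :=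
  cov_full (ctx h) n999

theorem cov998 {Γ X : Type*} [Group Γ] [MulAction Γ X] {T : Lst X J.n} {gen : ℕ → Γ} {A : Subgroup Γ} (h : J.Model T gen A) : Cov h.M (J.el gen) [L0, L1, L2] R [nat_lit 110574, nat_lit 126144] :=
  cov_full (ctx h) n998

theorem cov997 {Γ X : Type*} [Group Γ] [MulAction Γ X] {T : Lst X J.n} {gen : ℕ → Γ} {A : Subgroup Γ} (h : J.Model T gen A) : Cov h.M (J.el gen) [L0, L1, L2] R [nat_lit 110574, nat_lit 121230] :=
  cov_full (ctx h) n997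

theorem cov996 {Γ X : Type*} [Group Γ] [MulAction Γ X] {T : Lst X J.n} {gen : ℕ → Γ} {A : Subgroup Γ} (h : J.Model T gen A) : Cov h.M (J.el gen) [L0, L1, L2] R [nat_lit 110574, nat_lit 117450] :=
  cov_full (ctx h) n996

theorem cov995 {Γ X : Type*} [Group Γ] [MulAction Γ X] {T : Lst X J.n} {gen : ℕ → Γ} {A : Subgroup Γ} (h : J.Model T gen A) : Cov h.M (J.el gen) [L0, L1, L2] R [nat_lit 110574, nat_lit 126378] :=
  cov_full (ctx h) n995

theorem cov994 {Γ X : Type*} [Group Γ] [MulAction Γ X] {T : Lst X J.n} {gen : ℕ → Γ} {A : Subgroup Γ} (h : J.Model T gen A) : Cov h.M (J.el gen) [L0, L1, L2] R [nat_lit 110574, nat_lit 119808] :=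
  cov_full (ctx h) n994

theorem cov993 {Γ X : Type*} [Group Γ] [MulAction Γ X] {T : Lst X J.n} {gen : ℕ → Γ} {A : Subgroup Γ} (h : J.Model T gen A) : Cov h.M (J.el gen) [L0, L1, L2] R [nat_lit 110574, nat_lit 115182] :=
  cov_full (ctx h) n993

theorem cov992 {Γ X : Type*} [Group Γ] [MulAction Γ X] {T : Lst X J.n} {gen : ℕ → Γ} {A : Subgroup Γ} (h : J.Model T gen A) : Cov h.M (J.el gen) [L0, L1, L2] R [nat_lit 110574, nat_lit 110592] :=
  cov_full (ctx h) n992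

theorem cov991 {Γ X : Type*} [Group Γ] [MulAction Γ X] {T : Lst X J.n} {gen : ℕ → Γ} {A : Subgroup Γ} (h : J.Model T gen A) : Cov h.M (J.el gen) [L0, L1, L2] R [nat_lit 110574, nat_lit 107334] :=
  cov_full (ctx h) n991

theorem cov990 {Γ X : Type*} [Group Γ] [MulAction Γ X] {T : Lst X J.n} {gen : ℕ → Γ} {A : Subgroup Γ} (h : J.Model T gen A) : Cov h.M (J.el gen) [L0, L1, L2] R [nat_lit 110574, nat_lit 100998] :=
  cov_full (ctx h) n990

theorem cov989 {Γ X : Type*} [Group Γ] [MulAction Γ X] {T : Lst X J.n} {gen : ℕ → Γ} {A : Subgroup Γ} (h : J.Model T gen A) : Cov h.M (J.el gen) [L0, L1, L2] R [nat_lit 110574, nat_lit 97866] :=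
  cov_full (ctx h) n989

theorem cov988 {Γ X : Type*} [Group Γ] [MulAction Γ X] {T : Lst X J.n} {gen : ℕ → Γ} {A : Subgroup Γ} (h : J.Model T gen A) : Cov h.M (J.el gen) [L0, L1, L2] R [nat_lit 110574, nat_lit 94968] :=
  cov_full (ctx h) n988

theorem cov987 {Γ X : Type*} [Group Γ] [MulAction Γ X] {T : Lst X J.n} {gen : ℕ → Γ} {A : Subgroup Γ} (h : J.Model T gen A) : Cov h.M (J.el gen) [L0, L1, L2] R [nat_lit 110574, nat_lit 93780] :=
  cov_full (ctx h) n987

theorem cov986 {Γ X : Type*} [Group Γ] [MulAction Γ X] {T : Lst X J.n} {gen : ℕ → Γ} {A : Subgroup Γ} (h : J.Model T gen A) : Cov h.M (J.el gen) [L0, L1, L2] R [nat_lit 110574, nat_lit 101934] :=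
  cov_full (ctx h) n986

theorem cov985 {Γ X : Type*} [Group Γ] [MulAction Γ X] {T : Lst X J.n} {gen : ℕ → Γ} {A : Subgroup Γ} (h : J.Model T gen A) : Cov h.M (J.el gen) [L0, L1, L2] R [nat_lit 110574, nat_lit 107892] :=
  cov_full (ctx h) n985

theorem cov984 {Γ X : Type*} [Group Γ] [MulAction Γ X] {T : Lst X J.n} {gen : ℕ → Γ} {A : Subgroup Γ} (h : J.Model T gen A) : Cov h.M (J.el gen) [L0, L1, L2] R [nat_lit 110574, nat_lit 92268] :=
  cov_full (ctx h) n984

theorem cov983 {Γ X : Type*} [Group Γ] [MulAction Γ X] {T : Lst X J.n} {gen : ℕ → Γ} {A : Subgroup Γ} (h : J.Model T gen A) : Cov h.M (J.el gen) [L0, L1, L2] R [nat_lit 110574, nat_lit 96732] :=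
  cov_full (ctx h) n983

theorem cov982 {Γ X : Type*} [Group Γ] [MulAction Γ X] {T : Lst X J.n} {gen : ℕ → Γ} {A : Subgroup Γ} (h : J.Model T gen A) : Cov h.M (J.el gen) [L0, L1, L2] R [nat_lit 110574, nat_lit 92124] :=
  cov_full (ctx h) n982

theorem cov981 {Γ X : Type*} [Group Γ] [MulAction Γ X] {T : Lst X J.n} {gen : ℕ → Γ} {A : Subgroup Γ} (h : J.Model T gen A) : Cov h.M (J.el gen) [L0, L1, L2] R [nat_lit 110574, nat_lit 78174] :=
  cov_full (ctx h) n981

theorem cov980 {Γ X : Type*} [Group Γ] [MulAction Γ X] {T : Lst X J.n} {gen : ℕ → Γ} {A : Subgroup Γ} (h : J.Model T gen A) : Cov h.M (J.el gen) [L0, L1, L2] R [nat_lit 110574, nat_lit 77958] :=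
  cov_full (ctx h) n980

theorem cov979 {Γ X : Type*} [Group Γ] [MulAction Γ X] {T : Lst X J.n} {gen : ℕ → Γ} {A : Subgroup Γ} (h : J.Model T gen A) : Cov h.M (J.el gen) [L0, L1, L2] R [nat_lit 110574, nat_lit 88182] :=
  cov_full (ctx h) n979

theorem cov978 {Γ X : Type*} [Group Γ] [MulAction Γ X] {T : Lst X J.n} {gen : ℕ → Γ} {A : Subgroup Γ} (h : J.Model T gen A) : Cov h.M (J.el gen) [L0, L1, L2] R [nat_lit 110574, nat_lit 77328] :=
  cov_full (ctx h) n978

theorem cov977 {Γ X : Type*} [Group Γ] [MulAction Γ X] {T : Lst X J.n} {gen : ℕ → Γ} {A : Subgroup Γ} (h : J.Model T gen A) : Cov h.M (J.el gen) [L0, L1, L2] R [nat_lit 110574, nat_lit 76950] :=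
  cov_full (ctx h) n977

theorem cov976 {Γ X : Type*} [Group Γ] [MulAction Γ X] {T : Lst X J.n} {gen : ℕ → Γ} {A : Subgroup Γ} (h : J.Model T gen A) : Cov h.M (J.el gen) [L0, L1, L2] R [nat_lit 110574, nat_lit 76752] :=
  cov_full (ctx h) n976

theorem cov975 {Γ X : Type*} [Group Γ] [MulAction Γ X] {T : Lst X J.n} {gen : ℕ → Γ} {A : Subgroup Γ} (h : J.Model T gen A) : Cov h.M (J.el gen) [L0, L1, L2] R [nat_lit 110574, nat_lit 76500] :=
  cov_full (ctx h) n975

theorem cov974 {Γ X : Type*} [Group Γ] [MulAction Γ X] {T : Lst X J.n} {gen : ℕ → Γ} {A : Subgroup Γ} (h : J.Model T gen A) : Cov h.M (J.el gen) [L0, L1, L2] R [nat_lit 110574, nat_lit 79398] :=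
  cov_full (ctx h) n974

theorem cov973 {Γ X : Type*} [Group Γ] [MulAction Γ X] {T : Lst X J.n} {gen : ℕ → Γ} {A : Subgroup Γ} (h : J.Model T gen A) : Cov h.M (J.el gen) [L0, L1, L2] R [nat_lit 110574, nat_lit 80838] :=
  cov_full (ctx h) n973

theorem cov972 {Γ X : Type*} [Group Γ] [MulAction Γ X] {T : Lst X J.n} {gen : ℕ → Γ} {A : Subgroup Γ} (h : J.Model T gen A) : Cov h.M (J.el gen) [L0, L1, L2] R [nat_lit 110574, nat_lit 79218] :=
  cov_full (ctx h) n972

theorem cov971 {Γ X : Type*} [Group Γ] [MulAction Γ X] {T : Lst X J.n} {gen : ℕ → Γ} {A : Subgroup Γ} (h : J.Model T gen A) : Cov h.M (J.el gen) [L0, L1, L2] R [nat_lit 110574, nat_lit 73962] :=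
  cov_full (ctx h) n971

theorem cov970 {Γ X : Type*} [Group Γ] [MulAction Γ X] {T : Lst X J.n} {gen : ℕ → Γ} {A : Subgroup Γ} (h : J.Model T gen A) : Cov h.M (J.el gen) [L0, L1, L2] R [nat_lit 110574, nat_lit 74466] :=
  cov_full (ctx h) n970

theorem cov969 {Γ X : Type*} [Group Γ] [MulAction Γ X] {T : Lst X J.n} {gen : ℕ → Γ} {A : Subgroup Γ} (h : J.Model T gen A) : Cov h.M (J.el gen) [L0, L1, L2] R [nat_lit 110574, nat_lit 74034] :=
  cov_full (ctx h) n969

theorem cov968 {Γ X : Type*} [Group Γ] [MulAction Γ X] {T : Lst X J.n} {gen : ℕ → Γ} {A : Subgroup Γ} (h : J.Model T gen A) : Cov h.M (J.el gen) [L0, L1, L2] R [nat_lit 110574, nat_lit 73746] :=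
  cov_full (ctx h) n968

theorem cov967 {Γ X : Type*} [Group Γ] [MulAction Γ X] {T : Lst X J.n} {gen : ℕ → Γ} {A : Subgroup Γ} (h : J.Model T gen A) : Cov h.M (J.el gen) [L0, L1, L2] R [nat_lit 110574] :=
  cov_red (ctx h) h.hAV n967 (forall_mem_cons' (cov968 h) (forall_mem_cons' (cov969 h) (forall_mem_cons' (cov970 h) (forall_mem_cons' (cov971 h) (forall_mem_cons' (cov972 h) (forall_mem_cons' (cov973 h) (forall_mem_cons' (cov974 h) (forall_mem_cons' (cov975 h) (forall_mem_cons' (cov976 h) (forall_mem_cons' (cov977 h) (forall_mem_cons' (cov978 h) (forall_mem_cons' (cov979 h) (forall_mem_cons' (cov980 h) (forall_mem_cons' (cov981 h) (forall_mem_cons' (cov982 h) (forall_mem_cons' (cov983 h) (forall_mem_cons' (cov984 h) (forall_mem_cons' (cov985 h) (forall_mem_cons' (cov986 h) (forall_mem_cons' (cov987 h) (forall_mem_cons' (cov988 h) (forall_mem_cons' (cov989 h) (forall_mem_cons' (cov990 h) (forall_mem_cons' (cov991 h) (forall_mem_cons'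 (cov992 h) (forall_mem_cons' (cov993 h) (forall_mem_cons' (cov994 h) (forall_mem_cons' (cov995 h) (forall_mem_cons' (cov996 h) (forall_mem_cons' (cov997 h) (forall_mem_cons' (cov998 h) (forall_mem_cons' (cov999 h) (forall_mem_cons' (cov1000 h) (forall_mem_cons' (cov1001 h) (forall_mem_cons' (cov1002 h) (forall_mem_cons' (cov1003 h) (forall_mem_cons' (cov1004 h) (forall_mem_cons' (cov1005 h) (forall_mem_cons' (cov1006 h) (forall_mem_cons' (cov1007 h) (forall_mem_cons' (cov1008 h) (forall_mem_cons' (cov1009 h) (forall_mem_cons' (cov1010 h) (forall_mem_cons' (cov1011 h) forall_mem_nil'))))))))))))))))))))))))))))))))))))))))))))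

theorem cov966 {Γ X : Type*} [Group Γ] [MulAction Γ X] {T : Lst X J.n} {gen : ℕ → Γ} {A : Subgroup Γ} (h : J.Model T gen A) : Cov h.M (J.el gen) [L0, L1, L2] R [nat_lit 92124, nat_lit 134586] :=
  cov_full (ctx h) n966

theorem cov965 {Γ X : Type*} [Group Γ] [MulAction Γ X] {T : Lst X J.n} {gen : ℕ → Γ} {A : Subgroup Γ} (h : J.Model T gen A) : Cov h.M (J.el gen) [L0, L1, L2] R [nat_lit 92124, nat_lit 142074] :=
  cov_full (ctx h) n965

theorem cov964 {Γ X : Type*} [Group Γ] [MulAction Γ X] {T : Lst X J.n} {gen : ℕ → Γ} {A : Subgroup Γ} (h : J.Model T gen A) : Cov h.M (J.el gen) [L0, L1, L2] R [nat_lit 92124, nat_lit 131958] :=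
  cov_full (ctx h) n964

theorem cov963 {Γ X : Type*} [Group Γ] [MulAction Γ X] {T : Lst X J.n} {gen : ℕ → Γ} {A : Subgroup Γ} (h : J.Model T gen A) : Cov h.M (J.el gen) [L0, L1, L2] R [nat_lit 92124, nat_lit 131724] :=
  cov_full (ctx h) n963

theorem cov962 {Γ X : Type*} [Group Γ] [MulAction Γ X] {T : Lst X J.n} {gen : ℕ → Γ} {A : Subgroup Γ} (h : J.Model T gen A) : Cov h.M (J.el gen) [L0, L1, L2] R [nat_lit 92124, nat_lit 133686] :=
  cov_full (ctx h) n962

theorem cov961 {Γ X : Type*} [Group Γ] [MulAction Γ X] {T : Lst X J.n} {gen : ℕ → Γ} {A : Subgroup Γ} (h : J.Model T gen A) : Cov h.M (J.el gen) [L0, L1, L2] R [nat_lit 92124, nat_lit 143118] :=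
  cov_full (ctx h) n961

theorem cov960 {Γ X : Type*} [Group Γ] [MulAction Γ X] {T : Lst X J.n} {gen : ℕ → Γ} {A : Subgroup Γ} (h : J.Model T gen A) : Cov h.M (J.el gen) [L0, L1, L2] R [nat_lit 92124, nat_lit 129240] :=
  cov_full (ctx h) n960

theorem cov959 {Γ X : Type*} [Group Γ] [MulAction Γ X] {T : Lst X J.n} {gen : ℕ → Γ} {A : Subgroup Γ} (h : J.Model T gen A) : Cov h.M (J.el gen) [L0, L1, L2] R [nat_lit 92124, nat_lit 140382] :=
  cov_full (ctx h) n959

theorem cov958 {Γ X : Type*} [Group Γ] [MulAction Γ X] {T : Lst X J.n} {gen : ℕ → Γ} {A : Subgroup Γ} (h : J.Model T gen A) : Cov h.M (J.el gen) [L0, L1, L2] R [nat_lit 92124, nat_lit 133650] :=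
  cov_full (ctx h) n958

theorem cov957 {Γ X : Type*} [Group Γ] [MulAction Γ X] {T : Lst X J.n} {gen : ℕ → Γ} {A : Subgroup Γ} (h : J.Model T gen A) : Cov h.M (J.el gen) [L0, L1, L2] R [nat_lit 92124, nat_lit 129006] :=
  cov_full (ctx h) n957

theorem cov956 {Γ X : Type*} [Group Γ] [MulAction Γ X] {T : Lst X J.n} {gen : ℕ → Γ} {A : Subgroup Γ} (h : J.Model T gen A) : Cov h.M (J.el gen) [L0, L1, L2] R [nat_lit 92124, nat_lit 124578] :=
  cov_full (ctx h) n956

theorem cov955 {Γ X : Type*} [Group Γ] [MulAction Γ X] {T : Lst X J.n} {gen : ℕ → Γ} {A : Subgroup Γ} (h : J.Model T gen A) : Cov h.M (J.el gen) [L0, L1, L2] R [nat_lit 92124, nat_lit 115524] :=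
  cov_full (ctx h) n955

theorem cov954 {Γ X : Type*} [Group Γ] [MulAction Γ X] {T : Lst X J.n} {gen : ℕ → Γ} {A : Subgroup Γ} (h : J.Model T gen A) : Cov h.M (J.el gen) [L0, L1, L2] R [nat_lit 92124, nat_lit 116550] :=
  cov_full (ctx h) n954

theorem cov953 {Γ X : Type*} [Group Γ] [MulAction Γ X] {T : Lst X J.n} {gen : ℕ → Γ} {A : Subgroup Γ} (h : J.Model T gen A) : Cov h.M (J.el gen) [L0, L1, L2] R [nat_lit 92124, nat_lit 112392] :=
  cov_full (ctx h) n953

theorem cov952 {Γ X : Type*} [Group Γ] [MulAction Γ X] {T : Lst X J.n} {gen : ℕ → Γ} {A : Subgroup Γ} (h : J.Model T gen A) : Cov h.M (J.el gen) [L0, L1, L2] R [nat_lit 92124, nat_lit 113832] :=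
  cov_full (ctx h) n952

theorem cov951 {Γ X : Type*} [Group Γ] [MulAction Γ X] {T : Lst X J.n} {gen : ℕ → Γ} {A : Subgroup Γ} (h : J.Model T gen A) : Cov h.M (J.el gen) [L0, L1, L2] R [nat_lit 92124, nat_lit 111330] :=
  cov_full (ctx h) n951

theorem cov950 {Γ X : Type*} [Group Γ] [MulAction Γ X] {T : Lst X J.n} {gen : ℕ → Γ} {A : Subgroup Γ} (h : J.Model T gen A) : Cov h.M (J.el gen) [L0, L1, L2] R [nat_lit 92124, nat_lit 110790] :=
  cov_full (ctx h) n950

theorem cov949 {Γ X : Type*} [Group Γ] [MulAction Γ X] {T : Lst X J.n} {gen : ℕ → Γ} {A : Subgroup Γ} (h : J.Model T gen A) : Cov h.M (J.el gen) [L0, L1, L2] R [nat_lit 92124, nat_lit 110754] :=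
  cov_full (ctx h) n949

theorem cov948 {Γ X : Type*} [Group Γ] [MulAction Γ X] {T : Lst X J.n} {gen : ℕ → Γ} {A : Subgroup Γ} (h : J.Model T gen A) : Cov h.M (J.el gen) [L0, L1, L2] R [nat_lit 92124, nat_lit 116712] :=
  cov_full (ctx h) n948

theorem cov947 {Γ X : Type*} [Group Γ] [MulAction Γ X] {T : Lst X J.n} {gen : ℕ → Γ} {A : Subgroup Γ} (h : J.Model T gen A) : Cov h.M (J.el gen) [L0, L1, L2] R [nat_lit 92124, nat_lit 110574] :=
  cov_full (ctx h) n947

theorem cov946 {Γ X : Type*} [Group Γ] [MulAction Γ X] {T : Lst X J.n} {gen : ℕ → Γ} {A : Subgroup Γ} (h : J.Model T gen A) : Cov h.M (J.el gen) [L0, L1, L2] R [nat_lit 92124, nat_lit 99558] :=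
  cov_full (ctx h) n946

theorem cov945 {Γ X : Type*} [Group Γ] [MulAction Γ X] {T : Lst X J.n} {gen : ℕ → Γ} {A : Subgroup Γ} (h : J.Model T gen A) : Cov h.M (J.el gen) [L0, L1, L2] R [nat_lit 92124, nat_lit 101268] :=
  cov_full (ctx h) n945

theorem cov944 {Γ X : Type*} [Group Γ] [MulAction Γ X] {T : Lst X J.n} {gen : ℕ → Γ} {A : Subgroup Γ} (h : J.Model T gen A) : Cov h.M (J.el gen) [L0, L1, L2] R [nat_lit 92124, nat_lit 98100] :=
  cov_full (ctx h) n944

theorem cov943 {Γ X : Type*} [Group Γ] [MulAction Γ X] {T : Lst X J.n} {gen : ℕ → Γ} {A : Subgroup Γ} (h : J.Model T gen A) : Cov h.M (J.el gen) [L0, L1, L2] R [nat_lit 92124, nat_lit 94860] :=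
  cov_full (ctx h) n943

theorem cov942 {Γ X : Type*} [Group Γ] [MulAction Γ X] {T : Lst X J.n} {gen : ℕ → Γ} {A : Subgroup Γ} (h : J.Model T gen A) : Cov h.M (J.el gen) [L0, L1, L2] R [nat_lit 92124, nat_lit 95328] :=
  cov_full (ctx h) n942

theorem cov941 {Γ X : Type*} [Group Γ] [MulAction Γ X] {T : Lst X J.n} {gen : ℕ → Γ} {A : Subgroup Γ} (h : J.Model T gen A) : Cov h.M (J.el gen) [L0, L1, L2] R [nat_lit 92124, nat_lit 95634] :=
  cov_full (ctx h) n941

theorem cov940 {Γ X : Type*} [Group Γ] [MulAction Γ X] {T : Lst X J.n} {gen : ℕ → Γ} {A : Subgroup Γ} (h : J.Model T gen A) : Cov h.M (J.el gen) [L0, L1, L2] R [nat_lit 92124, nat_lit 92394] :=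
  cov_full (ctx h) n940

theorem cov939 {Γ X : Type*} [Group Γ] [MulAction Γ X] {T : Lst X J.n} {gen : ℕ → Γ} {A : Subgroup Γ} (h : J.Model T gen A) : Cov h.M (J.el gen) [L0, L1, L2] R [nat_lit 92124, nat_lit 92304] :=
  cov_full (ctx h) n939

theorem cov938 {Γ X : Type*} [Group Γ] [MulAction Γ X] {T : Lst X J.n} {gen : ℕ → Γ} {A : Subgroup Γ} (h : J.Model T gen A) : Cov h.M (J.el gen) [L0, L1, L2] R [nat_lit 92124, nat_lit 92214] :=
  cov_full (ctx h) n938

theorem cov937 {Γ X : Type*} [Group Γ] [MulAction Γ X] {T : Lst X J.n} {gen : ℕ → Γ} {A : Subgroup Γ} (h : J.Model T gen A) : Cov h.M (J.el gen) [L0, L1, L2] R [nat_lit 92124, nat_lit 92142] :=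
  cov_full (ctx h) n937

theorem cov936 {Γ X : Type*} [Group Γ] [MulAction Γ X] {T : Lst X J.n} {gen : ℕ → Γ} {A : Subgroup Γ} (h : J.Model T gen A) : Cov h.M (J.el gen) [L0, L1, L2] R [nat_lit 92124, nat_lit 87966] :=
  cov_full (ctx h) n936

theorem cov935 {Γ X : Type*} [Group Γ] [MulAction Γ X] {T : Lst X J.n} {gen : ℕ → Γ} {A : Subgroup Γ} (h : J.Model T gen A) : Cov h.M (J.el gen) [L0, L1, L2] R [nat_lit 92124, nat_lit 91674] :=
  cov_full (ctx h) n935

theorem cov934 {Γ X : Type*} [Group Γ] [MulAction Γ X] {T : Lst X J.n} {gen : ℕ → Γ} {A : Subgroup Γ} (h : J.Model T gen A) : Cov h.M (J.el gen) [L0, L1, L2] R [nat_lit 92124, nat_lit 88632] :=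
  cov_full (ctx h) n934

theorem cov933 {Γ X : Type*} [Group Γ] [MulAction Γ X] {T : Lst X J.n} {gen : ℕ → Γ} {A : Subgroup Γ} (h : J.Model T gen A) : Cov h.M (J.el gen) [L0, L1, L2] R [nat_lit 92124, nat_lit 83574] :=
  cov_full (ctx h) n933

theorem cov932 {Γ X : Type*} [Group Γ] [MulAction Γ X] {T : Lst X J.n} {gen : ℕ → Γ} {A : Subgroup Γ} (h : J.Model T gen A) : Cov h.M (J.el gen) [L0, L1, L2] R [nat_lit 92124, nat_lit 76590] :=
  cov_full (ctx h) n932

theorem cov931 {Γ X : Type*} [Group Γ] [MulAction Γ X] {T : Lst X J.n} {gen : ℕ → Γ} {A : Subgroup Γ} (h : J.Model T gen A) : Cov h.M (J.el gen) [L0, L1, L2] R [nat_lit 92124, nat_lit 85122] :=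
  cov_full (ctx h) n931

theorem cov930 {Γ X : Type*} [Group Γ] [MulAction Γ X] {T : Lst X J.n} {gen : ℕ → Γ} {A : Subgroup Γ} (h : J.Model T gen A) : Cov h.M (J.el gen) [L0, L1, L2] R [nat_lit 92124, nat_lit 78930] :=
  cov_full (ctx h) n930

theorem cov929 {Γ X : Type*} [Group Γ] [MulAction Γ X] {T : Lst X J.n} {gen : ℕ → Γ} {A : Subgroup Γ} (h : J.Model T gen A) : Cov h.M (J.el gen) [L0, L1, L2] R [nat_lit 92124, nat_lit 78480] :=
  cov_full (ctx h) n929

theorem cov928 {Γ X : Type*} [Group Γ] [MulAction Γ X] {T : Lst X J.n} {gen : ℕ → Γ} {A : Subgroup Γ} (h : J.Model T gen A) : Cov h.M (J.el gen) [L0, L1, L2] R [nat_lit 92124, nat_lit 75276] :=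
  cov_full (ctx h) n928

theorem cov927 {Γ X : Type*} [Group Γ] [MulAction Γ X] {T : Lst X J.n} {gen : ℕ → Γ} {A : Subgroup Γ} (h : J.Model T gen A) : Cov h.M (J.el gen) [L0, L1, L2] R [nat_lit 92124, nat_lit 79092] :=
  cov_full (ctx h) n927

theorem cov926 {Γ X : Type*} [Group Γ] [MulAction Γ X] {T : Lst X J.n} {gen : ℕ → Γ} {A : Subgroup Γ} (h : J.Model T gen A) : Cov h.M (J.el gen) [L0, L1, L2] R [nat_lit 92124, nat_lit 74790] :=
  cov_full (ctx h) n926

theorem cov925 {Γ X : Type*} [Group Γ] [MulAction Γ X] {T : Lst X J.n} {gen : ℕ → Γ} {A : Subgroup Γ} (h : J.Model T gen A) : Cov h.M (J.el gen) [L0, L1, L2] R [nat_lit 92124, nat_lit 73854] :=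
  cov_full (ctx h) n925

theorem cov924 {Γ X : Type*} [Group Γ] [MulAction Γ X] {T : Lst X J.n} {gen : ℕ → Γ} {A : Subgroup Γ} (h : J.Model T gen A) : Cov h.M (J.el gen) [L0, L1, L2] R [nat_lit 92124, nat_lit 74214] :=
  cov_full (ctx h) n924

theorem cov923 {Γ X : Type*} [Group Γ] [MulAction Γ X] {T : Lst X J.n} {gen : ℕ → Γ} {A : Subgroup Γ} (h : J.Model T gen A) : Cov h.M (J.el gen) [L0, L1, L2] R [nat_lit 92124, nat_lit 73710] :=
  cov_full (ctx h) n923

theorem cov922 {Γ X : Type*} [Group Γ] [MulAction Γ X] {T : Lst X J.n} {gen : ℕ → Γ} {A : Subgroup Γ} (h : J.Model T gen A) : Cov h.M (J.el gen) [L0, L1, L2] R [nat_lit 92124] :=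
  cov_red (ctx h) h.hAV n922 (forall_mem_cons' (cov923 h) (forall_mem_cons' (cov924 h) (forall_mem_cons' (cov925 h) (forall_mem_cons' (cov926 h) (forall_mem_cons' (cov927 h) (forall_mem_cons' (cov928 h) (forall_mem_cons' (cov929 h) (forall_mem_cons' (cov930 h) (forall_mem_cons' (cov931 h) (forall_mem_cons' (cov932 h) (forall_mem_cons' (cov933 h) (forall_mem_cons' (cov934 h) (forall_mem_cons' (cov935 h) (forall_mem_cons' (cov936 h) (forall_mem_cons' (cov937 h) (forall_mem_cons' (cov938 h) (forall_mem_cons' (cov939 h) (forall_mem_cons' (cov940 h) (forall_mem_cons' (cov941 h) (forall_mem_cons' (cov942 h) (forall_mem_cons' (cov943 h) (forall_mem_cons' (cov944 h) (forall_mem_cons' (cov945 h) (forall_mem_cons' (cov946 h) (forall_mem_cons' (cov947 h) (forall_mem_cons' (cov948 h) (forall_mem_cons' (cov949 h) (forall_mem_cons' (cov950 h) (forall_mem_cons' (cov951 h) (forall_mem_cons' (cov952 h) (forall_mem_cons' (cov953 h) (forall_mem_cons'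 (cov954 h) (forall_mem_cons' (cov955 h) (forall_mem_cons' (cov956 h) (forall_mem_cons' (cov957 h) (forall_mem_cons' (cov958 h) (forall_mem_cons' (cov959 h) (forall_mem_cons' (cov960 h) (forall_mem_cons' (cov961 h) (forall_mem_cons' (cov962 h) (forall_mem_cons' (cov963 h) (forall_mem_cons' (cov964 h) (forall_mem_cons' (cov965 h) (forall_mem_cons' (cov966 h) forall_mem_nil'))))))))))))))))))))))))))))))))))))))))))))

theorem cov921 {Γ X : Type*} [Group Γ] [MulAction Γ X] {T : Lst X J.n} {gen : ℕ → Γ} {A : Subgroup Γ} (h : J.Model T gen A) : Cov h.M (J.el gen) [L0, L1, L2] R [nat_lit 89964, nat_lit 143622] :=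
  cov_full (ctx h) n921

theorem cov920 {Γ X : Type*} [Group Γ] [MulAction Γ X] {T : Lst X J.n} {gen : ℕ → Γ} {A : Subgroup Γ} (h : J.Model T gen A) : Cov h.M (J.el gen) [L0, L1, L2] R [nat_lit 89964, nat_lit 141066] :=
  cov_full (ctx h) n920

theorem cov919 {Γ X : Type*} [Group Γ] [MulAction Γ X] {T : Lst X J.n} {gen : ℕ → Γ} {A : Subgroup Γ} (h : J.Model T gen A) : Cov h.M (J.el gen) [L0, L1, L2] R [nat_lit 89964, nat_lit 137898] :=
  cov_full (ctx h) n919

theorem cov918 {Γ X : Type*} [Group Γ] [MulAction Γ X] {T : Lst X J.n} {gen : ℕ → Γ} {A : Subgroup Γ} (h : J.Model T gen A) : Cov h.M (J.el gen) [L0, L1, L2] R [nat_lit 89964, nat_lit 137808] :=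
  cov_full (ctx h) n918

theorem cov917 {Γ X : Type*} [Group Γ] [MulAction Γ X] {T : Lst X J.n} {gen : ℕ → Γ} {A : Subgroup Γ} (h : J.Model T gen A) : Cov h.M (J.el gen) [L0, L1, L2] R [nat_lit 89964, nat_lit 134532] :=
  cov_full (ctx h) n917

theorem cov916 {Γ X : Type*} [Group Γ] [MulAction Γ X] {T : Lst X J.n} {gen : ℕ → Γ} {A : Subgroup Γ} (h : J.Model T gen A) : Cov h.M (J.el gen) [L0, L1, L2] R [nat_lit 89964, nat_lit 138438] :=
  cov_full (ctx h) n916

theorem cov915 {Γ X : Type*} [Group Γ] [MulAction Γ X] {T : Lst X J.n} {gen : ℕ → Γ} {A : Subgroup Γ} (h : J.Model T gen A) : Cov h.M (J.el gen) [L0, L1, L2] R [nat_lit 89964, nat_lit 133974] :=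
  cov_full (ctx h) n915

theorem cov914 {Γ X : Type*} [Group Γ] [MulAction Γ X] {T : Lst X J.n} {gen : ℕ → Γ} {A : Subgroup Γ} (h : J.Model T gen A) : Cov h.M (J.el gen) [L0, L1, L2] R [nat_lit 89964, nat_lit 133830] :=
  cov_full (ctx h) n914

theorem cov913 {Γ X : Type*} [Group Γ] [MulAction Γ X] {T : Lst X J.n} {gen : ℕ → Γ} {A : Subgroup Γ} (h : J.Model T gen A) : Cov h.M (J.el gen) [L0, L1, L2] R [nat_lit 89964, nat_lit 138330] :=
  cov_full (ctx h) n913

theorem cov912 {Γ X : Type*} [Group Γ] [MulAction Γ X] {T : Lst X J.n} {gen : ℕ → Γ} {A : Subgroup Γ} (h : J.Model T gen A) : Cov h.M (J.el gen) [L0, L1, L2] R [nat_lit 89964, nat_lit 137394] :=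
  cov_full (ctx h) n912

theorem cov911 {Γ X : Type*} [Group Γ] [MulAction Γ X] {T : Lst X J.n} {gen : ℕ → Γ} {A : Subgroup Γ} (h : J.Model T gen A) : Cov h.M (J.el gen) [L0, L1, L2] R [nat_lit 89964, nat_lit 131148] :=
  cov_full (ctx h) n911

theorem cov910 {Γ X : Type*} [Group Γ] [MulAction Γ X] {T : Lst X J.n} {gen : ℕ → Γ} {A : Subgroup Γ} (h : J.Model T gen A) : Cov h.M (J.el gen) [L0, L1, L2] R [nat_lit 89964, nat_lit 131112] :=
  cov_full (ctx h) n910

theorem cov909 {Γ X : Type*} [Group Γ] [MulAction Γ X] {T : Lst X J.n} {gen : ℕ → Γ} {A : Subgroup Γ} (h : J.Model T gen A) : Cov h.M (J.el gen) [L0, L1, L2] R [nat_lit 89964, nat_lit 130878] :=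
  cov_full (ctx h) n909

theorem cov908 {Γ X : Type*} [Group Γ] [MulAction Γ X] {T : Lst X J.n} {gen : ℕ → Γ} {A : Subgroup Γ} (h : J.Model T gen A) : Cov h.M (J.el gen) [L0, L1, L2] R [nat_lit 89964, nat_lit 138870] :=
  cov_full (ctx h) n908

theorem cov907 {Γ X : Type*} [Group Γ] [MulAction Γ X] {T : Lst X J.n} {gen : ℕ → Γ} {A : Subgroup Γ} (h : J.Model T gen A) : Cov h.M (J.el gen) [L0, L1, L2] R [nat_lit 89964, nat_lit 131832] :=
  cov_full (ctx h) n907

theorem cov906 {Γ X : Type*} [Group Γ] [MulAction Γ X] {T : Lst X J.n} {gen : ℕ → Γ} {A : Subgroup Γ} (h : J.Model T gen A) : Cov h.M (J.el gen) [L0, L1, L2] R [nat_lit 89964, nat_lit 138744] :=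
  cov_full (ctx h) n906

theorem cov905 {Γ X : Type*} [Group Γ] [MulAction Γ X] {T : Lst X J.n} {gen : ℕ → Γ} {A : Subgroup Γ} (h : J.Model T gen A) : Cov h.M (J.el gen) [L0, L1, L2] R [nat_lit 89964, nat_lit 144144] :=
  cov_full (ctx h) n905

theorem cov904 {Γ X : Type*} [Group Γ] [MulAction Γ X] {T : Lst X J.n} {gen : ℕ → Γ} {A : Subgroup Γ} (h : J.Model T gen A) : Cov h.M (J.el gen) [L0, L1, L2] R [nat_lit 89964, nat_lit 130482] :=
  cov_full (ctx h) n904

theorem cov903 {Γ X : Type*} [Group Γ] [MulAction Γ X] {T : Lst X J.n} {gen : ℕ → Γ} {A : Subgroup Γ} (h : J.Model T gen A) : Cov h.M (J.el gen) [L0, L1, L2] R [nat_lit 89964, nat_lit 129456] :=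
  cov_full (ctx h) n903

theorem cov902 {Γ X : Type*} [Group Γ] [MulAction Γ X] {T : Lst X J.n} {gen : ℕ → Γ} {A : Subgroup Γ} (h : J.Model T gen A) : Cov h.M (J.el gen) [L0, L1, L2] R [nat_lit 89964, nat_lit 131382] :=
  cov_full (ctx h) n902

theorem cov901 {Γ X : Type*} [Group Γ] [MulAction Γ X] {T : Lst X J.n} {gen : ℕ → Γ} {A : Subgroup Γ} (h : J.Model T gen A) : Cov h.M (J.el gen) [L0, L1, L2] R [nat_lit 89964, nat_lit 129294] :=
  cov_full (ctx h) n901

theorem cov900 {Γ X : Type*} [Group Γ] [MulAction Γ X] {T : Lst X J.n} {gen : ℕ → Γ} {A : Subgroup Γ} (h : J.Model T gen A) : Cov h.M (J.el gen) [L0, L1, L2] R [nat_lit 89964, nat_lit 144756] :=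
  cov_full (ctx h) n900

theorem cov899 {Γ X : Type*} [Group Γ] [MulAction Γ X] {T : Lst X J.n} {gen : ℕ → Γ} {A : Subgroup Γ} (h : J.Model T gen A) : Cov h.M (J.el gen) [L0, L1, L2] R [nat_lit 89964, nat_lit 129186] :=
  cov_full (ctx h) n899

theorem cov898 {Γ X : Type*} [Group Γ] [MulAction Γ X] {T : Lst X J.n} {gen : ℕ → Γ} {A : Subgroup Γ} (h : J.Model T gen A) : Cov h.M (J.el gen) [L0, L1, L2] R [nat_lit 89964, nat_lit 129078] :=
  cov_full (ctx h) n898

theorem cov897 {Γ X : Type*} [Group Γ] [MulAction Γ X] {T : Lst X J.n} {gen : ℕ → Γ} {A : Subgroup Γ} (h : J.Model T gen A) : Cov h.M (J.el gen) [L0, L1, L2] R [nat_lit 89964, nat_lit 128088] :=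
  cov_full (ctx h) n897

theorem cov896 {Γ X : Type*} [Group Γ] [MulAction Γ X] {T : Lst X J.n} {gen : ℕ → Γ} {A : Subgroup Γ} (h : J.Model T gen A) : Cov h.M (J.el gen) [L0, L1, L2] R [nat_lit 89964, nat_lit 120582] :=
  cov_full (ctx h) n896

theorem cov895 {Γ X : Type*} [Group Γ] [MulAction Γ X] {T : Lst X J.n} {gen : ℕ → Γ} {A : Subgroup Γ} (h : J.Model T gen A) : Cov h.M (J.el gen) [L0, L1, L2] R [nat_lit 89964, nat_lit 123498] :=
  cov_full (ctx h) n895

theorem cov894 {Γ X : Type*} [Group Γ] [MulAction Γ X] {T : Lst X J.n} {gen : ℕ → Γ} {A : Subgroup Γ} (h : J.Model T gen A) : Cov h.M (J.el gen) [L0, L1, L2] R [nat_lit 89964, nat_lit 122598] :=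
  cov_full (ctx h) n894

theorem cov893 {Γ X : Type*} [Group Γ] [MulAction Γ X] {T : Lst X J.n} {gen : ℕ → Γ} {A : Subgroup Γ} (h : J.Model T gen A) : Cov h.M (J.el gen) [L0, L1, L2] R [nat_lit 89964, nat_lit 119430] :=
  cov_full (ctx h) n893

theorem cov892 {Γ X : Type*} [Group Γ] [MulAction Γ X] {T : Lst X J.n} {gen : ℕ → Γ} {A : Subgroup Γ} (h : J.Model T gen A) : Cov h.M (J.el gen) [L0, L1, L2] R [nat_lit 89964, nat_lit 123894] :=
  cov_full (ctx h) n892

theorem cov891 {Γ X : Type*} [Group Γ] [MulAction Γ X] {T : Lst X J.n} {gen : ℕ → Γ} {A : Subgroup Γ} (h : J.Model T gen A) : Cov h.M (J.el gen) [L0, L1, L2] R [nat_lit 89964, nat_lit 116280] :=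
  cov_full (ctx h) n891

theorem cov890 {Γ X : Type*} [Group Γ] [MulAction Γ X] {T : Lst X J.n} {gen : ℕ → Γ} {A : Subgroup Γ} (h : J.Model T gen A) : Cov h.M (J.el gen) [L0, L1, L2] R [nat_lit 89964, nat_lit 116244] :=
  cov_full (ctx h) n890

theorem cov889 {Γ X : Type*} [Group Γ] [MulAction Γ X] {T : Lst X J.n} {gen : ℕ → Γ} {A : Subgroup Γ} (h : J.Model T gen A) : Cov h.M (J.el gen) [L0, L1, L2] R [nat_lit 89964, nat_lit 116154] :=
  cov_full (ctx h) n889

theorem cov888 {Γ X : Type*} [Group Γ] [MulAction Γ X] {T : Lst X J.n} {gen : ℕ → Γ} {A : Subgroup Γ} (h : J.Model T gen A) : Cov h.M (J.el gen) [L0, L1, L2] R [nat_lit 89964, nat_lit 115830] :=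
  cov_full (ctx h) n888

theorem cov887 {Γ X : Type*} [Group Γ] [MulAction Γ X] {T : Lst X J.n} {gen : ℕ → Γ} {A : Subgroup Γ} (h : J.Model T gen A) : Cov h.M (J.el gen) [L0, L1, L2] R [nat_lit 89964, nat_lit 117288] :=
  cov_full (ctx h) n887

theorem cov886 {Γ X : Type*} [Group Γ] [MulAction Γ X] {T : Lst X J.n} {gen : ℕ → Γ} {A : Subgroup Γ} (h : J.Model T gen A) : Cov h.M (J.el gen) [L0, L1, L2] R [nat_lit 89964, nat_lit 115650] :=
  cov_full (ctx h) n886

theorem cov885 {Γ X : Type*} [Group Γ] [MulAction Γ X] {T : Lst X J.n} {gen : ℕ → Γ} {A : Subgroup Γ} (h : J.Model T gen A) : Cov h.M (J.el gen) [L0, L1, L2] R [nat_lit 89964, nat_lit 115578] :=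
  cov_full (ctx h) n885

theorem cov884 {Γ X : Type*} [Group Γ] [MulAction Γ X] {T : Lst X J.n} {gen : ℕ → Γ} {A : Subgroup Γ} (h : J.Model T gen A) : Cov h.M (J.el gen) [L0, L1, L2] R [nat_lit 89964, nat_lit 120834] :=
  cov_full (ctx h) n884

theorem cov883 {Γ X : Type*} [Group Γ] [MulAction Γ X] {T : Lst X J.n} {gen : ℕ → Γ} {A : Subgroup Γ} (h : J.Model T gen A) : Cov h.M (J.el gen) [L0, L1, L2] R [nat_lit 89964, nat_lit 123768] :=
  cov_full (ctx h) n883

theorem cov882 {Γ X : Type*} [Group Γ] [MulAction Γ X] {T : Lst X J.n} {gen : ℕ → Γ} {A : Subgroup Γ} (h : J.Model T gen A) : Cov h.M (J.el gen) [L0, L1, L2] R [nat_lit 89964, nat_lit 116010] :=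
  cov_full (ctx h) n882

theorem cov881 {Γ X : Type*} [Group Γ] [MulAction Γ X] {T : Lst X J.n} {gen : ℕ → Γ} {A : Subgroup Γ} (h : J.Model T gen A) : Cov h.M (J.el gen) [L0, L1, L2] R [nat_lit 89964, nat_lit 112770] :=
  cov_full (ctx h) n881

theorem cov880 {Γ X : Type*} [Group Γ] [MulAction Γ X] {T : Lst X J.n} {gen : ℕ → Γ} {A : Subgroup Γ} (h : J.Model T gen A) : Cov h.M (J.el gen) [L0, L1, L2] R [nat_lit 89964, nat_lit 113688] :=
  cov_full (ctx h) n880

theorem cov879 {Γ X : Type*} [Group Γ] [MulAction Γ X] {T : Lst X J.n} {gen : ℕ → Γ} {A : Subgroup Γ} (h : J.Model T gen A) : Cov h.M (J.el gen) [L0, L1, L2] R [nat_lit 89964, nat_lit 113580] :=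
  cov_full (ctx h) n879

theorem cov878 {Γ X : Type*} [Group Γ] [MulAction Γ X] {T : Lst X J.n} {gen : ℕ → Γ} {A : Subgroup Γ} (h : J.Model T gen A) : Cov h.M (J.el gen) [L0, L1, L2] R [nat_lit 89964, nat_lit 123534] :=
  cov_full (ctx h) n878

theorem cov877 {Γ X : Type*} [Group Γ] [MulAction Γ X] {T : Lst X J.n} {gen : ℕ → Γ} {A : Subgroup Γ} (h : J.Model T gen A) : Cov h.M (J.el gen) [L0, L1, L2] R [nat_lit 89964, nat_lit 113166] :=
  cov_full (ctx h) n877

theorem cov876 {Γ X : Type*} [Group Γ] [MulAction Γ X] {T : Lst X J.n} {gen : ℕ → Γ} {A : Subgroup Γ} (h : J.Model T gen A) : Cov h.M (J.el gen) [L0, L1, L2] R [nat_lit 89964, nat_lit 112554] :=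
  cov_full (ctx h) n876

theorem cov875 {Γ X : Type*} [Group Γ] [MulAction Γ X] {T : Lst X J.n} {gen : ℕ → Γ} {A : Subgroup Γ} (h : J.Model T gen A) : Cov h.M (J.el gen) [L0, L1, L2] R [nat_lit 89964, nat_lit 121356] :=
  cov_full (ctx h) n875

theorem cov874 {Γ X : Type*} [Group Γ] [MulAction Γ X] {T : Lst X J.n} {gen : ℕ → Γ} {A : Subgroup Γ} (h : J.Model T gen A) : Cov h.M (J.el gen) [L0, L1, L2] R [nat_lit 89964, nat_lit 112374] :=
  cov_full (ctx h) n874

theorem cov873 {Γ X : Type*} [Group Γ] [MulAction Γ X] {T : Lst X J.n} {gen : ℕ → Γ} {A : Subgroup Γ} (h : J.Model T gen A) : Cov h.M (J.el gen) [L0, L1, L2] R [nat_lit 89964, nat_lit 112302] :=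
  cov_full (ctx h) n873

theorem cov872 {Γ X : Type*} [Group Γ] [MulAction Γ X] {T : Lst X J.n} {gen : ℕ → Γ} {A : Subgroup Γ} (h : J.Model T gen A) : Cov h.M (J.el gen) [L0, L1, L2] R [nat_lit 89964, nat_lit 123804] :=
  cov_full (ctx h) n872

theorem cov871 {Γ X : Type*} [Group Γ] [MulAction Γ X] {T : Lst X J.n} {gen : ℕ → Γ} {A : Subgroup Γ} (h : J.Model T gen A) : Cov h.M (J.el gen) [L0, L1, L2] R [nat_lit 89964, nat_lit 121176] :=
  cov_full (ctx h) n871

theorem cov870 {Γ X : Type*} [Group Γ] [MulAction Γ X] {T : Lst X J.n} {gen : ℕ → Γ} {A : Subgroup Γ} (h : J.Model T gen A) : Cov h.M (J.el gen) [L0, L1, L2] R [nat_lit 89964, nat_lit 113832] :=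
  cov_full (ctx h) n870

theorem cov869 {Γ X : Type*} [Group Γ] [MulAction Γ X] {T : Lst X J.n} {gen : ℕ → Γ} {A : Subgroup Γ} (h : J.Model T gen A) : Cov h.M (J.el gen) [L0, L1, L2] R [nat_lit 89964, nat_lit 112104] :=
  cov_full (ctx h) n869

theorem cov868 {Γ X : Type*} [Group Γ] [MulAction Γ X] {T : Lst X J.n} {gen : ℕ → Γ} {A : Subgroup Γ} (h : J.Model T gen A) : Cov h.M (J.el gen) [L0, L1, L2] R [nat_lit 89964, nat_lit 111996] :=
  cov_full (ctx h) n868

theorem cov867 {Γ X : Type*} [Group Γ] [MulAction Γ X] {T : Lst X J.n} {gen : ℕ → Γ} {A : Subgroup Γ} (h : J.Model T gen A) : Cov h.M (J.el gen) [L0, L1, L2] R [nat_lit 89964, nat_lit 111222] :=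
  cov_full (ctx h) n867

theorem cov866 {Γ X : Type*} [Group Γ] [MulAction Γ X] {T : Lst X J.n} {gen : ℕ → Γ} {A : Subgroup Γ} (h : J.Model T gen A) : Cov h.M (J.el gen) [L0, L1, L2] R [nat_lit 89964, nat_lit 111096] :=
  cov_full (ctx h) n866

theorem cov865 {Γ X : Type*} [Group Γ] [MulAction Γ X] {T : Lst X J.n} {gen : ℕ → Γ} {A : Subgroup Γ} (h : J.Model T gen A) : Cov h.M (J.el gen) [L0, L1, L2] R [nat_lit 89964, nat_lit 120924] :=
  cov_full (ctx h) n865

theorem cov864 {Γ X : Type*} [Group Γ] [MulAction Γ X] {T : Lst X J.n} {gen : ℕ → Γ} {A : Subgroup Γ} (h : J.Model T gen A) : Cov h.M (J.el gen) [L0, L1, L2] R [nat_lit 89964, nat_lit 127368] :=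
  cov_full (ctx h) n864

theorem cov863 {Γ X : Type*} [Group Γ] [MulAction Γ X] {T : Lst X J.n} {gen : ℕ → Γ} {A : Subgroup Γ} (h : J.Model T gen A) : Cov h.M (J.el gen) [L0, L1, L2] R [nat_lit 89964, nat_lit 111672] :=
  cov_full (ctx h) n863

theorem cov862 {Γ X : Type*} [Group Γ] [MulAction Γ X] {T : Lst X J.n} {gen : ℕ → Γ} {A : Subgroup Γ} (h : J.Model T gen A) : Cov h.M (J.el gen) [L0, L1, L2] R [nat_lit 89964, nat_lit 126468] :=
  cov_full (ctx h) n862

theorem cov861 {Γ X : Type*} [Group Γ] [MulAction Γ X] {T : Lst X J.n} {gen : ℕ → Γ} {A : Subgroup Γ} (h : J.Model T gen A) : Cov h.M (J.el gen) [L0, L1, L2] R [nat_lit 89964, nat_lit 122490] :=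
  cov_full (ctx h) n861

theorem cov860 {Γ X : Type*} [Group Γ] [MulAction Γ X] {T : Lst X J.n} {gen : ℕ → Γ} {A : Subgroup Γ} (h : J.Model T gen A) : Cov h.M (J.el gen) [L0, L1, L2] R [nat_lit 89964, nat_lit 110772] :=
  cov_full (ctx h) n860

theorem cov859 {Γ X : Type*} [Group Γ] [MulAction Γ X] {T : Lst X J.n} {gen : ℕ → Γ} {A : Subgroup Γ} (h : J.Model T gen A) : Cov h.M (J.el gen) [L0, L1, L2] R [nat_lit 89964, nat_lit 110754] :=
  cov_full (ctx h) n859

theorem cov858 {Γ X : Type*} [Group Γ] [MulAction Γ X] {T : Lst X J.n} {gen : ℕ → Γ} {A : Subgroup Γ} (h : J.Model T gen A) : Cov h.M (J.el gen) [L0, L1, L2] R [nat_lit 89964, nat_lit 115182] :=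
  cov_full (ctx h) n858

theorem cov857 {Γ X : Type*} [Group Γ] [MulAction Γ X] {T : Lst X J.n} {gen : ℕ → Γ} {A : Subgroup Γ} (h : J.Model T gen A) : Cov h.M (J.el gen) [L0, L1, L2] R [nat_lit 89964, nat_lit 103590] :=
  cov_full (ctx h) n857

theorem cov856 {Γ X : Type*} [Group Γ] [MulAction Γ X] {T : Lst X J.n} {gen : ℕ → Γ} {A : Subgroup Γ} (h : J.Model T gen A) : Cov h.M (J.el gen) [L0, L1, L2] R [nat_lit 89964, nat_lit 102060] :=
  cov_full (ctx h) n856

theorem cov855 {Γ X : Type*} [Group Γ] [MulAction Γ X] {T : Lst X J.n} {gen : ℕ → Γ} {A : Subgroup Γ} (h : J.Model T gen A) : Cov h.M (J.el gen) [L0, L1, L2] R [nat_lit 89964, nat_lit 107082] :=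
  cov_full (ctx h) n855

theorem cov854 {Γ X : Type*} [Group Γ] [MulAction Γ X] {T : Lst X J.n} {gen : ℕ → Γ} {A : Subgroup Γ} (h : J.Model T gen A) : Cov h.M (J.el gen) [L0, L1, L2] R [nat_lit 89964, nat_lit 103842] :=
  cov_full (ctx h) n854

theorem cov853 {Γ X : Type*} [Group Γ] [MulAction Γ X] {T : Lst X J.n} {gen : ℕ → Γ} {A : Subgroup Γ} (h : J.Model T gen A) : Cov h.M (J.el gen) [L0, L1, L2] R [nat_lit 89964, nat_lit 97686] :=
  cov_full (ctx h) n853

theorem cov852 {Γ X : Type*} [Group Γ] [MulAction Γ X] {T : Lst X J.n} {gen : ℕ → Γ} {A : Subgroup Γ} (h : J.Model T gen A) : Cov h.M (J.el gen) [L0, L1, L2] R [nat_lit 89964, nat_lit 99774] :=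
  cov_full (ctx h) n852

theorem cov851 {Γ X : Type*} [Group Γ] [MulAction Γ X] {T : Lst X J.n} {gen : ℕ → Γ} {A : Subgroup Γ} (h : J.Model T gen A) : Cov h.M (J.el gen) [L0, L1, L2] R [nat_lit 89964, nat_lit 103464] :=
  cov_full (ctx h) n851

theorem cov850 {Γ X : Type*} [Group Γ] [MulAction Γ X] {T : Lst X J.n} {gen : ℕ → Γ} {A : Subgroup Γ} (h : J.Model T gen A) : Cov h.M (J.el gen) [L0, L1, L2] R [nat_lit 89964, nat_lit 100098] :=
  cov_full (ctx h) n850

theorem cov849 {Γ X : Type*} [Group Γ] [MulAction Γ X] {T : Lst X J.n} {gen : ℕ → Γ} {A : Subgroup Γ} (h : J.Model T gen A) : Cov h.M (J.el gen) [L0, L1, L2] R [nat_lit 89964, nat_lit 104454] :=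
  cov_full (ctx h) n849

theorem cov848 {Γ X : Type*} [Group Γ] [MulAction Γ X] {T : Lst X J.n} {gen : ℕ → Γ} {A : Subgroup Γ} (h : J.Model T gen A) : Cov h.M (J.el gen) [L0, L1, L2] R [nat_lit 89964, nat_lit 97560] :=
  cov_full (ctx h) n848

theorem cov847 {Γ X : Type*} [Group Γ] [MulAction Γ X] {T : Lst X J.n} {gen : ℕ → Γ} {A : Subgroup Γ} (h : J.Model T gen A) : Cov h.M (J.el gen) [L0, L1, L2] R [nat_lit 89964, nat_lit 95004] :=
  cov_full (ctx h) n847

theorem cov846 {Γ X : Type*} [Group Γ] [MulAction Γ X] {T : Lst X J.n} {gen : ℕ → Γ} {A : Subgroup Γ} (h : J.Model T gen A) : Cov h.M (J.el gen) [L0, L1, L2] R [nat_lit 89964, nat_lit 107604] :=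
  cov_full (ctx h) n846

theorem cov845 {Γ X : Type*} [Group Γ] [MulAction Γ X] {T : Lst X J.n} {gen : ℕ → Γ} {A : Subgroup Γ} (h : J.Model T gen A) : Cov h.M (J.el gen) [L0, L1, L2] R [nat_lit 89964, nat_lit 104652] :=
  cov_full (ctx h) n845

theorem cov844 {Γ X : Type*} [Group Γ] [MulAction Γ X] {T : Lst X J.n} {gen : ℕ → Γ} {A : Subgroup Γ} (h : J.Model T gen A) : Cov h.M (J.el gen) [L0, L1, L2] R [nat_lit 89964, nat_lit 94896] :=
  cov_full (ctx h) n844

theorem cov843 {Γ X : Type*} [Group Γ] [MulAction Γ X] {T : Lst X J.n} {gen : ℕ → Γ} {A : Subgroup Γ} (h : J.Model T gen A) : Cov h.M (J.el gen) [L0, L1, L2] R [nat_lit 89964, nat_lit 93906] :=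
  cov_full (ctx h) n843

theorem cov842 {Γ X : Type*} [Group Γ] [MulAction Γ X] {T : Lst X J.n} {gen : ℕ → Γ} {A : Subgroup Γ} (h : J.Model T gen A) : Cov h.M (J.el gen) [L0, L1, L2] R [nat_lit 89964, nat_lit 93834] :=
  cov_full (ctx h) n842

theorem cov841 {Γ X : Type*} [Group Γ] [MulAction Γ X] {T : Lst X J.n} {gen : ℕ → Γ} {A : Subgroup Γ} (h : J.Model T gen A) : Cov h.M (J.el gen) [L0, L1, L2] R [nat_lit 89964, nat_lit 93708] :=
  cov_full (ctx h) n841

theorem cov840 {Γ X : Type*} [Group Γ] [MulAction Γ X] {T : Lst X J.n} {gen : ℕ → Γ} {A : Subgroup Γ} (h : J.Model T gen A) : Cov h.M (J.el gen) [L0, L1, L2] R [nat_lit 89964, nat_lit 95310] :=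
  cov_full (ctx h) n840

theorem cov839 {Γ X : Type*} [Group Γ] [MulAction Γ X] {T : Lst X J.n} {gen : ℕ → Γ} {A : Subgroup Γ} (h : J.Model T gen A) : Cov h.M (J.el gen) [L0, L1, L2] R [nat_lit 89964, nat_lit 92556] :=
  cov_full (ctx h) n839

theorem cov838 {Γ X : Type*} [Group Γ] [MulAction Γ X] {T : Lst X J.n} {gen : ℕ → Γ} {A : Subgroup Γ} (h : J.Model T gen A) : Cov h.M (J.el gen) [L0, L1, L2] R [nat_lit 89964, nat_lit 92502] :=
  cov_full (ctx h) n838

theorem cov837 {Γ X : Type*} [Group Γ] [MulAction Γ X] {T : Lst X J.n} {gen : ℕ → Γ} {A : Subgroup Γ} (h : J.Model T gen A) : Cov h.M (J.el gen) [L0, L1, L2] R [nat_lit 89964, nat_lit 92448] :=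
  cov_full (ctx h) n837

theorem cov836 {Γ X : Type*} [Group Γ] [MulAction Γ X] {T : Lst X J.n} {gen : ℕ → Γ} {A : Subgroup Γ} (h : J.Model T gen A) : Cov h.M (J.el gen) [L0, L1, L2] R [nat_lit 89964, nat_lit 92340] :=
  cov_full (ctx h) n836

theorem cov835 {Γ X : Type*} [Group Γ] [MulAction Γ X] {T : Lst X J.n} {gen : ℕ → Γ} {A : Subgroup Γ} (h : J.Model T gen A) : Cov h.M (J.el gen) [L0, L1, L2] R [nat_lit 89964, nat_lit 92322] :=
  cov_full (ctx h) n835

theorem cov834 {Γ X : Type*} [Group Γ] [MulAction Γ X] {T : Lst X J.n} {gen : ℕ → Γ} {A : Subgroup Γ} (h : J.Model T gen A) : Cov h.M (J.el gen) [L0, L1, L2] R [nat_lit 89964, nat_lit 92214] :=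
  cov_full (ctx h) n834

theorem cov833 {Γ X : Type*} [Group Γ] [MulAction Γ X] {T : Lst X J.n} {gen : ℕ → Γ} {A : Subgroup Γ} (h : J.Model T gen A) : Cov h.M (J.el gen) [L0, L1, L2] R [nat_lit 89964, nat_lit 90090] :=
  cov_full (ctx h) n833

theorem cov832 {Γ X : Type*} [Group Γ] [MulAction Γ X] {T : Lst X J.n} {gen : ℕ → Γ} {A : Subgroup Γ} (h : J.Model T gen A) : Cov h.M (J.el gen) [L0, L1, L2] R [nat_lit 89964, nat_lit 90018] :=
  cov_full (ctx h) n832

theorem cov831 {Γ X : Type*} [Group Γ] [MulAction Γ X] {T : Lst X J.n} {gen : ℕ → Γ} {A : Subgroup Γ} (h : J.Model T gen A) : Cov h.M (J.el gen) [L0, L1, L2] R [nat_lit 89964, nat_lit 90342] :=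
  cov_full (ctx h) n831

theorem cov830 {Γ X : Type*} [Group Γ] [MulAction Γ X] {T : Lst X J.n} {gen : ℕ → Γ} {A : Subgroup Γ} (h : J.Model T gen A) : Cov h.M (J.el gen) [L0, L1, L2] R [nat_lit 89964, nat_lit 89874] :=
  cov_full (ctx h) n830

theorem cov829 {Γ X : Type*} [Group Γ] [MulAction Γ X] {T : Lst X J.n} {gen : ℕ → Γ} {A : Subgroup Γ} (h : J.Model T gen A) : Cov h.M (J.el gen) [L0, L1, L2] R [nat_lit 89964, nat_lit 84294] :=
  cov_full (ctx h) n829

theorem cov828 {Γ X : Type*} [Group Γ] [MulAction Γ X] {T : Lst X J.n} {gen : ℕ → Γ} {A : Subgroup Γ} (h : J.Model T gen A) : Cov h.M (J.el gen) [L0, L1, L2] R [nat_lit 89964, nat_lit 84402] :=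
  cov_full (ctx h) n828

theorem cov827 {Γ X : Type*} [Group Γ] [MulAction Γ X] {T : Lst X J.n} {gen : ℕ → Γ} {A : Subgroup Γ} (h : J.Model T gen A) : Cov h.M (J.el gen) [L0, L1, L2] R [nat_lit 89964, nat_lit 84150] :=
  cov_full (ctx h) n827

theorem cov826 {Γ X : Type*} [Group Γ] [MulAction Γ X] {T : Lst X J.n} {gen : ℕ → Γ} {A : Subgroup Γ} (h : J.Model T gen A) : Cov h.M (J.el gen) [L0, L1, L2] R [nat_lit 89964, nat_lit 84078] :=
  cov_full (ctx h) n826

theorem cov825 {Γ X : Type*} [Group Γ] [MulAction Γ X] {T : Lst X J.n} {gen : ℕ → Γ} {A : Subgroup Γ} (h : J.Model T gen A) : Cov h.M (J.el gen) [L0, L1, L2] R [nat_lit 89964, nat_lit 82008] :=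
  cov_full (ctx h) n825

theorem cov824 {Γ X : Type*} [Group Γ] [MulAction Γ X] {T : Lst X J.n} {gen : ℕ → Γ} {A : Subgroup Γ} (h : J.Model T gen A) : Cov h.M (J.el gen) [L0, L1, L2] R [nat_lit 89964, nat_lit 81936] :=
  cov_full (ctx h) n824

theorem cov823 {Γ X : Type*} [Group Γ] [MulAction Γ X] {T : Lst X J.n} {gen : ℕ → Γ} {A : Subgroup Γ} (h : J.Model T gen A) : Cov h.M (J.el gen) [L0, L1, L2] R [nat_lit 89964, nat_lit 81864] :=
  cov_full (ctx h) n823

theorem cov822 {Γ X : Type*} [Group Γ] [MulAction Γ X] {T : Lst X J.n} {gen : ℕ → Γ} {A : Subgroup Γ} (h : J.Model T gen A) : Cov h.M (J.el gen) [L0, L1, L2] R [nat_lit 89964, nat_lit 82494] :=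
  cov_full (ctx h) n822

theorem cov821 {Γ X : Type*} [Group Γ] [MulAction Γ X] {T : Lst X J.n} {gen : ℕ → Γ} {A : Subgroup Γ} (h : J.Model T gen A) : Cov h.M (J.el gen) [L0, L1, L2] R [nat_lit 89964, nat_lit 88038] :=
  cov_full (ctx h) n821

theorem cov820 {Γ X : Type*} [Group Γ] [MulAction Γ X] {T : Lst X J.n} {gen : ℕ → Γ} {A : Subgroup Γ} (h : J.Model T gen A) : Cov h.M (J.el gen) [L0, L1, L2] R [nat_lit 89964, nat_lit 78066] :=
  cov_full (ctx h) n820

theorem cov819 {Γ X : Type*} [Group Γ] [MulAction Γ X] {T : Lst X J.n} {gen : ℕ → Γ} {A : Subgroup Γ} (h : J.Model T gen A) : Cov h.M (J.el gen) [L0, L1, L2] R [nat_lit 89964, nat_lit 77976] :=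
  cov_full (ctx h) n819

theorem cov818 {Γ X : Type*} [Group Γ] [MulAction Γ X] {T : Lst X J.n} {gen : ℕ → Γ} {A : Subgroup Γ} (h : J.Model T gen A) : Cov h.M (J.el gen) [L0, L1, L2] R [nat_lit 89964, nat_lit 77760] :=
  cov_full (ctx h) n818

theorem cov817 {Γ X : Type*} [Group Γ] [MulAction Γ X] {T : Lst X J.n} {gen : ℕ → Γ} {A : Subgroup Γ} (h : J.Model T gen A) : Cov h.M (J.el gen) [L0, L1, L2] R [nat_lit 89964, nat_lit 77526] :=
  cov_full (ctx h) n817

theorem cov816 {Γ X : Type*} [Group Γ] [MulAction Γ X] {T : Lst X J.n} {gen : ℕ → Γ} {A : Subgroup Γ} (h : J.Model T gen A) : Cov h.M (J.el gen) [L0, L1, L2] R [nat_lit 89964, nat_lit 88110] :=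
  cov_full (ctx h) n816

theorem cov815 {Γ X : Type*} [Group Γ] [MulAction Γ X] {T : Lst X J.n} {gen : ℕ → Γ} {A : Subgroup Γ} (h : J.Model T gen A) : Cov h.M (J.el gen) [L0, L1, L2] R [nat_lit 89964, nat_lit 77238] :=
  cov_full (ctx h) n815

theorem cov814 {Γ X : Type*} [Group Γ] [MulAction Γ X] {T : Lst X J.n} {gen : ℕ → Γ} {A : Subgroup Γ} (h : J.Model T gen A) : Cov h.M (J.el gen) [L0, L1, L2] R [nat_lit 89964, nat_lit 77148] :=
  cov_full (ctx h) n814

theorem cov813 {Γ X : Type*} [Group Γ] [MulAction Γ X] {T : Lst X J.n} {gen : ℕ → Γ} {A : Subgroup Γ} (h : J.Model T gen A) : Cov h.M (J.el gen) [L0, L1, L2] R [nat_lit 89964, nat_lit 77076] :=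
  cov_full (ctx h) n813

theorem cov812 {Γ X : Type*} [Group Γ] [MulAction Γ X] {T : Lst X J.n} {gen : ℕ → Γ} {A : Subgroup Γ} (h : J.Model T gen A) : Cov h.M (J.el gen) [L0, L1, L2] R [nat_lit 89964, nat_lit 85230] :=
  cov_full (ctx h) n812

theorem cov811 {Γ X : Type*} [Group Γ] [MulAction Γ X] {T : Lst X J.n} {gen : ℕ → Γ} {A : Subgroup Γ} (h : J.Model T gen A) : Cov h.M (J.el gen) [L0, L1, L2] R [nat_lit 89964, nat_lit 76662] :=
  cov_full (ctx h) n811

theorem cov810 {Γ X : Type*} [Group Γ] [MulAction Γ X] {T : Lst X J.n} {gen : ℕ → Γ} {A : Subgroup Γ} (h : J.Model T gen A) : Cov h.M (J.el gen) [L0, L1, L2] R [nat_lit 89964, nat_lit 83430] :=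
  cov_full (ctx h) n810

theorem cov809 {Γ X : Type*} [Group Γ] [MulAction Γ X] {T : Lst X J.n} {gen : ℕ → Γ} {A : Subgroup Γ} (h : J.Model T gen A) : Cov h.M (J.el gen) [L0, L1, L2] R [nat_lit 89964, nat_lit 83376] :=
  cov_full (ctx h) n809

theorem cov808 {Γ X : Type*} [Group Γ] [MulAction Γ X] {T : Lst X J.n} {gen : ℕ → Γ} {A : Subgroup Γ} (h : J.Model T gen A) : Cov h.M (J.el gen) [L0, L1, L2] R [nat_lit 89964, nat_lit 76320] :=
  cov_full (ctx h) n808

theorem cov807 {Γ X : Type*} [Group Γ] [MulAction Γ X] {T : Lst X J.n} {gen : ℕ → Γ} {A : Subgroup Γ} (h : J.Model T gen A) : Cov h.M (J.el gen) [L0, L1, L2] R [nat_lit 89964, nat_lit 76086] :=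
  cov_full (ctx h) n807

theorem cov806 {Γ X : Type*} [Group Γ] [MulAction Γ X] {T : Lst X J.n} {gen : ℕ → Γ} {A : Subgroup Γ} (h : J.Model T gen A) : Cov h.M (J.el gen) [L0, L1, L2] R [nat_lit 89964, nat_lit 83124] :=
  cov_full (ctx h) n806

theorem cov805 {Γ X : Type*} [Group Γ] [MulAction Γ X] {T : Lst X J.n} {gen : ℕ → Γ} {A : Subgroup Γ} (h : J.Model T gen A) : Cov h.M (J.el gen) [L0, L1, L2] R [nat_lit 89964, nat_lit 75816] :=
  cov_full (ctx h) n805

theorem cov804 {Γ X : Type*} [Group Γ] [MulAction Γ X] {T : Lst X J.n} {gen : ℕ → Γ} {A : Subgroup Γ} (h : J.Model T gen A) : Cov h.M (J.el gen) [L0, L1, L2] R [nat_lit 89964, nat_lit 78696] :=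
  cov_full (ctx h) n804

theorem cov803 {Γ X : Type*} [Group Γ] [MulAction Γ X] {T : Lst X J.n} {gen : ℕ → Γ} {A : Subgroup Γ} (h : J.Model T gen A) : Cov h.M (J.el gen) [L0, L1, L2] R [nat_lit 89964, nat_lit 78858] :=
  cov_full (ctx h) n803

theorem cov802 {Γ X : Type*} [Group Γ] [MulAction Γ X] {T : Lst X J.n} {gen : ℕ → Γ} {A : Subgroup Γ} (h : J.Model T gen A) : Cov h.M (J.el gen) [L0, L1, L2] R [nat_lit 89964, nat_lit 79272] :=
  cov_full (ctx h) n802

theorem cov801 {Γ X : Type*} [Group Γ] [MulAction Γ X] {T : Lst X J.n} {gen : ℕ → Γ} {A : Subgroup Γ} (h : J.Model T gen A) : Cov h.M (J.el gen) [L0, L1, L2] R [nat_lit 89964, nat_lit 78912] :=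
  cov_full (ctx h) n801

theorem cov800 {Γ X : Type*} [Group Γ] [MulAction Γ X] {T : Lst X J.n} {gen : ℕ → Γ} {A : Subgroup Γ} (h : J.Model T gen A) : Cov h.M (J.el gen) [L0, L1, L2] R [nat_lit 89964, nat_lit 75132] :=
  cov_full (ctx h) n800

theorem cov799 {Γ X : Type*} [Group Γ] [MulAction Γ X] {T : Lst X J.n} {gen : ℕ → Γ} {A : Subgroup Γ} (h : J.Model T gen A) : Cov h.M (J.el gen) [L0, L1, L2] R [nat_lit 89964, nat_lit 78804] :=
  cov_full (ctx h) n799

theorem cov798 {Γ X : Type*} [Group Γ] [MulAction Γ X] {T : Lst X J.n} {gen : ℕ → Γ} {A : Subgroup Γ} (h : J.Model T gen A) : Cov h.M (J.el gen) [L0, L1, L2] R [nat_lit 89964, nat_lit 78372] :=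
  cov_full (ctx h) n798

theorem cov797 {Γ X : Type*} [Group Γ] [MulAction Γ X] {T : Lst X J.n} {gen : ℕ → Γ} {A : Subgroup Γ} (h : J.Model T gen A) : Cov h.M (J.el gen) [L0, L1, L2] R [nat_lit 89964, nat_lit 73890] :=
  cov_full (ctx h) n797

theorem cov796 {Γ X : Type*} [Group Γ] [MulAction Γ X] {T : Lst X J.n} {gen : ℕ → Γ} {A : Subgroup Γ} (h : J.Model T gen A) : Cov h.M (J.el gen) [L0, L1, L2] R [nat_lit 89964, nat_lit 74520] :=
  cov_full (ctx h) n796

theorem cov795 {Γ X : Type*} [Group Γ] [MulAction Γ X] {T : Lst X J.n} {gen : ℕ → Γ} {A : Subgroup Γ} (h : J.Model T gen A) : Cov h.M (J.el gen) [L0, L1, L2] R [nat_lit 89964, nat_lit 73854] :=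
  cov_full (ctx h) n795

theorem cov794 {Γ X : Type*} [Group Γ] [MulAction Γ X] {T : Lst X J.n} {gen : ℕ → Γ} {A : Subgroup Γ} (h : J.Model T gen A) : Cov h.M (J.el gen) [L0, L1, L2] R [nat_lit 89964, nat_lit 73836] :=
  cov_full (ctx h) n794

theorem cov793 {Γ X : Type*} [Group Γ] [MulAction Γ X] {T : Lst X J.n} {gen : ℕ → Γ} {A : Subgroup Γ} (h : J.Model T gen A) : Cov h.M (J.el gen) [L0, L1, L2] R [nat_lit 89964] :=
  cov_red (ctx h) h.hAV n793 (forall_mem_cons' (cov794 h) (forall_mem_cons' (cov795 h) (forall_mem_cons' (cov796 h) (forall_mem_cons' (cov797 h) (forall_mem_cons' (cov798 h) (forall_mem_cons' (cov799 h) (forall_mem_cons' (cov800 h) (forall_mem_cons' (cov801 h) (forall_mem_cons' (cov802 h) (forall_mem_cons' (cov803 h) (forall_mem_cons' (cov804 h) (forall_mem_cons' (cov805 h) (forall_mem_cons' (cov806 h) (forall_mem_cons' (cov807 h) (forall_mem_cons' (cov808 h) (forall_mem_cons' (cov809 h) (forall_mem_cons'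 (cov810 h) (forall_mem_cons' (cov811 h) (forall_mem_cons' (cov812 h) (forall_mem_cons' (cov813 h) (forall_mem_cons' (cov814 h) (forall_mem_cons' (cov815 h) (forall_mem_cons' (cov816 h) (forall_mem_cons' (cov817 h) (forall_mem_cons' (cov818 h) (forall_mem_cons' (cov819 h) (forall_mem_cons' (cov820 h) (forall_mem_cons' (cov821 h) (forall_mem_cons' (cov822 h) (forall_mem_cons' (cov823 h) (forall_mem_cons' (cov824 h) (forall_mem_cons' (cov825 h) (forall_mem_cons' (cov826 h) (forall_mem_cons' (cov827 h) (forall_mem_cons' (cov828 h) (forall_mem_cons' (cov829 h) (forall_mem_cons' (cov830 h) (forall_mem_cons' (cov831 h) (forall_mem_cons' (cov832 h) (forall_mem_cons' (cov833 h) (forall_mem_cons' (cov834 h) (forall_mem_cons' (cov835 h) (forall_mem_cons' (cov836 h) (forall_mem_cons' (cov837 h) (forall_mem_cons' (cov838 h) (forall_mem_cons' (cov839 h) (forall_mem_cons' (cov840 h) (forall_mem_cons' (cov841 h) (forall_mem_cons' (cov842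 h) (forall_mem_cons' (cov843 h) (forall_mem_cons' (cov844 h) (forall_mem_cons' (cov845 h) (forall_mem_cons' (cov846 h) (forall_mem_cons' (cov847 h) (forall_mem_cons' (cov848 h) (forall_mem_cons' (cov849 h) (forall_mem_cons' (cov850 h) (forall_mem_cons' (cov851 h) (forall_mem_cons' (cov852 h) (forall_mem_cons' (cov853 h) (forall_mem_cons' (cov854 h) (forall_mem_cons' (cov855 h) (forall_mem_cons' (cov856 h) (forall_mem_cons' (cov857 h) (forall_mem_cons' (cov858 h) (forall_mem_cons' (cov859 h) (forall_mem_cons' (cov860 h) (forall_mem_cons' (cov861 h) (forall_mem_cons' (cov862 h) (forall_mem_cons' (cov863 h) (forall_mem_cons' (cov864 h) (forall_mem_cons' (cov865 h) (forall_mem_cons' (cov866 h) (forall_mem_cons' (cov867 h) (forall_mem_cons' (cov868 h) (forall_mem_cons' (cov869 h) (forall_mem_cons' (cov870 h) (forall_mem_cons' (cov871 h) (forall_mem_cons' (cov872 h) (forall_mem_cons' (cov873 h) (forall_mem_cons' (cov874 h) (forall_mem_cons'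 (cov875 h) (forall_mem_cons' (cov876 h) (forall_mem_cons' (cov877 h) (forall_mem_cons' (cov878 h) (forall_mem_cons' (cov879 h) (forall_mem_cons' (cov880 h) (forall_mem_cons' (cov881 h) (forall_mem_cons' (cov882 h) (forall_mem_cons' (cov883 h) (forall_mem_cons' (cov884 h) (forall_mem_cons' (cov885 h) (forall_mem_cons' (cov886 h) (forall_mem_cons' (cov887 h) (forall_mem_cons' (cov888 h) (forall_mem_cons' (cov889 h) (forall_mem_cons' (cov890 h) (forall_mem_cons' (cov891 h) (forall_mem_cons' (cov892 h) (forall_mem_cons' (cov893 h) (forall_mem_cons' (cov894 h) (forall_mem_cons' (cov895 h) (forall_mem_cons' (cov896 h) (forall_mem_cons' (cov897 h) (forall_mem_cons' (cov898 h) (forall_mem_cons' (cov899 h) (forall_mem_cons' (cov900 h) (forall_mem_cons' (cov901 h) (forall_mem_cons' (cov902 h) (forall_mem_cons' (cov903 h) (forall_mem_cons' (cov904 h) (forall_mem_cons' (cov905 h) (forall_mem_cons' (cov906 h) (forall_mem_cons' (cov907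 h) (forall_mem_cons' (cov908 h) (forall_mem_cons' (cov909 h) (forall_mem_cons' (cov910 h) (forall_mem_cons' (cov911 h) (forall_mem_cons' (cov912 h) (forall_mem_cons' (cov913 h) (forall_mem_cons' (cov914 h) (forall_mem_cons' (cov915 h) (forall_mem_cons' (cov916 h) (forall_mem_cons' (cov917 h) (forall_mem_cons' (cov918 h) (forall_mem_cons' (cov919 h) (forall_mem_cons' (cov920 h) (forall_mem_cons' (cov921 h) forall_mem_nil'))))))))))))))))))))))))))))))))))))))))))))))))))))))))))))))))))))))))))))))))))))))))))))))))))))))))))))))))))))))))))))))))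

theorem cov792 {Γ X : Type*} [Group Γ] [MulAction Γ X] {T : Lst X J.n} {gen : ℕ → Γ} {A : Subgroup Γ} (h : J.Model T gen A) : Cov h.M (J.el gen) [L0, L1, L2] R [nat_lit 84204, nat_lit 146538] :=
  cov_full (ctx h) n792

theorem cov791 {Γ X : Type*} [Group Γ] [MulAction Γ X] {T : Lst X J.n} {gen : ℕ → Γ} {A : Subgroup Γ} (h : J.Model T gen A) : Cov h.M (J.el gen) [L0, L1, L2] R [nat_lit 84204, nat_lit 139050] :=
  cov_full (ctx h) n791

theorem cov790 {Γ X : Type*} [Group Γ] [MulAction Γ X] {T : Lst X J.n} {gen : ℕ → Γ} {A : Subgroup Γ} (h : J.Model T gen A) : Cov h.M (J.el gen) [L0, L1, L2] R [nat_lit 84204, nat_lit 146430] :=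
  cov_full (ctx h) n790

theorem cov789 {Γ X : Type*} [Group Γ] [MulAction Γ X] {T : Lst X J.n} {gen : ℕ → Γ} {A : Subgroup Γ} (h : J.Model T gen A) : Cov h.M (J.el gen) [L0, L1, L2] R [nat_lit 84204, nat_lit 138960] :=
  cov_full (ctx h) n789

theorem cov788 {Γ X : Type*} [Group Γ] [MulAction Γ X] {T : Lst X J.n} {gen : ℕ → Γ} {A : Subgroup Γ} (h : J.Model T gen A) : Cov h.M (J.el gen) [L0, L1, L2] R [nat_lit 84204, nat_lit 137880] :=
  cov_full (ctx h) n788

theorem cov787 {Γ X : Type*} [Group Γ] [MulAction Γ X] {T : Lst X J.n} {gen : ℕ → Γ} {A : Subgroup Γ} (h : J.Model T gen A) : Cov h.M (J.el gen) [L0, L1, L2] R [nat_lit 84204, nat_lit 137808] :=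
  cov_full (ctx h) n787

theorem cov786 {Γ X : Type*} [Group Γ] [MulAction Γ X] {T : Lst X J.n} {gen : ℕ → Γ} {A : Subgroup Γ} (h : J.Model T gen A) : Cov h.M (J.el gen) [L0, L1, L2] R [nat_lit 84204, nat_lit 134982] :=
  cov_full (ctx h) n786

theorem cov785 {Γ X : Type*} [Group Γ] [MulAction Γ X] {T : Lst X J.n} {gen : ℕ → Γ} {A : Subgroup Γ} (h : J.Model T gen A) : Cov h.M (J.el gen) [L0, L1, L2] R [nat_lit 84204, nat_lit 147096] :=
  cov_full (ctx h) n785

theorem cov784 {Γ X : Type*} [Group Γ] [MulAction Γ X] {T : Lst X J.n} {gen : ℕ → Γ} {A : Subgroup Γ} (h : J.Model T gen A) : Cov h.M (J.el gen) [L0, L1, L2] R [nat_lit 84204, nat_lit 134550] :=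
  cov_full (ctx h) n784

theorem cov783 {Γ X : Type*} [Group Γ] [MulAction Γ X] {T : Lst X J.n} {gen : ℕ → Γ} {A : Subgroup Γ} (h : J.Model T gen A) : Cov h.M (J.el gen) [L0, L1, L2] R [nat_lit 84204, nat_lit 144648] :=
  cov_full (ctx h) n783

theorem cov782 {Γ X : Type*} [Group Γ] [MulAction Γ X] {T : Lst X J.n} {gen : ℕ → Γ} {A : Subgroup Γ} (h : J.Model T gen A) : Cov h.M (J.el gen) [L0, L1, L2] R [nat_lit 84204, nat_lit 134082] :=
  cov_full (ctx h) n782

theorem cov781 {Γ X : Type*} [Group Γ] [MulAction Γ X] {T : Lst X J.n} {gen : ℕ → Γ} {A : Subgroup Γ} (h : J.Model T gen A) : Cov h.M (J.el gen) [L0, L1, L2] R [nat_lit 84204, nat_lit 134028] :=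
  cov_full (ctx h) n781

theorem cov780 {Γ X : Type*} [Group Γ] [MulAction Γ X] {T : Lst X J.n} {gen : ℕ → Γ} {A : Subgroup Γ} (h : J.Model T gen A) : Cov h.M (J.el gen) [L0, L1, L2] R [nat_lit 84204, nat_lit 133974] :=
  cov_full (ctx h) n780

theorem cov779 {Γ X : Type*} [Group Γ] [MulAction Γ X] {T : Lst X J.n} {gen : ℕ → Γ} {A : Subgroup Γ} (h : J.Model T gen A) : Cov h.M (J.el gen) [L0, L1, L2] R [nat_lit 84204, nat_lit 142902] :=
  cov_full (ctx h) n779

theorem cov778 {Γ X : Type*} [Group Γ] [MulAction Γ X] {T : Lst X J.n} {gen : ℕ → Γ} {A : Subgroup Γ} (h : J.Model T gen A) : Cov h.M (J.el gen) [L0, L1, L2] R [nat_lit 84204, nat_lit 133794] :=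
  cov_full (ctx h) n778

theorem cov777 {Γ X : Type*} [Group Γ] [MulAction Γ X] {T : Lst X J.n} {gen : ℕ → Γ} {A : Subgroup Γ} (h : J.Model T gen A) : Cov h.M (J.el gen) [L0, L1, L2] R [nat_lit 84204, nat_lit 135414] :=
  cov_full (ctx h) n777

theorem cov776 {Γ X : Type*} [Group Γ] [MulAction Γ X] {T : Lst X J.n} {gen : ℕ → Γ} {A : Subgroup Γ} (h : J.Model T gen A) : Cov h.M (J.el gen) [L0, L1, L2] R [nat_lit 84204, nat_lit 131166] :=
  cov_full (ctx h) n776

theorem cov775 {Γ X : Type*} [Group Γ] [MulAction Γ X] {T : Lst X J.n} {gen : ℕ → Γ} {A : Subgroup Γ} (h : J.Model T gen A) : Cov h.M (J.el gen) [L0, L1, L2] R [nat_lit 84204, nat_lit 145728] :=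
  cov_full (ctx h) n775

theorem cov774 {Γ X : Type*} [Group Γ] [MulAction Γ X] {T : Lst X J.n} {gen : ℕ → Γ} {A : Subgroup Γ} (h : J.Model T gen A) : Cov h.M (J.el gen) [L0, L1, L2] R [nat_lit 84204, nat_lit 131022] :=
  cov_full (ctx h) n774

theorem cov773 {Γ X : Type*} [Group Γ] [MulAction Γ X] {T : Lst X J.n} {gen : ℕ → Γ} {A : Subgroup Γ} (h : J.Model T gen A) : Cov h.M (J.el gen) [L0, L1, L2] R [nat_lit 84204, nat_lit 132912] :=
  cov_full (ctx h) n773

theorem cov772 {Γ X : Type*} [Group Γ] [MulAction Γ X] {T : Lst X J.n} {gen : ℕ → Γ} {A : Subgroup Γ} (h : J.Model T gen A) : Cov h.M (J.el gen) [L0, L1, L2] R [nat_lit 84204, nat_lit 131616] :=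
  cov_full (ctx h) n772

theorem cov771 {Γ X : Type*} [Group Γ] [MulAction Γ X] {T : Lst X J.n} {gen : ℕ → Γ} {A : Subgroup Γ} (h : J.Model T gen A) : Cov h.M (J.el gen) [L0, L1, L2] R [nat_lit 84204, nat_lit 143082] :=
  cov_full (ctx h) n771

theorem cov770 {Γ X : Type*} [Group Γ] [MulAction Γ X] {T : Lst X J.n} {gen : ℕ → Γ} {A : Subgroup Γ} (h : J.Model T gen A) : Cov h.M (J.el gen) [L0, L1, L2] R [nat_lit 84204, nat_lit 133488] :=
  cov_full (ctx h) n770

theorem cov769 {Γ X : Type*} [Group Γ] [MulAction Γ X] {T : Lst X J.n} {gen : ℕ → Γ} {A : Subgroup Γ} (h : J.Model T gen A) : Cov h.M (J.el gen) [L0, L1, L2] R [nat_lit 84204, nat_lit 131760] :=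
  cov_full (ctx h) n769

theorem cov768 {Γ X : Type*} [Group Γ] [MulAction Γ X] {T : Lst X J.n} {gen : ℕ → Γ} {A : Subgroup Γ} (h : J.Model T gen A) : Cov h.M (J.el gen) [L0, L1, L2] R [nat_lit 84204, nat_lit 133344] :=
  cov_full (ctx h) n768

theorem cov767 {Γ X : Type*} [Group Γ] [MulAction Γ X] {T : Lst X J.n} {gen : ℕ → Γ} {A : Subgroup Γ} (h : J.Model T gen A) : Cov h.M (J.el gen) [L0, L1, L2] R [nat_lit 84204, nat_lit 143298] :=
  cov_full (ctx h) n767

theorem cov766 {Γ X : Type*} [Group Γ] [MulAction Γ X] {T : Lst X J.n} {gen : ℕ → Γ} {A : Subgroup Γ} (h : J.Model T gen A) : Cov h.M (J.el gen) [L0, L1, L2] R [nat_lit 84204, nat_lit 130572] :=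
  cov_full (ctx h) n766

theorem cov765 {Γ X : Type*} [Group Γ] [MulAction Γ X] {T : Lst X J.n} {gen : ℕ → Γ} {A : Subgroup Γ} (h : J.Model T gen A) : Cov h.M (J.el gen) [L0, L1, L2] R [nat_lit 84204, nat_lit 133686] :=
  cov_full (ctx h) n765

theorem cov764 {Γ X : Type*} [Group Γ] [MulAction Γ X] {T : Lst X J.n} {gen : ℕ → Γ} {A : Subgroup Γ} (h : J.Model T gen A) : Cov h.M (J.el gen) [L0, L1, L2] R [nat_lit 84204, nat_lit 133038] :=
  cov_full (ctx h) n764

theorem cov763 {Γ X : Type*} [Group Γ] [MulAction Γ X] {T : Lst X J.n} {gen : ℕ → Γ} {A : Subgroup Γ} (h : J.Model T gen A) : Cov h.M (J.el gen) [L0, L1, L2] R [nat_lit 84204, nat_lit 132174] :=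
  cov_full (ctx h) n763

theorem cov762 {Γ X : Type*} [Group Γ] [MulAction Γ X] {T : Lst X J.n} {gen : ℕ → Γ} {A : Subgroup Γ} (h : J.Model T gen A) : Cov h.M (J.el gen) [L0, L1, L2] R [nat_lit 84204, nat_lit 130032] :=
  cov_full (ctx h) n762

theorem cov761 {Γ X : Type*} [Group Γ] [MulAction Γ X] {T : Lst X J.n} {gen : ℕ → Γ} {A : Subgroup Γ} (h : J.Model T gen A) : Cov h.M (J.el gen) [L0, L1, L2] R [nat_lit 84204, nat_lit 137070] :=
  cov_full (ctx h) n761

theorem cov760 {Γ X : Type*} [Group Γ] [MulAction Γ X] {T : Lst X J.n} {gen : ℕ → Γ} {A : Subgroup Γ} (h : J.Model T gen A) : Cov h.M (J.el gen) [L0, L1, L2] R [nat_lit 84204, nat_lit 137592] :=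
  cov_full (ctx h) n760

theorem cov759 {Γ X : Type*} [Group Γ] [MulAction Γ X] {T : Lst X J.n} {gen : ℕ → Γ} {A : Subgroup Γ} (h : J.Model T gen A) : Cov h.M (J.el gen) [L0, L1, L2] R [nat_lit 84204, nat_lit 139914] :=
  cov_full (ctx h) n759

theorem cov758 {Γ X : Type*} [Group Γ] [MulAction Γ X] {T : Lst X J.n} {gen : ℕ → Γ} {A : Subgroup Γ} (h : J.Model T gen A) : Cov h.M (J.el gen) [L0, L1, L2] R [nat_lit 84204, nat_lit 130122] :=
  cov_full (ctx h) n758

theorem cov757 {Γ X : Type*} [Group Γ] [MulAction Γ X] {T : Lst X J.n} {gen : ℕ → Γ} {A : Subgroup Γ} (h : J.Model T gen A) : Cov h.M (J.el gen) [L0, L1, L2] R [nat_lit 84204, nat_lit 130158] :=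
  cov_full (ctx h) n757

theorem cov756 {Γ X : Type*} [Group Γ] [MulAction Γ X] {T : Lst X J.n} {gen : ℕ → Γ} {A : Subgroup Γ} (h : J.Model T gen A) : Cov h.M (J.el gen) [L0, L1, L2] R [nat_lit 84204, nat_lit 140886] :=
  cov_full (ctx h) n756

theorem cov755 {Γ X : Type*} [Group Γ] [MulAction Γ X] {T : Lst X J.n} {gen : ℕ → Γ} {A : Subgroup Γ} (h : J.Model T gen A) : Cov h.M (J.el gen) [L0, L1, L2] R [nat_lit 84204, nat_lit 129204] :=
  cov_full (ctx h) n755

theorem cov754 {Γ X : Type*} [Group Γ] [MulAction Γ X] {T : Lst X J.n} {gen : ℕ → Γ} {A : Subgroup Γ} (h : J.Model T gen A) : Cov h.M (J.el gen) [L0, L1, L2] R [nat_lit 84204, nat_lit 129150] :=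
  cov_full (ctx h) n754

theorem cov753 {Γ X : Type*} [Group Γ] [MulAction Γ X] {T : Lst X J.n} {gen : ℕ → Γ} {A : Subgroup Γ} (h : J.Model T gen A) : Cov h.M (J.el gen) [L0, L1, L2] R [nat_lit 84204, nat_lit 133632] :=
  cov_full (ctx h) n753

theorem cov752 {Γ X : Type*} [Group Γ] [MulAction Γ X] {T : Lst X J.n} {gen : ℕ → Γ} {A : Subgroup Γ} (h : J.Model T gen A) : Cov h.M (J.el gen) [L0, L1, L2] R [nat_lit 84204, nat_lit 122040] :=
  cov_full (ctx h) n752

theorem cov751 {Γ X : Type*} [Group Γ] [MulAction Γ X] {T : Lst X J.n} {gen : ℕ → Γ} {A : Subgroup Γ} (h : J.Model T gen A) : Cov h.M (J.el gen) [L0, L1, L2] R [nat_lit 84204, nat_lit 120492] :=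
  cov_full (ctx h) n751

theorem cov750 {Γ X : Type*} [Group Γ] [MulAction Γ X] {T : Lst X J.n} {gen : ℕ → Γ} {A : Subgroup Γ} (h : J.Model T gen A) : Cov h.M (J.el gen) [L0, L1, L2] R [nat_lit 84204, nat_lit 125478] :=
  cov_full (ctx h) n750

theorem cov749 {Γ X : Type*} [Group Γ] [MulAction Γ X] {T : Lst X J.n} {gen : ℕ → Γ} {A : Subgroup Γ} (h : J.Model T gen A) : Cov h.M (J.el gen) [L0, L1, L2] R [nat_lit 84204, nat_lit 119358] :=
  cov_full (ctx h) n749

theorem cov748 {Γ X : Type*} [Group Γ] [MulAction Γ X] {T : Lst X J.n} {gen : ℕ → Γ} {A : Subgroup Γ} (h : J.Model T gen A) : Cov h.M (J.el gen) [L0, L1, L2] R [nat_lit 84204, nat_lit 116136] :=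
  cov_full (ctx h) n748

theorem cov747 {Γ X : Type*} [Group Γ] [MulAction Γ X] {T : Lst X J.n} {gen : ℕ → Γ} {A : Subgroup Γ} (h : J.Model T gen A) : Cov h.M (J.el gen) [L0, L1, L2] R [nat_lit 84204, nat_lit 118224] :=
  cov_full (ctx h) n747

theorem cov746 {Γ X : Type*} [Group Γ] [MulAction Γ X] {T : Lst X J.n} {gen : ℕ → Γ} {A : Subgroup Γ} (h : J.Model T gen A) : Cov h.M (J.el gen) [L0, L1, L2] R [nat_lit 84204, nat_lit 115578] :=
  cov_full (ctx h) n746

theorem cov745 {Γ X : Type*} [Group Γ] [MulAction Γ X] {T : Lst X J.n} {gen : ℕ → Γ} {A : Subgroup Γ} (h : J.Model T gen A) : Cov h.M (J.el gen) [L0, L1, L2] R [nat_lit 84204, nat_lit 124326] :=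
  cov_full (ctx h) n745

theorem cov744 {Γ X : Type*} [Group Γ] [MulAction Γ X] {T : Lst X J.n} {gen : ℕ → Γ} {A : Subgroup Γ} (h : J.Model T gen A) : Cov h.M (J.el gen) [L0, L1, L2] R [nat_lit 84204, nat_lit 124884] :=
  cov_full (ctx h) n744

theorem cov743 {Γ X : Type*} [Group Γ] [MulAction Γ X] {T : Lst X J.n} {gen : ℕ → Γ} {A : Subgroup Γ} (h : J.Model T gen A) : Cov h.M (J.el gen) [L0, L1, L2] R [nat_lit 84204, nat_lit 112842] :=
  cov_full (ctx h) n743

theorem cov742 {Γ X : Type*} [Group Γ] [MulAction Γ X] {T : Lst X J.n} {gen : ℕ → Γ} {A : Subgroup Γ} (h : J.Model T gen A) : Cov h.M (J.el gen) [L0, L1, L2] R [nat_lit 84204, nat_lit 114354] :=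
  cov_full (ctx h) n742

theorem cov741 {Γ X : Type*} [Group Γ] [MulAction Γ X] {T : Lst X J.n} {gen : ℕ → Γ} {A : Subgroup Γ} (h : J.Model T gen A) : Cov h.M (J.el gen) [L0, L1, L2] R [nat_lit 84204, nat_lit 114552] :=
  cov_full (ctx h) n741

theorem cov740 {Γ X : Type*} [Group Γ] [MulAction Γ X] {T : Lst X J.n} {gen : ℕ → Γ} {A : Subgroup Γ} (h : J.Model T gen A) : Cov h.M (J.el gen) [L0, L1, L2] R [nat_lit 84204, nat_lit 121014] :=
  cov_full (ctx h) n740

theorem cov739 {Γ X : Type*} [Group Γ] [MulAction Γ X] {T : Lst X J.n} {gen : ℕ → Γ} {A : Subgroup Γ} (h : J.Model T gen A) : Cov h.M (J.el gen) [L0, L1, L2] R [nat_lit 84204, nat_lit 123300] :=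
  cov_full (ctx h) n739

theorem cov738 {Γ X : Type*} [Group Γ] [MulAction Γ X] {T : Lst X J.n} {gen : ℕ → Γ} {A : Subgroup Γ} (h : J.Model T gen A) : Cov h.M (J.el gen) [L0, L1, L2] R [nat_lit 84204, nat_lit 112302] :=
  cov_full (ctx h) n738

theorem cov737 {Γ X : Type*} [Group Γ] [MulAction Γ X] {T : Lst X J.n} {gen : ℕ → Γ} {A : Subgroup Γ} (h : J.Model T gen A) : Cov h.M (J.el gen) [L0, L1, L2] R [nat_lit 84204, nat_lit 122328] :=
  cov_full (ctx h) n737

theorem cov736 {Γ X : Type*} [Group Γ] [MulAction Γ X] {T : Lst X J.n} {gen : ℕ → Γ} {A : Subgroup Γ} (h : J.Model T gen A) : Cov h.M (J.el gen) [L0, L1, L2] R [nat_lit 84204, nat_lit 121176] :=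
  cov_full (ctx h) n736

theorem cov735 {Γ X : Type*} [Group Γ] [MulAction Γ X] {T : Lst X J.n} {gen : ℕ → Γ} {A : Subgroup Γ} (h : J.Model T gen A) : Cov h.M (J.el gen) [L0, L1, L2] R [nat_lit 84204, nat_lit 112050] :=
  cov_full (ctx h) n735

theorem cov734 {Γ X : Type*} [Group Γ] [MulAction Γ X] {T : Lst X J.n} {gen : ℕ → Γ} {A : Subgroup Γ} (h : J.Model T gen A) : Cov h.M (J.el gen) [L0, L1, L2] R [nat_lit 84204, nat_lit 110988] :=
  cov_full (ctx h) n734

theorem cov733 {Γ X : Type*} [Group Γ] [MulAction Γ X] {T : Lst X J.n} {gen : ℕ → Γ} {A : Subgroup Γ} (h : J.Model T gen A) : Cov h.M (J.el gen) [L0, L1, L2] R [nat_lit 84204, nat_lit 111438] :=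
  cov_full (ctx h) n733

theorem cov732 {Γ X : Type*} [Group Γ] [MulAction Γ X] {T : Lst X J.n} {gen : ℕ → Γ} {A : Subgroup Γ} (h : J.Model T gen A) : Cov h.M (J.el gen) [L0, L1, L2] R [nat_lit 84204, nat_lit 111798] :=
  cov_full (ctx h) n732

theorem cov731 {Γ X : Type*} [Group Γ] [MulAction Γ X] {T : Lst X J.n} {gen : ℕ → Γ} {A : Subgroup Γ} (h : J.Model T gen A) : Cov h.M (J.el gen) [L0, L1, L2] R [nat_lit 84204, nat_lit 110772] :=
  cov_full (ctx h) n731

theorem cov730 {Γ X : Type*} [Group Γ] [MulAction Γ X] {T : Lst X J.n} {gen : ℕ → Γ} {A : Subgroup Γ} (h : J.Model T gen A) : Cov h.M (J.el gen) [L0, L1, L2] R [nat_lit 84204, nat_lit 110718] :=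
  cov_full (ctx h) n730

theorem cov729 {Γ X : Type*} [Group Γ] [MulAction Γ X] {T : Lst X J.n} {gen : ℕ → Γ} {A : Subgroup Γ} (h : J.Model T gen A) : Cov h.M (J.el gen) [L0, L1, L2] R [nat_lit 84204, nat_lit 110664] :=
  cov_full (ctx h) n729

theorem cov728 {Γ X : Type*} [Group Γ] [MulAction Γ X] {T : Lst X J.n} {gen : ℕ → Γ} {A : Subgroup Γ} (h : J.Model T gen A) : Cov h.M (J.el gen) [L0, L1, L2] R [nat_lit 84204, nat_lit 106776] :=
  cov_full (ctx h) n728

theorem cov727 {Γ X : Type*} [Group Γ] [MulAction Γ X] {T : Lst X J.n} {gen : ℕ → Γ} {A : Subgroup Γ} (h : J.Model T gen A) : Cov h.M (J.el gen) [L0, L1, L2] R [nat_lit 84204, nat_lit 104958] :=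
  cov_full (ctx h) n727

theorem cov726 {Γ X : Type*} [Group Γ] [MulAction Γ X] {T : Lst X J.n} {gen : ℕ → Γ} {A : Subgroup Γ} (h : J.Model T gen A) : Cov h.M (J.el gen) [L0, L1, L2] R [nat_lit 84204, nat_lit 100998] :=
  cov_full (ctx h) n726

theorem cov725 {Γ X : Type*} [Group Γ] [MulAction Γ X] {T : Lst X J.n} {gen : ℕ → Γ} {A : Subgroup Γ} (h : J.Model T gen A) : Cov h.M (J.el gen) [L0, L1, L2] R [nat_lit 84204, nat_lit 100962] :=
  cov_full (ctx h) n725

theorem cov724 {Γ X : Type*} [Group Γ] [MulAction Γ X] {T : Lst X J.n} {gen : ℕ → Γ} {A : Subgroup Γ} (h : J.Model T gen A) : Cov h.M (J.el gen) [L0, L1, L2] R [nat_lit 84204, nat_lit 97668] :=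
  cov_full (ctx h) n724

theorem cov723 {Γ X : Type*} [Group Γ] [MulAction Γ X] {T : Lst X J.n} {gen : ℕ → Γ} {A : Subgroup Γ} (h : J.Model T gen A) : Cov h.M (J.el gen) [L0, L1, L2] R [nat_lit 84204, nat_lit 98712] :=
  cov_full (ctx h) n723

theorem cov722 {Γ X : Type*} [Group Γ] [MulAction Γ X] {T : Lst X J.n} {gen : ℕ → Γ} {A : Subgroup Γ} (h : J.Model T gen A) : Cov h.M (J.el gen) [L0, L1, L2] R [nat_lit 84204, nat_lit 97128] :=
  cov_full (ctx h) n722

theorem cov721 {Γ X : Type*} [Group Γ] [MulAction Γ X] {T : Lst X J.n} {gen : ℕ → Γ} {A : Subgroup Γ} (h : J.Model T gen A) : Cov h.M (J.el gen) [L0, L1, L2] R [nat_lit 84204, nat_lit 96984] :=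
  cov_full (ctx h) n721

theorem cov720 {Γ X : Type*} [Group Γ] [MulAction Γ X] {T : Lst X J.n} {gen : ℕ → Γ} {A : Subgroup Γ} (h : J.Model T gen A) : Cov h.M (J.el gen) [L0, L1, L2] R [nat_lit 84204, nat_lit 98406] :=
  cov_full (ctx h) n720

theorem cov719 {Γ X : Type*} [Group Γ] [MulAction Γ X] {T : Lst X J.n} {gen : ℕ → Γ} {A : Subgroup Γ} (h : J.Model T gen A) : Cov h.M (J.el gen) [L0, L1, L2] R [nat_lit 84204, nat_lit 95940] :=
  cov_full (ctx h) n719

theorem cov718 {Γ X : Type*} [Group Γ] [MulAction Γ X] {T : Lst X J.n} {gen : ℕ → Γ} {A : Subgroup Γ} (h : J.Model T gen A) : Cov h.M (J.el gen) [L0, L1, L2] R [nat_lit 84204, nat_lit 95040] :=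
  cov_full (ctx h) n718

theorem cov717 {Γ X : Type*} [Group Γ] [MulAction Γ X] {T : Lst X J.n} {gen : ℕ → Γ} {A : Subgroup Γ} (h : J.Model T gen A) : Cov h.M (J.el gen) [L0, L1, L2] R [nat_lit 84204, nat_lit 99270] :=
  cov_full (ctx h) n717

theorem cov716 {Γ X : Type*} [Group Γ] [MulAction Γ X] {T : Lst X J.n} {gen : ℕ → Γ} {A : Subgroup Γ} (h : J.Model T gen A) : Cov h.M (J.el gen) [L0, L1, L2] R [nat_lit 84204, nat_lit 97740] :=
  cov_full (ctx h) n716

theorem cov715 {Γ X : Type*} [Group Γ] [MulAction Γ X] {T : Lst X J.n} {gen : ℕ → Γ} {A : Subgroup Γ} (h : J.Model T gen A) : Cov h.M (J.el gen) [L0, L1, L2] R [nat_lit 84204, nat_lit 102024] :=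
  cov_full (ctx h) n715

theorem cov714 {Γ X : Type*} [Group Γ] [MulAction Γ X] {T : Lst X J.n} {gen : ℕ → Γ} {A : Subgroup Γ} (h : J.Model T gen A) : Cov h.M (J.el gen) [L0, L1, L2] R [nat_lit 84204, nat_lit 94986] :=
  cov_full (ctx h) n714

theorem cov713 {Γ X : Type*} [Group Γ] [MulAction Γ X] {T : Lst X J.n} {gen : ℕ → Γ} {A : Subgroup Γ} (h : J.Model T gen A) : Cov h.M (J.el gen) [L0, L1, L2] R [nat_lit 84204, nat_lit 96300] :=
  cov_full (ctx h) n713

theorem cov712 {Γ X : Type*} [Group Γ] [MulAction Γ X] {T : Lst X J.n} {gen : ℕ → Γ} {A : Subgroup Γ} (h : J.Model T gen A) : Cov h.M (J.el gen) [L0, L1, L2] R [nat_lit 84204, nat_lit 93708] :=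
  cov_full (ctx h) n712

theorem cov711 {Γ X : Type*} [Group Γ] [MulAction Γ X] {T : Lst X J.n} {gen : ℕ → Γ} {A : Subgroup Γ} (h : J.Model T gen A) : Cov h.M (J.el gen) [L0, L1, L2] R [nat_lit 84204, nat_lit 93582] :=
  cov_full (ctx h) n711

theorem cov710 {Γ X : Type*} [Group Γ] [MulAction Γ X] {T : Lst X J.n} {gen : ℕ → Γ} {A : Subgroup Γ} (h : J.Model T gen A) : Cov h.M (J.el gen) [L0, L1, L2] R [nat_lit 84204, nat_lit 93510] :=
  cov_full (ctx h) n710

theorem cov709 {Γ X : Type*} [Group Γ] [MulAction Γ X] {T : Lst X J.n} {gen : ℕ → Γ} {A : Subgroup Γ} (h : J.Model T gen A) : Cov h.M (J.el gen) [L0, L1, L2] R [nat_lit 84204, nat_lit 97038] :=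
  cov_full (ctx h) n709

theorem cov708 {Γ X : Type*} [Group Γ] [MulAction Γ X] {T : Lst X J.n} {gen : ℕ → Γ} {A : Subgroup Γ} (h : J.Model T gen A) : Cov h.M (J.el gen) [L0, L1, L2] R [nat_lit 84204, nat_lit 93402] :=
  cov_full (ctx h) n708

theorem cov707 {Γ X : Type*} [Group Γ] [MulAction Γ X] {T : Lst X J.n} {gen : ℕ → Γ} {A : Subgroup Γ} (h : J.Model T gen A) : Cov h.M (J.el gen) [L0, L1, L2] R [nat_lit 84204, nat_lit 92340] :=
  cov_full (ctx h) n707

theorem cov706 {Γ X : Type*} [Group Γ] [MulAction Γ X] {T : Lst X J.n} {gen : ℕ → Γ} {A : Subgroup Γ} (h : J.Model T gen A) : Cov h.M (J.el gen) [L0, L1, L2] R [nat_lit 84204, nat_lit 104382] :=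
  cov_full (ctx h) n706

theorem cov705 {Γ X : Type*} [Group Γ] [MulAction Γ X] {T : Lst X J.n} {gen : ℕ → Γ} {A : Subgroup Γ} (h : J.Model T gen A) : Cov h.M (J.el gen) [L0, L1, L2] R [nat_lit 84204, nat_lit 98280] :=
  cov_full (ctx h) n705

theorem cov704 {Γ X : Type*} [Group Γ] [MulAction Γ X] {T : Lst X J.n} {gen : ℕ → Γ} {A : Subgroup Γ} (h : J.Model T gen A) : Cov h.M (J.el gen) [L0, L1, L2] R [nat_lit 84204, nat_lit 90072] :=
  cov_full (ctx h) n704

theorem cov703 {Γ X : Type*} [Group Γ] [MulAction Γ X] {T : Lst X J.n} {gen : ℕ → Γ} {A : Subgroup Γ} (h : J.Model T gen A) : Cov h.M (J.el gen) [L0, L1, L2] R [nat_lit 84204, nat_lit 90180] :=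
  cov_full (ctx h) n703

theorem cov702 {Γ X : Type*} [Group Γ] [MulAction Γ X] {T : Lst X J.n} {gen : ℕ → Γ} {A : Subgroup Γ} (h : J.Model T gen A) : Cov h.M (J.el gen) [L0, L1, L2] R [nat_lit 84204, nat_lit 90252] :=
  cov_full (ctx h) n702

theorem cov701 {Γ X : Type*} [Group Γ] [MulAction Γ X] {T : Lst X J.n} {gen : ℕ → Γ} {A : Subgroup Γ} (h : J.Model T gen A) : Cov h.M (J.el gen) [L0, L1, L2] R [nat_lit 84204, nat_lit 89856] :=
  cov_full (ctx h) n701

theorem cov700 {Γ X : Type*} [Group Γ] [MulAction Γ X] {T : Lst X J.n} {gen : ℕ → Γ} {A : Subgroup Γ} (h : J.Model T gen A) : Cov h.M (J.el gen) [L0, L1, L2] R [nat_lit 84204, nat_lit 84330] :=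
  cov_full (ctx h) n700

theorem cov699 {Γ X : Type*} [Group Γ] [MulAction Γ X] {T : Lst X J.n} {gen : ℕ → Γ} {A : Subgroup Γ} (h : J.Model T gen A) : Cov h.M (J.el gen) [L0, L1, L2] R [nat_lit 84204, nat_lit 84438] :=
  cov_full (ctx h) n699

theorem cov698 {Γ X : Type*} [Group Γ] [MulAction Γ X] {T : Lst X J.n} {gen : ℕ → Γ} {A : Subgroup Γ} (h : J.Model T gen A) : Cov h.M (J.el gen) [L0, L1, L2] R [nat_lit 84204, nat_lit 84186] :=
  cov_full (ctx h) n698

theorem cov697 {Γ X : Type*} [Group Γ] [MulAction Γ X] {T : Lst X J.n} {gen : ℕ → Γ} {A : Subgroup Γ} (h : J.Model T gen A) : Cov h.M (J.el gen) [L0, L1, L2] R [nat_lit 84204, nat_lit 84114] :=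
  cov_full (ctx h) n697

theorem cov696 {Γ X : Type*} [Group Γ] [MulAction Γ X] {T : Lst X J.n} {gen : ℕ → Γ} {A : Subgroup Γ} (h : J.Model T gen A) : Cov h.M (J.el gen) [L0, L1, L2] R [nat_lit 84204, nat_lit 82620] :=
  cov_full (ctx h) n696

theorem cov695 {Γ X : Type*} [Group Γ] [MulAction Γ X] {T : Lst X J.n} {gen : ℕ → Γ} {A : Subgroup Γ} (h : J.Model T gen A) : Cov h.M (J.el gen) [L0, L1, L2] R [nat_lit 84204, nat_lit 81918] :=
  cov_full (ctx h) n695

theorem cov694 {Γ X : Type*} [Group Γ] [MulAction Γ X] {T : Lst X J.n} {gen : ℕ → Γ} {A : Subgroup Γ} (h : J.Model T gen A) : Cov h.M (J.el gen) [L0, L1, L2] R [nat_lit 84204, nat_lit 81846] :=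
  cov_full (ctx h) n694

theorem cov693 {Γ X : Type*} [Group Γ] [MulAction Γ X] {T : Lst X J.n} {gen : ℕ → Γ} {A : Subgroup Γ} (h : J.Model T gen A) : Cov h.M (J.el gen) [L0, L1, L2] R [nat_lit 84204, nat_lit 81774] :=
  cov_full (ctx h) n693

theorem cov692 {Γ X : Type*} [Group Γ] [MulAction Γ X] {T : Lst X J.n} {gen : ℕ → Γ} {A : Subgroup Γ} (h : J.Model T gen A) : Cov h.M (J.el gen) [L0, L1, L2] R [nat_lit 84204, nat_lit 78210] :=
  cov_full (ctx h) n692

theorem cov691 {Γ X : Type*} [Group Γ] [MulAction Γ X] {T : Lst X J.n} {gen : ℕ → Γ} {A : Subgroup Γ} (h : J.Model T gen A) : Cov h.M (J.el gen) [L0, L1, L2] R [nat_lit 84204, nat_lit 78084] :=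
  cov_full (ctx h) n691

theorem cov690 {Γ X : Type*} [Group Γ] [MulAction Γ X] {T : Lst X J.n} {gen : ℕ → Γ} {A : Subgroup Γ} (h : J.Model T gen A) : Cov h.M (J.el gen) [L0, L1, L2] R [nat_lit 84204, nat_lit 77976] :=
  cov_full (ctx h) n690

theorem cov689 {Γ X : Type*} [Group Γ] [MulAction Γ X] {T : Lst X J.n} {gen : ℕ → Γ} {A : Subgroup Γ} (h : J.Model T gen A) : Cov h.M (J.el gen) [L0, L1, L2] R [nat_lit 84204, nat_lit 89532] :=
  cov_full (ctx h) n689

theorem cov688 {Γ X : Type*} [Group Γ] [MulAction Γ X] {T : Lst X J.n} {gen : ℕ → Γ} {A : Subgroup Γ} (h : J.Model T gen A) : Cov h.M (J.el gen) [L0, L1, L2] R [nat_lit 84204, nat_lit 88488] :=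
  cov_full (ctx h) n688

theorem cov687 {Γ X : Type*} [Group Γ] [MulAction Γ X] {T : Lst X J.n} {gen : ℕ → Γ} {A : Subgroup Γ} (h : J.Model T gen A) : Cov h.M (J.el gen) [L0, L1, L2] R [nat_lit 84204, nat_lit 77652] :=
  cov_full (ctx h) n687

theorem cov686 {Γ X : Type*} [Group Γ] [MulAction Γ X] {T : Lst X J.n} {gen : ℕ → Γ} {A : Subgroup Γ} (h : J.Model T gen A) : Cov h.M (J.el gen) [L0, L1, L2] R [nat_lit 84204, nat_lit 92034] :=
  cov_full (ctx h) n686

theorem cov685 {Γ X : Type*} [Group Γ] [MulAction Γ X] {T : Lst X J.n} {gen : ℕ → Γ} {A : Subgroup Γ} (h : J.Model T gen A) : Cov h.M (J.el gen) [L0, L1, L2] R [nat_lit 84204, nat_lit 77148] :=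
  cov_full (ctx h) n685

theorem cov684 {Γ X : Type*} [Group Γ] [MulAction Γ X] {T : Lst X J.n} {gen : ℕ → Γ} {A : Subgroup Γ} (h : J.Model T gen A) : Cov h.M (J.el gen) [L0, L1, L2] R [nat_lit 84204, nat_lit 77112] :=
  cov_full (ctx h) n684

theorem cov683 {Γ X : Type*} [Group Γ] [MulAction Γ X] {T : Lst X J.n} {gen : ℕ → Γ} {A : Subgroup Γ} (h : J.Model T gen A) : Cov h.M (J.el gen) [L0, L1, L2] R [nat_lit 84204, nat_lit 87066] :=
  cov_full (ctx h) n683

theorem cov682 {Γ X : Type*} [Group Γ] [MulAction Γ X] {T : Lst X J.n} {gen : ℕ → Γ} {A : Subgroup Γ} (h : J.Model T gen A) : Cov h.M (J.el gen) [L0, L1, L2] R [nat_lit 84204, nat_lit 76698] :=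
  cov_full (ctx h) n682

theorem cov681 {Γ X : Type*} [Group Γ] [MulAction Γ X] {T : Lst X J.n} {gen : ℕ → Γ} {A : Subgroup Γ} (h : J.Model T gen A) : Cov h.M (J.el gen) [L0, L1, L2] R [nat_lit 84204, nat_lit 76734] :=
  cov_full (ctx h) n681

theorem cov680 {Γ X : Type*} [Group Γ] [MulAction Γ X] {T : Lst X J.n} {gen : ℕ → Γ} {A : Subgroup Γ} (h : J.Model T gen A) : Cov h.M (J.el gen) [L0, L1, L2] R [nat_lit 84204, nat_lit 87282] :=
  cov_full (ctx h) n680

theorem cov679 {Γ X : Type*} [Group Γ] [MulAction Γ X] {T : Lst X J.n} {gen : ℕ → Γ} {A : Subgroup Γ} (h : J.Model T gen A) : Cov h.M (J.el gen) [L0, L1, L2] R [nat_lit 84204, nat_lit 86148] :=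
  cov_full (ctx h) n679

theorem cov678 {Γ X : Type*} [Group Γ] [MulAction Γ X] {T : Lst X J.n} {gen : ℕ → Γ} {A : Subgroup Γ} (h : J.Model T gen A) : Cov h.M (J.el gen) [L0, L1, L2] R [nat_lit 84204, nat_lit 76122] :=
  cov_full (ctx h) n678

theorem cov677 {Γ X : Type*} [Group Γ] [MulAction Γ X] {T : Lst X J.n} {gen : ℕ → Γ} {A : Subgroup Γ} (h : J.Model T gen A) : Cov h.M (J.el gen) [L0, L1, L2] R [nat_lit 84204, nat_lit 76014] :=
  cov_full (ctx h) n677

theorem cov676 {Γ X : Type*} [Group Γ] [MulAction Γ X] {T : Lst X J.n} {gen : ℕ → Γ} {A : Subgroup Γ} (h : J.Model T gen A) : Cov h.M (J.el gen) [L0, L1, L2] R [nat_lit 84204, nat_lit 75798] :=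
  cov_full (ctx h) n676

theorem cov675 {Γ X : Type*} [Group Γ] [MulAction Γ X] {T : Lst X J.n} {gen : ℕ → Γ} {A : Subgroup Γ} (h : J.Model T gen A) : Cov h.M (J.el gen) [L0, L1, L2] R [nat_lit 84204, nat_lit 75960] :=
  cov_full (ctx h) n675

theorem cov674 {Γ X : Type*} [Group Γ] [MulAction Γ X] {T : Lst X J.n} {gen : ℕ → Γ} {A : Subgroup Γ} (h : J.Model T gen A) : Cov h.M (J.el gen) [L0, L1, L2] R [nat_lit 84204, nat_lit 81522] :=
  cov_full (ctx h) n674

theorem cov673 {Γ X : Type*} [Group Γ] [MulAction Γ X] {T : Lst X J.n} {gen : ℕ → Γ} {A : Subgroup Γ} (h : J.Model T gen A) : Cov h.M (J.el gen) [L0, L1, L2] R [nat_lit 84204, nat_lit 78336] :=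
  cov_full (ctx h) n673

theorem cov672 {Γ X : Type*} [Group Γ] [MulAction Γ X] {T : Lst X J.n} {gen : ℕ → Γ} {A : Subgroup Γ} (h : J.Model T gen A) : Cov h.M (J.el gen) [L0, L1, L2] R [nat_lit 84204, nat_lit 75402] :=
  cov_full (ctx h) n672

theorem cov671 {Γ X : Type*} [Group Γ] [MulAction Γ X] {T : Lst X J.n} {gen : ℕ → Γ} {A : Subgroup Γ} (h : J.Model T gen A) : Cov h.M (J.el gen) [L0, L1, L2] R [nat_lit 84204, nat_lit 81378] :=
  cov_full (ctx h) n671

theorem cov670 {Γ X : Type*} [Group Γ] [MulAction Γ X] {T : Lst X J.n} {gen : ℕ → Γ} {A : Subgroup Γ} (h : J.Model T gen A) : Cov h.M (J.el gen) [L0, L1, L2] R [nat_lit 84204, nat_lit 74934] :=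
  cov_full (ctx h) n670

theorem cov669 {Γ X : Type*} [Group Γ] [MulAction Γ X] {T : Lst X J.n} {gen : ℕ → Γ} {A : Subgroup Γ} (h : J.Model T gen A) : Cov h.M (J.el gen) [L0, L1, L2] R [nat_lit 84204, nat_lit 78444] :=
  cov_full (ctx h) n669

theorem cov668 {Γ X : Type*} [Group Γ] [MulAction Γ X] {T : Lst X J.n} {gen : ℕ → Γ} {A : Subgroup Γ} (h : J.Model T gen A) : Cov h.M (J.el gen) [L0, L1, L2] R [nat_lit 84204, nat_lit 73962] :=
  cov_full (ctx h) n668

theorem cov667 {Γ X : Type*} [Group Γ] [MulAction Γ X] {T : Lst X J.n} {gen : ℕ → Γ} {A : Subgroup Γ} (h : J.Model T gen A) : Cov h.M (J.el gen) [L0, L1, L2] R [nat_lit 84204, nat_lit 74592] :=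
  cov_full (ctx h) n667

theorem cov666 {Γ X : Type*} [Group Γ] [MulAction Γ X] {T : Lst X J.n} {gen : ℕ → Γ} {A : Subgroup Γ} (h : J.Model T gen A) : Cov h.M (J.el gen) [L0, L1, L2] R [nat_lit 84204, nat_lit 73926] :=
  cov_full (ctx h) n666

theorem cov665 {Γ X : Type*} [Group Γ] [MulAction Γ X] {T : Lst X J.n} {gen : ℕ → Γ} {A : Subgroup Γ} (h : J.Model T gen A) : Cov h.M (J.el gen) [L0, L1, L2] R [nat_lit 84204, nat_lit 73908] :=
  cov_full (ctx h) n665

theorem cov664 {Γ X : Type*} [Group Γ] [MulAction Γ X] {T : Lst X J.n} {gen : ℕ → Γ} {A : Subgroup Γ} (h : J.Model T gen A) : Cov h.M (J.el gen) [L0, L1, L2] R [nat_lit 84204] :=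
  cov_red (ctx h) h.hAV n664 (forall_mem_cons' (cov665 h) (forall_mem_cons' (cov666 h) (forall_mem_cons' (cov667 h) (forall_mem_cons' (cov668 h) (forall_mem_cons' (cov669 h) (forall_mem_cons' (cov670 h) (forall_mem_cons' (cov671 h) (forall_mem_cons' (cov672 h) (forall_mem_cons' (cov673 h) (forall_mem_cons' (cov674 h) (forall_mem_cons' (cov675 h) (forall_mem_cons' (cov676 h) (forall_mem_cons' (cov677 h) (forall_mem_cons' (cov678 h) (forall_mem_cons' (cov679 h) (forall_mem_cons' (cov680 h) (forall_mem_cons' (cov681 h) (forall_mem_cons' (cov682 h) (forall_mem_cons' (cov683 h) (forall_mem_cons' (cov684 h) (forall_mem_cons' (cov685 h) (forall_mem_cons' (cov686 h) (forall_mem_cons' (cov687 h) (forall_mem_cons' (cov688 h) (forall_mem_cons' (cov689 h) (forall_mem_cons' (cov690 h) (forall_mem_cons' (cov691 h) (forall_mem_cons' (cov692 h) (forall_mem_cons' (cov693 h) (forall_mem_cons' (cov694 h) (forall_mem_cons' (cov695 h) (forall_mem_cons'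 (cov696 h) (forall_mem_cons' (cov697 h) (forall_mem_cons' (cov698 h) (forall_mem_cons' (cov699 h) (forall_mem_cons' (cov700 h) (forall_mem_cons' (cov701 h) (forall_mem_cons' (cov702 h) (forall_mem_cons' (cov703 h) (forall_mem_cons' (cov704 h) (forall_mem_cons' (cov705 h) (forall_mem_cons' (cov706 h) (forall_mem_cons' (cov707 h) (forall_mem_cons' (cov708 h) (forall_mem_cons' (cov709 h) (forall_mem_cons' (cov710 h) (forall_mem_cons' (cov711 h) (forall_mem_cons' (cov712 h) (forall_mem_cons' (cov713 h) (forall_mem_cons' (cov714 h) (forall_mem_cons' (cov715 h) (forall_mem_cons' (cov716 h) (forall_mem_cons' (cov717 h) (forall_mem_cons' (cov718 h) (forall_mem_cons' (cov719 h) (forall_mem_cons' (cov720 h) (forall_mem_cons' (cov721 h) (forall_mem_cons' (cov722 h) (forall_mem_cons' (cov723 h) (forall_mem_cons' (cov724 h) (forall_mem_cons' (cov725 h) (forall_mem_cons' (cov726 h) (forall_mem_cons' (cov727 h) (forall_mem_cons' (cov728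 h) (forall_mem_cons' (cov729 h) (forall_mem_cons' (cov730 h) (forall_mem_cons' (cov731 h) (forall_mem_cons' (cov732 h) (forall_mem_cons' (cov733 h) (forall_mem_cons' (cov734 h) (forall_mem_cons' (cov735 h) (forall_mem_cons' (cov736 h) (forall_mem_cons' (cov737 h) (forall_mem_cons' (cov738 h) (forall_mem_cons' (cov739 h) (forall_mem_cons' (cov740 h) (forall_mem_cons' (cov741 h) (forall_mem_cons' (cov742 h) (forall_mem_cons' (cov743 h) (forall_mem_cons' (cov744 h) (forall_mem_cons' (cov745 h) (forall_mem_cons' (cov746 h) (forall_mem_cons' (cov747 h) (forall_mem_cons' (cov748 h) (forall_mem_cons' (cov749 h) (forall_mem_cons' (cov750 h) (forall_mem_cons' (cov751 h) (forall_mem_cons' (cov752 h) (forall_mem_cons' (cov753 h) (forall_mem_cons' (cov754 h) (forall_mem_cons' (cov755 h) (forall_mem_cons' (cov756 h) (forall_mem_cons' (cov757 h) (forall_mem_cons' (cov758 h) (forall_mem_cons' (cov759 h) (forall_mem_cons' (cov760 h) (forall_mem_cons'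 (cov761 h) (forall_mem_cons' (cov762 h) (forall_mem_cons' (cov763 h) (forall_mem_cons' (cov764 h) (forall_mem_cons' (cov765 h) (forall_mem_cons' (cov766 h) (forall_mem_cons' (cov767 h) (forall_mem_cons' (cov768 h) (forall_mem_cons' (cov769 h) (forall_mem_cons' (cov770 h) (forall_mem_cons' (cov771 h) (forall_mem_cons' (cov772 h) (forall_mem_cons' (cov773 h) (forall_mem_cons' (cov774 h) (forall_mem_cons' (cov775 h) (forall_mem_cons' (cov776 h) (forall_mem_cons' (cov777 h) (forall_mem_cons' (cov778 h) (forall_mem_cons' (cov779 h) (forall_mem_cons' (cov780 h) (forall_mem_cons' (cov781 h) (forall_mem_cons' (cov782 h) (forall_mem_cons' (cov783 h) (forall_mem_cons' (cov784 h) (forall_mem_cons' (cov785 h) (forall_mem_cons' (cov786 h) (forall_mem_cons' (cov787 h) (forall_mem_cons' (cov788 h) (forall_mem_cons' (cov789 h) (forall_mem_cons' (cov790 h) (forall_mem_cons' (cov791 h) (forall_mem_cons' (cov792 h) forall_mem_nil'))))))))))))))))))))))))))))))))))))))))))))))))))))))))))))))))))))))))))))))))))))))))))))))))))))))))))))))))))))))))))))))))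

theorem cov663 {Γ X : Type*} [Group Γ] [MulAction Γ X] {T : Lst X J.n} {gen : ℕ → Γ} {A : Subgroup Γ} (h : J.Model T gen A) : Cov h.M (J.el gen) [L0, L1, L2] R [nat_lit 79596, nat_lit 141354] :=
  cov_full (ctx h) n663

theorem cov662 {Γ X : Type*} [Group Γ] [MulAction Γ X] {T : Lst X J.n} {gen : ℕ → Γ} {A : Subgroup Γ} (h : J.Model T gen A) : Cov h.M (J.el gen) [L0, L1, L2] R [nat_lit 79596, nat_lit 138636] :=
  cov_full (ctx h) n662

theorem cov661 {Γ X : Type*} [Group Γ] [MulAction Γ X] {T : Lst X J.n} {gen : ℕ → Γ} {A : Subgroup Γ} (h : J.Model T gen A) : Cov h.M (J.el gen) [L0, L1, L2] R [nat_lit 79596, nat_lit 143640] :=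
  cov_full (ctx h) n661

theorem cov660 {Γ X : Type*} [Group Γ] [MulAction Γ X] {T : Lst X J.n} {gen : ℕ → Γ} {A : Subgroup Γ} (h : J.Model T gen A) : Cov h.M (J.el gen) [L0, L1, L2] R [nat_lit 79596, nat_lit 139248] :=
  cov_full (ctx h) n660

theorem cov659 {Γ X : Type*} [Group Γ] [MulAction Γ X] {T : Lst X J.n} {gen : ℕ → Γ} {A : Subgroup Γ} (h : J.Model T gen A) : Cov h.M (J.el gen) [L0, L1, L2] R [nat_lit 79596, nat_lit 134550] :=
  cov_full (ctx h) n659

theorem cov658 {Γ X : Type*} [Group Γ] [MulAction Γ X] {T : Lst X J.n} {gen : ℕ → Γ} {A : Subgroup Γ} (h : J.Model T gen A) : Cov h.M (J.el gen) [L0, L1, L2] R [nat_lit 79596, nat_lit 134298] :=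
  cov_full (ctx h) n658

theorem cov657 {Γ X : Type*} [Group Γ] [MulAction Γ X] {T : Lst X J.n} {gen : ℕ → Γ} {A : Subgroup Γ} (h : J.Model T gen A) : Cov h.M (J.el gen) [L0, L1, L2] R [nat_lit 79596, nat_lit 144630] :=
  cov_full (ctx h) n657

theorem cov656 {Γ X : Type*} [Group Γ] [MulAction Γ X] {T : Lst X J.n} {gen : ℕ → Γ} {A : Subgroup Γ} (h : J.Model T gen A) : Cov h.M (J.el gen) [L0, L1, L2] R [nat_lit 79596, nat_lit 133848] :=
  cov_full (ctx h) n656

theorem cov655 {Γ X : Type*} [Group Γ] [MulAction Γ X] {T : Lst X J.n} {gen : ℕ → Γ} {A : Subgroup Γ} (h : J.Model T gen A) : Cov h.M (J.el gen) [L0, L1, L2] R [nat_lit 79596, nat_lit 140490] :=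
  cov_full (ctx h) n655

theorem cov654 {Γ X : Type*} [Group Γ] [MulAction Γ X] {T : Lst X J.n} {gen : ℕ → Γ} {A : Subgroup Γ} (h : J.Model T gen A) : Cov h.M (J.el gen) [L0, L1, L2] R [nat_lit 79596, nat_lit 132984] :=
  cov_full (ctx h) n654

theorem cov653 {Γ X : Type*} [Group Γ] [MulAction Γ X] {T : Lst X J.n} {gen : ℕ → Γ} {A : Subgroup Γ} (h : J.Model T gen A) : Cov h.M (J.el gen) [L0, L1, L2] R [nat_lit 79596, nat_lit 131076] :=
  cov_full (ctx h) n653

theorem cov652 {Γ X : Type*} [Group Γ] [MulAction Γ X] {T : Lst X J.n} {gen : ℕ → Γ} {A : Subgroup Γ} (h : J.Model T gen A) : Cov h.M (J.el gen) [L0, L1, L2] R [nat_lit 79596, nat_lit 131040] :=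
  cov_full (ctx h) n652

theorem cov651 {Γ X : Type*} [Group Γ] [MulAction Γ X] {T : Lst X J.n} {gen : ℕ → Γ} {A : Subgroup Γ} (h : J.Model T gen A) : Cov h.M (J.el gen) [L0, L1, L2] R [nat_lit 79596, nat_lit 140616] :=
  cov_full (ctx h) n651

theorem cov650 {Γ X : Type*} [Group Γ] [MulAction Γ X] {T : Lst X J.n} {gen : ℕ → Γ} {A : Subgroup Γ} (h : J.Model T gen A) : Cov h.M (J.el gen) [L0, L1, L2] R [nat_lit 79596, nat_lit 138564] :=
  cov_full (ctx h) n650

theorem cov649 {Γ X : Type*} [Group Γ] [MulAction Γ X] {T : Lst X J.n} {gen : ℕ → Γ} {A : Subgroup Γ} (h : J.Model T gen A) : Cov h.M (J.el gen) [L0, L1, L2] R [nat_lit 79596, nat_lit 130770] :=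
  cov_full (ctx h) n649

theorem cov648 {Γ X : Type*} [Group Γ] [MulAction Γ X] {T : Lst X J.n} {gen : ℕ → Γ} {A : Subgroup Γ} (h : J.Model T gen A) : Cov h.M (J.el gen) [L0, L1, L2] R [nat_lit 79596, nat_lit 130662] :=
  cov_full (ctx h) n648

theorem cov647 {Γ X : Type*} [Group Γ] [MulAction Γ X] {T : Lst X J.n} {gen : ℕ → Γ} {A : Subgroup Γ} (h : J.Model T gen A) : Cov h.M (J.el gen) [L0, L1, L2] R [nat_lit 79596, nat_lit 133290] :=
  cov_full (ctx h) n647

theorem cov646 {Γ X : Type*} [Group Γ] [MulAction Γ X] {T : Lst X J.n} {gen : ℕ → Γ} {A : Subgroup Γ} (h : J.Model T gen A) : Cov h.M (J.el gen) [L0, L1, L2] R [nat_lit 79596, nat_lit 130500] :=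
  cov_full (ctx h) n646

theorem cov645 {Γ X : Type*} [Group Γ] [MulAction Γ X] {T : Lst X J.n} {gen : ℕ → Γ} {A : Subgroup Γ} (h : J.Model T gen A) : Cov h.M (J.el gen) [L0, L1, L2] R [nat_lit 79596, nat_lit 129546] :=
  cov_full (ctx h) n645

theorem cov644 {Γ X : Type*} [Group Γ] [MulAction Γ X] {T : Lst X J.n} {gen : ℕ → Γ} {A : Subgroup Γ} (h : J.Model T gen A) : Cov h.M (J.el gen) [L0, L1, L2] R [nat_lit 79596, nat_lit 131418] :=
  cov_full (ctx h) n644

theorem cov643 {Γ X : Type*} [Group Γ] [MulAction Γ X] {T : Lst X J.n} {gen : ℕ → Γ} {A : Subgroup Γ} (h : J.Model T gen A) : Cov h.M (J.el gen) [L0, L1, L2] R [nat_lit 79596, nat_lit 129276] :=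
  cov_full (ctx h) n643

theorem cov642 {Γ X : Type*} [Group Γ] [MulAction Γ X] {T : Lst X J.n} {gen : ℕ → Γ} {A : Subgroup Γ} (h : J.Model T gen A) : Cov h.M (J.el gen) [L0, L1, L2] R [nat_lit 79596, nat_lit 142812] :=
  cov_full (ctx h) n642

theorem cov641 {Γ X : Type*} [Group Γ] [MulAction Γ X] {T : Lst X J.n} {gen : ℕ → Γ} {A : Subgroup Γ} (h : J.Model T gen A) : Cov h.M (J.el gen) [L0, L1, L2] R [nat_lit 79596, nat_lit 140400] :=
  cov_full (ctx h) n641

theorem cov640 {Γ X : Type*} [Group Γ] [MulAction Γ X] {T : Lst X J.n} {gen : ℕ → Γ} {A : Subgroup Γ} (h : J.Model T gen A) : Cov h.M (J.el gen) [L0, L1, L2] R [nat_lit 79596, nat_lit 129114] :=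
  cov_full (ctx h) n640

theorem cov639 {Γ X : Type*} [Group Γ] [MulAction Γ X] {T : Lst X J.n} {gen : ℕ → Γ} {A : Subgroup Γ} (h : J.Model T gen A) : Cov h.M (J.el gen) [L0, L1, L2] R [nat_lit 79596, nat_lit 122868] :=
  cov_full (ctx h) n639

theorem cov638 {Γ X : Type*} [Group Γ] [MulAction Γ X] {T : Lst X J.n} {gen : ℕ → Γ} {A : Subgroup Γ} (h : J.Model T gen A) : Cov h.M (J.el gen) [L0, L1, L2] R [nat_lit 79596, nat_lit 120240] :=
  cov_full (ctx h) n638

theorem cov637 {Γ X : Type*} [Group Γ] [MulAction Γ X] {T : Lst X J.n} {gen : ℕ → Γ} {A : Subgroup Γ} (h : J.Model T gen A) : Cov h.M (J.el gen) [L0, L1, L2] R [nat_lit 79596, nat_lit 116856] :=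
  cov_full (ctx h) n637

theorem cov636 {Γ X : Type*} [Group Γ] [MulAction Γ X] {T : Lst X J.n} {gen : ℕ → Γ} {A : Subgroup Γ} (h : J.Model T gen A) : Cov h.M (J.el gen) [L0, L1, L2] R [nat_lit 79596, nat_lit 116766] :=
  cov_full (ctx h) n636

theorem cov635 {Γ X : Type*} [Group Γ] [MulAction Γ X] {T : Lst X J.n} {gen : ℕ → Γ} {A : Subgroup Γ} (h : J.Model T gen A) : Cov h.M (J.el gen) [L0, L1, L2] R [nat_lit 79596, nat_lit 122778] :=
  cov_full (ctx h) n635

theorem cov634 {Γ X : Type*} [Group Γ] [MulAction Γ X] {T : Lst X J.n} {gen : ℕ → Γ} {A : Subgroup Γ} (h : J.Model T gen A) : Cov h.M (J.el gen) [L0, L1, L2] R [nat_lit 79596, nat_lit 115812] :=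
  cov_full (ctx h) n634

theorem cov633 {Γ X : Type*} [Group Γ] [MulAction Γ X] {T : Lst X J.n} {gen : ℕ → Γ} {A : Subgroup Γ} (h : J.Model T gen A) : Cov h.M (J.el gen) [L0, L1, L2] R [nat_lit 79596, nat_lit 123642] :=
  cov_full (ctx h) n633

theorem cov632 {Γ X : Type*} [Group Γ] [MulAction Γ X] {T : Lst X J.n} {gen : ℕ → Γ} {A : Subgroup Γ} (h : J.Model T gen A) : Cov h.M (J.el gen) [L0, L1, L2] R [nat_lit 79596, nat_lit 115434] :=
  cov_full (ctx h) n632

theorem cov631 {Γ X : Type*} [Group Γ] [MulAction Γ X] {T : Lst X J.n} {gen : ℕ → Γ} {A : Subgroup Γ} (h : J.Model T gen A) : Cov h.M (J.el gen) [L0, L1, L2] R [nat_lit 79596, nat_lit 125460] :=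
  cov_full (ctx h) n631

theorem cov630 {Γ X : Type*} [Group Γ] [MulAction Γ X] {T : Lst X J.n} {gen : ℕ → Γ} {A : Subgroup Γ} (h : J.Model T gen A) : Cov h.M (J.el gen) [L0, L1, L2] R [nat_lit 79596, nat_lit 112824] :=
  cov_full (ctx h) n630

theorem cov629 {Γ X : Type*} [Group Γ] [MulAction Γ X] {T : Lst X J.n} {gen : ℕ → Γ} {A : Subgroup Γ} (h : J.Model T gen A) : Cov h.M (J.el gen) [L0, L1, L2] R [nat_lit 79596, nat_lit 115722] :=
  cov_full (ctx h) n629

theorem cov628 {Γ X : Type*} [Group Γ] [MulAction Γ X] {T : Lst X J.n} {gen : ℕ → Γ} {A : Subgroup Γ} (h : J.Model T gen A) : Cov h.M (J.el gen) [L0, L1, L2] R [nat_lit 79596, nat_lit 114318] :=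
  cov_full (ctx h) n628

theorem cov627 {Γ X : Type*} [Group Γ] [MulAction Γ X] {T : Lst X J.n} {gen : ℕ → Γ} {A : Subgroup Γ} (h : J.Model T gen A) : Cov h.M (J.el gen) [L0, L1, L2] R [nat_lit 79596, nat_lit 117612] :=
  cov_full (ctx h) n627

theorem cov626 {Γ X : Type*} [Group Γ] [MulAction Γ X] {T : Lst X J.n} {gen : ℕ → Γ} {A : Subgroup Γ} (h : J.Model T gen A) : Cov h.M (J.el gen) [L0, L1, L2] R [nat_lit 79596, nat_lit 115020] :=
  cov_full (ctx h) n626

theorem cov625 {Γ X : Type*} [Group Γ] [MulAction Γ X] {T : Lst X J.n} {gen : ℕ → Γ} {A : Subgroup Γ} (h : J.Model T gen A) : Cov h.M (J.el gen) [L0, L1, L2] R [nat_lit 79596, nat_lit 112320] :=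
  cov_full (ctx h) n625

theorem cov624 {Γ X : Type*} [Group Γ] [MulAction Γ X] {T : Lst X J.n} {gen : ℕ → Γ} {A : Subgroup Γ} (h : J.Model T gen A) : Cov h.M (J.el gen) [L0, L1, L2] R [nat_lit 79596, nat_lit 120582] :=
  cov_full (ctx h) n624

theorem cov623 {Γ X : Type*} [Group Γ] [MulAction Γ X] {T : Lst X J.n} {gen : ℕ → Γ} {A : Subgroup Γ} (h : J.Model T gen A) : Cov h.M (J.el gen) [L0, L1, L2] R [nat_lit 79596, nat_lit 126612] :=
  cov_full (ctx h) n623

theorem cov622 {Γ X : Type*} [Group Γ] [MulAction Γ X] {T : Lst X J.n} {gen : ℕ → Γ} {A : Subgroup Γ} (h : J.Model T gen A) : Cov h.M (J.el gen) [L0, L1, L2] R [nat_lit 79596, nat_lit 112086] :=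
  cov_full (ctx h) n622

theorem cov621 {Γ X : Type*} [Group Γ] [MulAction Γ X] {T : Lst X J.n} {gen : ℕ → Γ} {A : Subgroup Γ} (h : J.Model T gen A) : Cov h.M (J.el gen) [L0, L1, L2] R [nat_lit 79596, nat_lit 118296] :=
  cov_full (ctx h) n621

theorem cov620 {Γ X : Type*} [Group Γ] [MulAction Γ X] {T : Lst X J.n} {gen : ℕ → Γ} {A : Subgroup Γ} (h : J.Model T gen A) : Cov h.M (J.el gen) [L0, L1, L2] R [nat_lit 79596, nat_lit 119646] :=
  cov_full (ctx h) n620

theorem cov619 {Γ X : Type*} [Group Γ] [MulAction Γ X] {T : Lst X J.n} {gen : ℕ → Γ} {A : Subgroup Γ} (h : J.Model T gen A) : Cov h.M (J.el gen) [L0, L1, L2] R [nat_lit 79596, nat_lit 111726] :=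
  cov_full (ctx h) n619

theorem cov618 {Γ X : Type*} [Group Γ] [MulAction Γ X] {T : Lst X J.n} {gen : ℕ → Γ} {A : Subgroup Γ} (h : J.Model T gen A) : Cov h.M (J.el gen) [L0, L1, L2] R [nat_lit 79596, nat_lit 110772] :=
  cov_full (ctx h) n618

theorem cov617 {Γ X : Type*} [Group Γ] [MulAction Γ X] {T : Lst X J.n} {gen : ℕ → Γ} {A : Subgroup Γ} (h : J.Model T gen A) : Cov h.M (J.el gen) [L0, L1, L2] R [nat_lit 79596, nat_lit 110736] :=
  cov_full (ctx h) n617

theorem cov616 {Γ X : Type*} [Group Γ] [MulAction Γ X] {T : Lst X J.n} {gen : ℕ → Γ} {A : Subgroup Γ} (h : J.Model T gen A) : Cov h.M (J.el gen) [L0, L1, L2] R [nat_lit 79596, nat_lit 115218] :=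
  cov_full (ctx h) n616

theorem cov615 {Γ X : Type*} [Group Γ] [MulAction Γ X] {T : Lst X J.n} {gen : ℕ → Γ} {A : Subgroup Γ} (h : J.Model T gen A) : Cov h.M (J.el gen) [L0, L1, L2] R [nat_lit 79596, nat_lit 104472] :=
  cov_full (ctx h) n615

theorem cov614 {Γ X : Type*} [Group Γ] [MulAction Γ X] {T : Lst X J.n} {gen : ℕ → Γ} {A : Subgroup Γ} (h : J.Model T gen A) : Cov h.M (J.el gen) [L0, L1, L2] R [nat_lit 79596, nat_lit 105822] :=
  cov_full (ctx h) n614

theorem cov613 {Γ X : Type*} [Group Γ] [MulAction Γ X] {T : Lst X J.n} {gen : ℕ → Γ} {A : Subgroup Γ} (h : J.Model T gen A) : Cov h.M (J.el gen) [L0, L1, L2] R [nat_lit 79596, nat_lit 109062] :=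
  cov_full (ctx h) n613

theorem cov612 {Γ X : Type*} [Group Γ] [MulAction Γ X] {T : Lst X J.n} {gen : ℕ → Γ} {A : Subgroup Γ} (h : J.Model T gen A) : Cov h.M (J.el gen) [L0, L1, L2] R [nat_lit 79596, nat_lit 101826] :=
  cov_full (ctx h) n612

theorem cov611 {Γ X : Type*} [Group Γ] [MulAction Γ X] {T : Lst X J.n} {gen : ℕ → Γ} {A : Subgroup Γ} (h : J.Model T gen A) : Cov h.M (J.el gen) [L0, L1, L2] R [nat_lit 79596, nat_lit 98442] :=
  cov_full (ctx h) n611

theorem cov610 {Γ X : Type*} [Group Γ] [MulAction Γ X] {T : Lst X J.n} {gen : ℕ → Γ} {A : Subgroup Γ} (h : J.Model T gen A) : Cov h.M (J.el gen) [L0, L1, L2] R [nat_lit 79596, nat_lit 102402] :=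
  cov_full (ctx h) n610

theorem cov609 {Γ X : Type*} [Group Γ] [MulAction Γ X] {T : Lst X J.n} {gen : ℕ → Γ} {A : Subgroup Γ} (h : J.Model T gen A) : Cov h.M (J.el gen) [L0, L1, L2] R [nat_lit 79596, nat_lit 104868] :=
  cov_full (ctx h) n609

theorem cov608 {Γ X : Type*} [Group Γ] [MulAction Γ X] {T : Lst X J.n} {gen : ℕ → Γ} {A : Subgroup Γ} (h : J.Model T gen A) : Cov h.M (J.el gen) [L0, L1, L2] R [nat_lit 79596, nat_lit 97740] :=
  cov_full (ctx h) n608

theorem cov607 {Γ X : Type*} [Group Γ] [MulAction Γ X] {T : Lst X J.n} {gen : ℕ → Γ} {A : Subgroup Γ} (h : J.Model T gen A) : Cov h.M (J.el gen) [L0, L1, L2] R [nat_lit 79596, nat_lit 97704] :=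
  cov_full (ctx h) n607

theorem cov606 {Γ X : Type*} [Group Γ] [MulAction Γ X] {T : Lst X J.n} {gen : ℕ → Γ} {A : Subgroup Γ} (h : J.Model T gen A) : Cov h.M (J.el gen) [L0, L1, L2] R [nat_lit 79596, nat_lit 97560] :=
  cov_full (ctx h) n606

theorem cov605 {Γ X : Type*} [Group Γ] [MulAction Γ X] {T : Lst X J.n} {gen : ℕ → Γ} {A : Subgroup Γ} (h : J.Model T gen A) : Cov h.M (J.el gen) [L0, L1, L2] R [nat_lit 79596, nat_lit 101124] :=
  cov_full (ctx h) n605

theorem cov604 {Γ X : Type*} [Group Γ] [MulAction Γ X] {T : Lst X J.n} {gen : ℕ → Γ} {A : Subgroup Γ} (h : J.Model T gen A) : Cov h.M (J.el gen) [L0, L1, L2] R [nat_lit 79596, nat_lit 97416] :=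
  cov_full (ctx h) n604

theorem cov603 {Γ X : Type*} [Group Γ] [MulAction Γ X] {T : Lst X J.n} {gen : ℕ → Γ} {A : Subgroup Γ} (h : J.Model T gen A) : Cov h.M (J.el gen) [L0, L1, L2] R [nat_lit 79596, nat_lit 100674] :=
  cov_full (ctx h) n603

theorem cov602 {Γ X : Type*} [Group Γ] [MulAction Γ X] {T : Lst X J.n} {gen : ℕ → Γ} {A : Subgroup Γ} (h : J.Model T gen A) : Cov h.M (J.el gen) [L0, L1, L2] R [nat_lit 79596, nat_lit 100908] :=
  cov_full (ctx h) n602

theorem cov601 {Γ X : Type*} [Group Γ] [MulAction Γ X] {T : Lst X J.n} {gen : ℕ → Γ} {A : Subgroup Γ} (h : J.Model T gen A) : Cov h.M (J.el gen) [L0, L1, L2] R [nat_lit 79596, nat_lit 100998] :=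
  cov_full (ctx h) n601

theorem cov600 {Γ X : Type*} [Group Γ] [MulAction Γ X] {T : Lst X J.n} {gen : ℕ → Γ} {A : Subgroup Γ} (h : J.Model T gen A) : Cov h.M (J.el gen) [L0, L1, L2] R [nat_lit 79596, nat_lit 107982] :=
  cov_full (ctx h) n600

theorem cov599 {Γ X : Type*} [Group Γ] [MulAction Γ X] {T : Lst X J.n} {gen : ℕ → Γ} {A : Subgroup Γ} (h : J.Model T gen A) : Cov h.M (J.el gen) [L0, L1, L2] R [nat_lit 79596, nat_lit 95022] :=
  cov_full (ctx h) n599

theorem cov598 {Γ X : Type*} [Group Γ] [MulAction Γ X] {T : Lst X J.n} {gen : ℕ → Γ} {A : Subgroup Γ} (h : J.Model T gen A) : Cov h.M (J.el gen) [L0, L1, L2] R [nat_lit 79596, nat_lit 94338] :=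
  cov_full (ctx h) n598

theorem cov597 {Γ X : Type*} [Group Γ] [MulAction Γ X] {T : Lst X J.n} {gen : ℕ → Γ} {A : Subgroup Γ} (h : J.Model T gen A) : Cov h.M (J.el gen) [L0, L1, L2] R [nat_lit 79596, nat_lit 94212] :=
  cov_full (ctx h) n597

theorem cov596 {Γ X : Type*} [Group Γ] [MulAction Γ X] {T : Lst X J.n} {gen : ℕ → Γ} {A : Subgroup Γ} (h : J.Model T gen A) : Cov h.M (J.el gen) [L0, L1, L2] R [nat_lit 79596, nat_lit 94140] :=
  cov_full (ctx h) n596

theorem cov595 {Γ X : Type*} [Group Γ] [MulAction Γ X] {T : Lst X J.n} {gen : ℕ → Γ} {A : Subgroup Γ} (h : J.Model T gen A) : Cov h.M (J.el gen) [L0, L1, L2] R [nat_lit 79596, nat_lit 94086] :=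
  cov_full (ctx h) n595

theorem cov594 {Γ X : Type*} [Group Γ] [MulAction Γ X] {T : Lst X J.n} {gen : ℕ → Γ} {A : Subgroup Γ} (h : J.Model T gen A) : Cov h.M (J.el gen) [L0, L1, L2] R [nat_lit 79596, nat_lit 96498] :=
  cov_full (ctx h) n594

theorem cov593 {Γ X : Type*} [Group Γ] [MulAction Γ X] {T : Lst X J.n} {gen : ℕ → Γ} {A : Subgroup Γ} (h : J.Model T gen A) : Cov h.M (J.el gen) [L0, L1, L2] R [nat_lit 79596, nat_lit 104652] :=
  cov_full (ctx h) n593

theorem cov592 {Γ X : Type*} [Group Γ] [MulAction Γ X] {T : Lst X J.n} {gen : ℕ → Γ} {A : Subgroup Γ} (h : J.Model T gen A) : Cov h.M (J.el gen) [L0, L1, L2] R [nat_lit 79596, nat_lit 93942] :=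
  cov_full (ctx h) n592

theorem cov591 {Γ X : Type*} [Group Γ] [MulAction Γ X] {T : Lst X J.n} {gen : ℕ → Γ} {A : Subgroup Γ} (h : J.Model T gen A) : Cov h.M (J.el gen) [L0, L1, L2] R [nat_lit 79596, nat_lit 93870] :=
  cov_full (ctx h) n591

theorem cov590 {Γ X : Type*} [Group Γ] [MulAction Γ X] {T : Lst X J.n} {gen : ℕ → Γ} {A : Subgroup Γ} (h : J.Model T gen A) : Cov h.M (J.el gen) [L0, L1, L2] R [nat_lit 79596, nat_lit 102186] :=
  cov_full (ctx h) n590

theorem cov589 {Γ X : Type*} [Group Γ] [MulAction Γ X] {T : Lst X J.n} {gen : ℕ → Γ} {A : Subgroup Γ} (h : J.Model T gen A) : Cov h.M (J.el gen) [L0, L1, L2] R [nat_lit 79596, nat_lit 109584] :=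
  cov_full (ctx h) n589

theorem cov588 {Γ X : Type*} [Group Γ] [MulAction Γ X] {T : Lst X J.n} {gen : ℕ → Γ} {A : Subgroup Γ} (h : J.Model T gen A) : Cov h.M (J.el gen) [L0, L1, L2] R [nat_lit 79596, nat_lit 98208] :=
  cov_full (ctx h) n588

theorem cov587 {Γ X : Type*} [Group Γ] [MulAction Γ X] {T : Lst X J.n} {gen : ℕ → Γ} {A : Subgroup Γ} (h : J.Model T gen A) : Cov h.M (J.el gen) [L0, L1, L2] R [nat_lit 79596, nat_lit 93618] :=
  cov_full (ctx h) n587

theorem cov586 {Γ X : Type*} [Group Γ] [MulAction Γ X] {T : Lst X J.n} {gen : ℕ → Γ} {A : Subgroup Γ} (h : J.Model T gen A) : Cov h.M (J.el gen) [L0, L1, L2] R [nat_lit 79596, nat_lit 93564] :=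
  cov_full (ctx h) n586

theorem cov585 {Γ X : Type*} [Group Γ] [MulAction Γ X] {T : Lst X J.n} {gen : ℕ → Γ} {A : Subgroup Γ} (h : J.Model T gen A) : Cov h.M (J.el gen) [L0, L1, L2] R [nat_lit 79596, nat_lit 95688] :=
  cov_full (ctx h) n585

theorem cov584 {Γ X : Type*} [Group Γ] [MulAction Γ X] {T : Lst X J.n} {gen : ℕ → Γ} {A : Subgroup Γ} (h : J.Model T gen A) : Cov h.M (J.el gen) [L0, L1, L2] R [nat_lit 79596, nat_lit 101664] :=
  cov_full (ctx h) n584

theorem cov583 {Γ X : Type*} [Group Γ] [MulAction Γ X] {T : Lst X J.n} {gen : ℕ → Γ} {A : Subgroup Γ} (h : J.Model T gen A) : Cov h.M (J.el gen) [L0, L1, L2] R [nat_lit 79596, nat_lit 104724] :=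
  cov_full (ctx h) n583

theorem cov582 {Γ X : Type*} [Group Γ] [MulAction Γ X] {T : Lst X J.n} {gen : ℕ → Γ} {A : Subgroup Γ} (h : J.Model T gen A) : Cov h.M (J.el gen) [L0, L1, L2] R [nat_lit 79596, nat_lit 92520] :=
  cov_full (ctx h) n582

theorem cov581 {Γ X : Type*} [Group Γ] [MulAction Γ X] {T : Lst X J.n} {gen : ℕ → Γ} {A : Subgroup Γ} (h : J.Model T gen A) : Cov h.M (J.el gen) [L0, L1, L2] R [nat_lit 79596, nat_lit 92880] :=
  cov_full (ctx h) n581

theorem cov580 {Γ X : Type*} [Group Γ] [MulAction Γ X] {T : Lst X J.n} {gen : ℕ → Γ} {A : Subgroup Γ} (h : J.Model T gen A) : Cov h.M (J.el gen) [L0, L1, L2] R [nat_lit 79596, nat_lit 104742] :=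
  cov_full (ctx h) n580

theorem cov579 {Γ X : Type*} [Group Γ] [MulAction Γ X] {T : Lst X J.n} {gen : ℕ → Γ} {A : Subgroup Γ} (h : J.Model T gen A) : Cov h.M (J.el gen) [L0, L1, L2] R [nat_lit 79596, nat_lit 93312] :=
  cov_full (ctx h) n579

theorem cov578 {Γ X : Type*} [Group Γ] [MulAction Γ X] {T : Lst X J.n} {gen : ℕ → Γ} {A : Subgroup Γ} (h : J.Model T gen A) : Cov h.M (J.el gen) [L0, L1, L2] R [nat_lit 79596, nat_lit 105948] :=
  cov_full (ctx h) n578

theorem cov577 {Γ X : Type*} [Group Γ] [MulAction Γ X] {T : Lst X J.n} {gen : ℕ → Γ} {A : Subgroup Γ} (h : J.Model T gen A) : Cov h.M (J.el gen) [L0, L1, L2] R [nat_lit 79596, nat_lit 92304] :=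
  cov_full (ctx h) n577

theorem cov576 {Γ X : Type*} [Group Γ] [MulAction Γ X] {T : Lst X J.n} {gen : ℕ → Γ} {A : Subgroup Γ} (h : J.Model T gen A) : Cov h.M (J.el gen) [L0, L1, L2] R [nat_lit 79596, nat_lit 92250] :=
  cov_full (ctx h) n576

theorem cov575 {Γ X : Type*} [Group Γ] [MulAction Γ X] {T : Lst X J.n} {gen : ℕ → Γ} {A : Subgroup Γ} (h : J.Model T gen A) : Cov h.M (J.el gen) [L0, L1, L2] R [nat_lit 79596, nat_lit 91224] :=
  cov_full (ctx h) n575

theorem cov574 {Γ X : Type*} [Group Γ] [MulAction Γ X] {T : Lst X J.n} {gen : ℕ → Γ} {A : Subgroup Γ} (h : J.Model T gen A) : Cov h.M (J.el gen) [L0, L1, L2] R [nat_lit 79596, nat_lit 91152] :=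
  cov_full (ctx h) n574

theorem cov573 {Γ X : Type*} [Group Γ] [MulAction Γ X] {T : Lst X J.n} {gen : ℕ → Γ} {A : Subgroup Γ} (h : J.Model T gen A) : Cov h.M (J.el gen) [L0, L1, L2] R [nat_lit 79596, nat_lit 91548] :=
  cov_full (ctx h) n573

theorem cov572 {Γ X : Type*} [Group Γ] [MulAction Γ X] {T : Lst X J.n} {gen : ℕ → Γ} {A : Subgroup Γ} (h : J.Model T gen A) : Cov h.M (J.el gen) [L0, L1, L2] R [nat_lit 79596, nat_lit 91620] :=
  cov_full (ctx h) n572

theorem cov571 {Γ X : Type*} [Group Γ] [MulAction Γ X] {T : Lst X J.n} {gen : ℕ → Γ} {A : Subgroup Γ} (h : J.Model T gen A) : Cov h.M (J.el gen) [L0, L1, L2] R [nat_lit 79596, nat_lit 85482] :=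
  cov_full (ctx h) n571

theorem cov570 {Γ X : Type*} [Group Γ] [MulAction Γ X] {T : Lst X J.n} {gen : ℕ → Γ} {A : Subgroup Γ} (h : J.Model T gen A) : Cov h.M (J.el gen) [L0, L1, L2] R [nat_lit 79596, nat_lit 85410] :=
  cov_full (ctx h) n570

theorem cov569 {Γ X : Type*} [Group Γ] [MulAction Γ X] {T : Lst X J.n} {gen : ℕ → Γ} {A : Subgroup Γ} (h : J.Model T gen A) : Cov h.M (J.el gen) [L0, L1, L2] R [nat_lit 79596, nat_lit 85338] :=
  cov_full (ctx h) n569

theorem cov568 {Γ X : Type*} [Group Γ] [MulAction Γ X] {T : Lst X J.n} {gen : ℕ → Γ} {A : Subgroup Γ} (h : J.Model T gen A) : Cov h.M (J.el gen) [L0, L1, L2] R [nat_lit 79596, nat_lit 85266] :=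
  cov_full (ctx h) n568

theorem cov567 {Γ X : Type*} [Group Γ] [MulAction Γ X] {T : Lst X J.n} {gen : ℕ → Γ} {A : Subgroup Γ} (h : J.Model T gen A) : Cov h.M (J.el gen) [L0, L1, L2] R [nat_lit 79596, nat_lit 79686] :=
  cov_full (ctx h) n567

theorem cov566 {Γ X : Type*} [Group Γ] [MulAction Γ X] {T : Lst X J.n} {gen : ℕ → Γ} {A : Subgroup Γ} (h : J.Model T gen A) : Cov h.M (J.el gen) [L0, L1, L2] R [nat_lit 79596, nat_lit 80568] :=
  cov_full (ctx h) n566

theorem cov565 {Γ X : Type*} [Group Γ] [MulAction Γ X] {T : Lst X J.n} {gen : ℕ → Γ} {A : Subgroup Γ} (h : J.Model T gen A) : Cov h.M (J.el gen) [L0, L1, L2] R [nat_lit 79596, nat_lit 79542] :=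
  cov_full (ctx h) n565

theorem cov564 {Γ X : Type*} [Group Γ] [MulAction Γ X] {T : Lst X J.n} {gen : ℕ → Γ} {A : Subgroup Γ} (h : J.Model T gen A) : Cov h.M (J.el gen) [L0, L1, L2] R [nat_lit 79596, nat_lit 79470] :=
  cov_full (ctx h) n564

theorem cov563 {Γ X : Type*} [Group Γ] [MulAction Γ X] {T : Lst X J.n} {gen : ℕ → Γ} {A : Subgroup Γ} (h : J.Model T gen A) : Cov h.M (J.el gen) [L0, L1, L2] R [nat_lit 79596, nat_lit 78282] :=
  cov_full (ctx h) n563

theorem cov562 {Γ X : Type*} [Group Γ] [MulAction Γ X] {T : Lst X J.n} {gen : ℕ → Γ} {A : Subgroup Γ} (h : J.Model T gen A) : Cov h.M (J.el gen) [L0, L1, L2] R [nat_lit 79596, nat_lit 87822] :=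
  cov_full (ctx h) n562

theorem cov561 {Γ X : Type*} [Group Γ] [MulAction Γ X] {T : Lst X J.n} {gen : ℕ → Γ} {A : Subgroup Γ} (h : J.Model T gen A) : Cov h.M (J.el gen) [L0, L1, L2] R [nat_lit 79596, nat_lit 77832] :=
  cov_full (ctx h) n561

theorem cov560 {Γ X : Type*} [Group Γ] [MulAction Γ X] {T : Lst X J.n} {gen : ℕ → Γ} {A : Subgroup Γ} (h : J.Model T gen A) : Cov h.M (J.el gen) [L0, L1, L2] R [nat_lit 79596, nat_lit 77760] :=
  cov_full (ctx h) n560

theorem cov559 {Γ X : Type*} [Group Γ] [MulAction Γ X] {T : Lst X J.n} {gen : ℕ → Γ} {A : Subgroup Γ} (h : J.Model T gen A) : Cov h.M (J.el gen) [L0, L1, L2] R [nat_lit 79596, nat_lit 77598] :=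
  cov_full (ctx h) n559

theorem cov558 {Γ X : Type*} [Group Γ] [MulAction Γ X] {T : Lst X J.n} {gen : ℕ → Γ} {A : Subgroup Γ} (h : J.Model T gen A) : Cov h.M (J.el gen) [L0, L1, L2] R [nat_lit 79596, nat_lit 89280] :=
  cov_full (ctx h) n558

theorem cov557 {Γ X : Type*} [Group Γ] [MulAction Γ X] {T : Lst X J.n} {gen : ℕ → Γ} {A : Subgroup Γ} (h : J.Model T gen A) : Cov h.M (J.el gen) [L0, L1, L2] R [nat_lit 79596, nat_lit 89406] :=
  cov_full (ctx h) n557

theorem cov556 {Γ X : Type*} [Group Γ] [MulAction Γ X] {T : Lst X J.n} {gen : ℕ → Γ} {A : Subgroup Γ} (h : J.Model T gen A) : Cov h.M (J.el gen) [L0, L1, L2] R [nat_lit 79596, nat_lit 77148] :=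
  cov_full (ctx h) n556

theorem cov555 {Γ X : Type*} [Group Γ] [MulAction Γ X] {T : Lst X J.n} {gen : ℕ → Γ} {A : Subgroup Γ} (h : J.Model T gen A) : Cov h.M (J.el gen) [L0, L1, L2] R [nat_lit 79596, nat_lit 76950] :=
  cov_full (ctx h) n555

theorem cov554 {Γ X : Type*} [Group Γ] [MulAction Γ X] {T : Lst X J.n} {gen : ℕ → Γ} {A : Subgroup Γ} (h : J.Model T gen A) : Cov h.M (J.el gen) [L0, L1, L2] R [nat_lit 79596, nat_lit 84510] :=
  cov_full (ctx h) n554

theorem cov553 {Γ X : Type*} [Group Γ] [MulAction Γ X] {T : Lst X J.n} {gen : ℕ → Γ} {A : Subgroup Γ} (h : J.Model T gen A) : Cov h.M (J.el gen) [L0, L1, L2] R [nat_lit 79596, nat_lit 76716] :=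
  cov_full (ctx h) n553

theorem cov552 {Γ X : Type*} [Group Γ] [MulAction Γ X] {T : Lst X J.n} {gen : ℕ → Γ} {A : Subgroup Γ} (h : J.Model T gen A) : Cov h.M (J.el gen) [L0, L1, L2] R [nat_lit 79596, nat_lit 76572] :=
  cov_full (ctx h) n552

theorem cov551 {Γ X : Type*} [Group Γ] [MulAction Γ X] {T : Lst X J.n} {gen : ℕ → Γ} {A : Subgroup Γ} (h : J.Model T gen A) : Cov h.M (J.el gen) [L0, L1, L2] R [nat_lit 79596, nat_lit 76554] :=
  cov_full (ctx h) n551

theorem cov550 {Γ X : Type*} [Group Γ] [MulAction Γ X] {T : Lst X J.n} {gen : ℕ → Γ} {A : Subgroup Γ} (h : J.Model T gen A) : Cov h.M (J.el gen) [L0, L1, L2] R [nat_lit 79596, nat_lit 83376] :=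
  cov_full (ctx h) n550

theorem cov549 {Γ X : Type*} [Group Γ] [MulAction Γ X] {T : Lst X J.n} {gen : ℕ → Γ} {A : Subgroup Γ} (h : J.Model T gen A) : Cov h.M (J.el gen) [L0, L1, L2] R [nat_lit 79596, nat_lit 83268] :=
  cov_full (ctx h) n549

theorem cov548 {Γ X : Type*} [Group Γ] [MulAction Γ X] {T : Lst X J.n} {gen : ℕ → Γ} {A : Subgroup Γ} (h : J.Model T gen A) : Cov h.M (J.el gen) [L0, L1, L2] R [nat_lit 79596, nat_lit 76032] :=
  cov_full (ctx h) n548

theorem cov547 {Γ X : Type*} [Group Γ] [MulAction Γ X] {T : Lst X J.n} {gen : ℕ → Γ} {A : Subgroup Γ} (h : J.Model T gen A) : Cov h.M (J.el gen) [L0, L1, L2] R [nat_lit 79596, nat_lit 81486] :=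
  cov_full (ctx h) n547

theorem cov546 {Γ X : Type*} [Group Γ] [MulAction Γ X] {T : Lst X J.n} {gen : ℕ → Γ} {A : Subgroup Γ} (h : J.Model T gen A) : Cov h.M (J.el gen) [L0, L1, L2] R [nat_lit 79596, nat_lit 75978] :=
  cov_full (ctx h) n546

theorem cov545 {Γ X : Type*} [Group Γ] [MulAction Γ X] {T : Lst X J.n} {gen : ℕ → Γ} {A : Subgroup Γ} (h : J.Model T gen A) : Cov h.M (J.el gen) [L0, L1, L2] R [nat_lit 79596, nat_lit 75654] :=
  cov_full (ctx h) n545

theorem cov544 {Γ X : Type*} [Group Γ] [MulAction Γ X] {T : Lst X J.n} {gen : ℕ → Γ} {A : Subgroup Γ} (h : J.Model T gen A) : Cov h.M (J.el gen) [L0, L1, L2] R [nat_lit 79596, nat_lit 81396] :=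
  cov_full (ctx h) n544

theorem cov543 {Γ X : Type*} [Group Γ] [MulAction Γ X] {T : Lst X J.n} {gen : ℕ → Γ} {A : Subgroup Γ} (h : J.Model T gen A) : Cov h.M (J.el gen) [L0, L1, L2] R [nat_lit 79596, nat_lit 75240] :=
  cov_full (ctx h) n543

theorem cov542 {Γ X : Type*} [Group Γ] [MulAction Γ X] {T : Lst X J.n} {gen : ℕ → Γ} {A : Subgroup Γ} (h : J.Model T gen A) : Cov h.M (J.el gen) [L0, L1, L2] R [nat_lit 79596, nat_lit 79128] :=
  cov_full (ctx h) n542

theorem cov541 {Γ X : Type*} [Group Γ] [MulAction Γ X] {T : Lst X J.n} {gen : ℕ → Γ} {A : Subgroup Γ} (h : J.Model T gen A) : Cov h.M (J.el gen) [L0, L1, L2] R [nat_lit 79596, nat_lit 74952] :=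
  cov_full (ctx h) n541

theorem cov540 {Γ X : Type*} [Group Γ] [MulAction Γ X] {T : Lst X J.n} {gen : ℕ → Γ} {A : Subgroup Γ} (h : J.Model T gen A) : Cov h.M (J.el gen) [L0, L1, L2] R [nat_lit 79596, nat_lit 80820] :=
  cov_full (ctx h) n540

theorem cov539 {Γ X : Type*} [Group Γ] [MulAction Γ X] {T : Lst X J.n} {gen : ℕ → Γ} {A : Subgroup Γ} (h : J.Model T gen A) : Cov h.M (J.el gen) [L0, L1, L2] R [nat_lit 79596, nat_lit 74178] :=
  cov_full (ctx h) n539

theorem cov538 {Γ X : Type*} [Group Γ] [MulAction Γ X] {T : Lst X J.n} {gen : ℕ → Γ} {A : Subgroup Γ} (h : J.Model T gen A) : Cov h.M (J.el gen) [L0, L1, L2] R [nat_lit 79596, nat_lit 73800] :=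
  cov_full (ctx h) n538

theorem cov537 {Γ X : Type*} [Group Γ] [MulAction Γ X] {T : Lst X J.n} {gen : ℕ → Γ} {A : Subgroup Γ} (h : J.Model T gen A) : Cov h.M (J.el gen) [L0, L1, L2] R [nat_lit 79596, nat_lit 73782] :=
  cov_full (ctx h) n537

theorem cov536 {Γ X : Type*} [Group Γ] [MulAction Γ X] {T : Lst X J.n} {gen : ℕ → Γ} {A : Subgroup Γ} (h : J.Model T gen A) : Cov h.M (J.el gen) [L0, L1, L2] R [nat_lit 79596, nat_lit 74196] :=
  cov_full (ctx h) n536

theorem cov535 {Γ X : Type*} [Group Γ] [MulAction Γ X] {T : Lst X J.n} {gen : ℕ → Γ} {A : Subgroup Γ} (h : J.Model T gen A) : Cov h.M (J.el gen) [L0, L1, L2] R [nat_lit 79596] :=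
  cov_red (ctx h) h.hAV n535 (forall_mem_cons' (cov536 h) (forall_mem_cons' (cov537 h) (forall_mem_cons' (cov538 h) (forall_mem_cons' (cov539 h) (forall_mem_cons' (cov540 h) (forall_mem_cons' (cov541 h) (forall_mem_cons' (cov542 h) (forall_mem_cons' (cov543 h) (forall_mem_cons' (cov544 h) (forall_mem_cons' (cov545 h) (forall_mem_cons' (cov546 h) (forall_mem_cons' (cov547 h) (forall_mem_cons' (cov548 h) (forall_mem_cons' (cov549 h) (forall_mem_cons' (cov550 h) (forall_mem_cons' (cov551 h) (forall_mem_cons' (cov552 h) (forall_mem_cons' (cov553 h) (forall_mem_cons' (cov554 h) (forall_mem_cons' (cov555 h) (forall_mem_cons' (cov556 h) (forall_mem_cons' (cov557 h) (forall_mem_cons' (cov558 h) (forall_mem_cons' (cov559 h) (forall_mem_cons' (cov560 h) (forall_mem_cons' (cov561 h) (forall_mem_cons' (cov562 h) (forall_mem_cons' (cov563 h) (forall_mem_cons' (cov564 h) (forall_mem_cons' (cov565 h) (forall_mem_cons' (cov566 h) (forall_mem_cons'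 (cov567 h) (forall_mem_cons' (cov568 h) (forall_mem_cons' (cov569 h) (forall_mem_cons' (cov570 h) (forall_mem_cons' (cov571 h) (forall_mem_cons' (cov572 h) (forall_mem_cons' (cov573 h) (forall_mem_cons' (cov574 h) (forall_mem_cons' (cov575 h) (forall_mem_cons' (cov576 h) (forall_mem_cons' (cov577 h) (forall_mem_cons' (cov578 h) (forall_mem_cons' (cov579 h) (forall_mem_cons' (cov580 h) (forall_mem_cons' (cov581 h) (forall_mem_cons' (cov582 h) (forall_mem_cons' (cov583 h) (forall_mem_cons' (cov584 h) (forall_mem_cons' (cov585 h) (forall_mem_cons' (cov586 h) (forall_mem_cons' (cov587 h) (forall_mem_cons' (cov588 h) (forall_mem_cons' (cov589 h) (forall_mem_cons' (cov590 h) (forall_mem_cons' (cov591 h) (forall_mem_cons' (cov592 h) (forall_mem_cons' (cov593 h) (forall_mem_cons' (cov594 h) (forall_mem_cons' (cov595 h) (forall_mem_cons' (cov596 h) (forall_mem_cons' (cov597 h) (forall_mem_cons' (cov598 h) (forall_mem_cons' (cov599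 h) (forall_mem_cons' (cov600 h) (forall_mem_cons' (cov601 h) (forall_mem_cons' (cov602 h) (forall_mem_cons' (cov603 h) (forall_mem_cons' (cov604 h) (forall_mem_cons' (cov605 h) (forall_mem_cons' (cov606 h) (forall_mem_cons' (cov607 h) (forall_mem_cons' (cov608 h) (forall_mem_cons' (cov609 h) (forall_mem_cons' (cov610 h) (forall_mem_cons' (cov611 h) (forall_mem_cons' (cov612 h) (forall_mem_cons' (cov613 h) (forall_mem_cons' (cov614 h) (forall_mem_cons' (cov615 h) (forall_mem_cons' (cov616 h) (forall_mem_cons' (cov617 h) (forall_mem_cons' (cov618 h) (forall_mem_cons' (cov619 h) (forall_mem_cons' (cov620 h) (forall_mem_cons' (cov621 h) (forall_mem_cons' (cov622 h) (forall_mem_cons' (cov623 h) (forall_mem_cons' (cov624 h) (forall_mem_cons' (cov625 h) (forall_mem_cons' (cov626 h) (forall_mem_cons' (cov627 h) (forall_mem_cons' (cov628 h) (forall_mem_cons' (cov629 h) (forall_mem_cons' (cov630 h) (forall_mem_cons' (cov631 h) (forall_mem_cons'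 (cov632 h) (forall_mem_cons' (cov633 h) (forall_mem_cons' (cov634 h) (forall_mem_cons' (cov635 h) (forall_mem_cons' (cov636 h) (forall_mem_cons' (cov637 h) (forall_mem_cons' (cov638 h) (forall_mem_cons' (cov639 h) (forall_mem_cons' (cov640 h) (forall_mem_cons' (cov641 h) (forall_mem_cons' (cov642 h) (forall_mem_cons' (cov643 h) (forall_mem_cons' (cov644 h) (forall_mem_cons' (cov645 h) (forall_mem_cons' (cov646 h) (forall_mem_cons' (cov647 h) (forall_mem_cons' (cov648 h) (forall_mem_cons' (cov649 h) (forall_mem_cons' (cov650 h) (forall_mem_cons' (cov651 h) (forall_mem_cons' (cov652 h) (forall_mem_cons' (cov653 h) (forall_mem_cons' (cov654 h) (forall_mem_cons' (cov655 h) (forall_mem_cons' (cov656 h) (forall_mem_cons' (cov657 h) (forall_mem_cons' (cov658 h) (forall_mem_cons' (cov659 h) (forall_mem_cons' (cov660 h) (forall_mem_cons' (cov661 h) (forall_mem_cons' (cov662 h) (forall_mem_cons' (cov663 h) forall_mem_nil'))))))))))))))))))))))))))))))))))))))))))))))))))))))))))))))))))))))))))))))))))))))))))))))))))))))))))))))))))))))))))))))))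

theorem cov534 {Γ X : Type*} [Group Γ] [MulAction Γ X] {T : Lst X J.n} {gen : ℕ → Γ} {A : Subgroup Γ} (h : J.Model T gen A) : Cov h.M (J.el gen) [L0, L1, L2] R [nat_lit 74646, nat_lit 136962] :=
  cov_full (ctx h) n534

theorem cov533 {Γ X : Type*} [Group Γ] [MulAction Γ X] {T : Lst X J.n} {gen : ℕ → Γ} {A : Subgroup Γ} (h : J.Model T gen A) : Cov h.M (J.el gen) [L0, L1, L2] R [nat_lit 74646, nat_lit 138960] :=
  cov_full (ctx h) n533

theorem cov532 {Γ X : Type*} [Group Γ] [MulAction Γ X] {T : Lst X J.n} {gen : ℕ → Γ} {A : Subgroup Γ} (h : J.Model T gen A) : Cov h.M (J.el gen) [L0, L1, L2] R [nat_lit 74646, nat_lit 139554] :=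
  cov_full (ctx h) n532

theorem cov531 {Γ X : Type*} [Group Γ] [MulAction Γ X] {T : Lst X J.n} {gen : ℕ → Γ} {A : Subgroup Γ} (h : J.Model T gen A) : Cov h.M (J.el gen) [L0, L1, L2] R [nat_lit 74646, nat_lit 136908] :=
  cov_full (ctx h) n531

theorem cov530 {Γ X : Type*} [Group Γ] [MulAction Γ X] {T : Lst X J.n} {gen : ℕ → Γ} {A : Subgroup Γ} (h : J.Model T gen A) : Cov h.M (J.el gen) [L0, L1, L2] R [nat_lit 74646, nat_lit 134298] :=
  cov_full (ctx h) n530

theorem cov529 {Γ X : Type*} [Group Γ] [MulAction Γ X] {T : Lst X J.n} {gen : ℕ → Γ} {A : Subgroup Γ} (h : J.Model T gen A) : Cov h.M (J.el gen) [L0, L1, L2] R [nat_lit 74646, nat_lit 134280] :=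
  cov_full (ctx h) n529

theorem cov528 {Γ X : Type*} [Group Γ] [MulAction Γ X] {T : Lst X J.n} {gen : ℕ → Γ} {A : Subgroup Γ} (h : J.Model T gen A) : Cov h.M (J.el gen) [L0, L1, L2] R [nat_lit 74646, nat_lit 134838] :=
  cov_full (ctx h) n528

theorem cov527 {Γ X : Type*} [Group Γ] [MulAction Γ X] {T : Lst X J.n} {gen : ℕ → Γ} {A : Subgroup Γ} (h : J.Model T gen A) : Cov h.M (J.el gen) [L0, L1, L2] R [nat_lit 74646, nat_lit 134244] :=
  cov_full (ctx h) n527

theorem cov526 {Γ X : Type*} [Group Γ] [MulAction Γ X] {T : Lst X J.n} {gen : ℕ → Γ} {A : Subgroup Γ} (h : J.Model T gen A) : Cov h.M (J.el gen) [L0, L1, L2] R [nat_lit 74646, nat_lit 137898] :=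
  cov_full (ctx h) n526

theorem cov525 {Γ X : Type*} [Group Γ] [MulAction Γ X] {T : Lst X J.n} {gen : ℕ → Γ} {A : Subgroup Γ} (h : J.Model T gen A) : Cov h.M (J.el gen) [L0, L1, L2] R [nat_lit 74646, nat_lit 144378] :=
  cov_full (ctx h) n525

theorem cov524 {Γ X : Type*} [Group Γ] [MulAction Γ X] {T : Lst X J.n} {gen : ℕ → Γ} {A : Subgroup Γ} (h : J.Model T gen A) : Cov h.M (J.el gen) [L0, L1, L2] R [nat_lit 74646, nat_lit 140436] :=
  cov_full (ctx h) n524

theorem cov523 {Γ X : Type*} [Group Γ] [MulAction Γ X] {T : Lst X J.n} {gen : ℕ → Γ} {A : Subgroup Γ} (h : J.Model T gen A) : Cov h.M (J.el gen) [L0, L1, L2] R [nat_lit 74646, nat_lit 143640] :=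
  cov_full (ctx h) n523

theorem cov522 {Γ X : Type*} [Group Γ] [MulAction Γ X] {T : Lst X J.n} {gen : ℕ → Γ} {A : Subgroup Γ} (h : J.Model T gen A) : Cov h.M (J.el gen) [L0, L1, L2] R [nat_lit 74646, nat_lit 132948] :=
  cov_full (ctx h) n522

theorem cov521 {Γ X : Type*} [Group Γ] [MulAction Γ X] {T : Lst X J.n} {gen : ℕ → Γ} {A : Subgroup Γ} (h : J.Model T gen A) : Cov h.M (J.el gen) [L0, L1, L2] R [nat_lit 74646, nat_lit 134694] :=
  cov_full (ctx h) n521

theorem cov520 {Γ X : Type*} [Group Γ] [MulAction Γ X] {T : Lst X J.n} {gen : ℕ → Γ} {A : Subgroup Γ} (h : J.Model T gen A) : Cov h.M (J.el gen) [L0, L1, L2] R [nat_lit 74646, nat_lit 131958] :=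
  cov_full (ctx h) n520

theorem cov519 {Γ X : Type*} [Group Γ] [MulAction Γ X] {T : Lst X J.n} {gen : ℕ → Γ} {A : Subgroup Γ} (h : J.Model T gen A) : Cov h.M (J.el gen) [L0, L1, L2] R [nat_lit 74646, nat_lit 138042] :=
  cov_full (ctx h) n519

theorem cov518 {Γ X : Type*} [Group Γ] [MulAction Γ X] {T : Lst X J.n} {gen : ℕ → Γ} {A : Subgroup Γ} (h : J.Model T gen A) : Cov h.M (J.el gen) [L0, L1, L2] R [nat_lit 74646, nat_lit 131616] :=
  cov_full (ctx h) n518

theorem cov517 {Γ X : Type*} [Group Γ] [MulAction Γ X] {T : Lst X J.n} {gen : ℕ → Γ} {A : Subgroup Γ} (h : J.Model T gen A) : Cov h.M (J.el gen) [L0, L1, L2] R [nat_lit 74646, nat_lit 144558] :=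
  cov_full (ctx h) n517

theorem cov516 {Γ X : Type*} [Group Γ] [MulAction Γ X] {T : Lst X J.n} {gen : ℕ → Γ} {A : Subgroup Γ} (h : J.Model T gen A) : Cov h.M (J.el gen) [L0, L1, L2] R [nat_lit 74646, nat_lit 130950] :=
  cov_full (ctx h) n516

theorem cov515 {Γ X : Type*} [Group Γ] [MulAction Γ X] {T : Lst X J.n} {gen : ℕ → Γ} {A : Subgroup Γ} (h : J.Model T gen A) : Cov h.M (J.el gen) [L0, L1, L2] R [nat_lit 74646, nat_lit 133344] :=
  cov_full (ctx h) n515

theorem cov514 {Γ X : Type*} [Group Γ] [MulAction Γ X] {T : Lst X J.n} {gen : ℕ → Γ} {A : Subgroup Γ} (h : J.Model T gen A) : Cov h.M (J.el gen) [L0, L1, L2] R [nat_lit 74646, nat_lit 130626] :=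
  cov_full (ctx h) n514

theorem cov513 {Γ X : Type*} [Group Γ] [MulAction Γ X] {T : Lst X J.n} {gen : ℕ → Γ} {A : Subgroup Γ} (h : J.Model T gen A) : Cov h.M (J.el gen) [L0, L1, L2] R [nat_lit 74646, nat_lit 145998] :=
  cov_full (ctx h) n513

theorem cov512 {Γ X : Type*} [Group Γ] [MulAction Γ X] {T : Lst X J.n} {gen : ℕ → Γ} {A : Subgroup Γ} (h : J.Model T gen A) : Cov h.M (J.el gen) [L0, L1, L2] R [nat_lit 74646, nat_lit 130590] :=
  cov_full (ctx h) n512

theorem cov511 {Γ X : Type*} [Group Γ] [MulAction Γ X] {T : Lst X J.n} {gen : ℕ → Γ} {A : Subgroup Γ} (h : J.Model T gen A) : Cov h.M (J.el gen) [L0, L1, L2] R [nat_lit 74646, nat_lit 139698] :=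
  cov_full (ctx h) n511

theorem cov510 {Γ X : Type*} [Group Γ] [MulAction Γ X] {T : Lst X J.n} {gen : ℕ → Γ} {A : Subgroup Γ} (h : J.Model T gen A) : Cov h.M (J.el gen) [L0, L1, L2] R [nat_lit 74646, nat_lit 130194] :=
  cov_full (ctx h) n510

theorem cov509 {Γ X : Type*} [Group Γ] [MulAction Γ X] {T : Lst X J.n} {gen : ℕ → Γ} {A : Subgroup Γ} (h : J.Model T gen A) : Cov h.M (J.el gen) [L0, L1, L2] R [nat_lit 74646, nat_lit 131436] :=
  cov_full (ctx h) n509

theorem cov508 {Γ X : Type*} [Group Γ] [MulAction Γ X] {T : Lst X J.n} {gen : ℕ → Γ} {A : Subgroup Γ} (h : J.Model T gen A) : Cov h.M (J.el gen) [L0, L1, L2] R [nat_lit 74646, nat_lit 129366] :=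
  cov_full (ctx h) n508

theorem cov507 {Γ X : Type*} [Group Γ] [MulAction Γ X] {T : Lst X J.n} {gen : ℕ → Γ} {A : Subgroup Γ} (h : J.Model T gen A) : Cov h.M (J.el gen) [L0, L1, L2] R [nat_lit 74646, nat_lit 130140] :=
  cov_full (ctx h) n507

theorem cov506 {Γ X : Type*} [Group Γ] [MulAction Γ X] {T : Lst X J.n} {gen : ℕ → Γ} {A : Subgroup Γ} (h : J.Model T gen A) : Cov h.M (J.el gen) [L0, L1, L2] R [nat_lit 74646, nat_lit 147402] :=
  cov_full (ctx h) n506

theorem cov505 {Γ X : Type*} [Group Γ] [MulAction Γ X] {T : Lst X J.n} {gen : ℕ → Γ} {A : Subgroup Γ} (h : J.Model T gen A) : Cov h.M (J.el gen) [L0, L1, L2] R [nat_lit 74646, nat_lit 129240] :=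
  cov_full (ctx h) n505

theorem cov504 {Γ X : Type*} [Group Γ] [MulAction Γ X] {T : Lst X J.n} {gen : ℕ → Γ} {A : Subgroup Γ} (h : J.Model T gen A) : Cov h.M (J.el gen) [L0, L1, L2] R [nat_lit 74646, nat_lit 142830] :=
  cov_full (ctx h) n504

theorem cov503 {Γ X : Type*} [Group Γ] [MulAction Γ X] {T : Lst X J.n} {gen : ℕ → Γ} {A : Subgroup Γ} (h : J.Model T gen A) : Cov h.M (J.el gen) [L0, L1, L2] R [nat_lit 74646, nat_lit 145620] :=
  cov_full (ctx h) n503

theorem cov502 {Γ X : Type*} [Group Γ] [MulAction Γ X] {T : Lst X J.n} {gen : ℕ → Γ} {A : Subgroup Γ} (h : J.Model T gen A) : Cov h.M (J.el gen) [L0, L1, L2] R [nat_lit 74646, nat_lit 123786] :=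
  cov_full (ctx h) n502

theorem cov501 {Γ X : Type*} [Group Γ] [MulAction Γ X] {T : Lst X J.n} {gen : ℕ → Γ} {A : Subgroup Γ} (h : J.Model T gen A) : Cov h.M (J.el gen) [L0, L1, L2] R [nat_lit 74646, nat_lit 123768] :=
  cov_full (ctx h) n501

theorem cov500 {Γ X : Type*} [Group Γ] [MulAction Γ X] {T : Lst X J.n} {gen : ℕ → Γ} {A : Subgroup Γ} (h : J.Model T gen A) : Cov h.M (J.el gen) [L0, L1, L2] R [nat_lit 74646, nat_lit 125478] :=
  cov_full (ctx h) n500

theorem cov499 {Γ X : Type*} [Group Γ] [MulAction Γ X] {T : Lst X J.n} {gen : ℕ → Γ} {A : Subgroup Γ} (h : J.Model T gen A) : Cov h.M (J.el gen) [L0, L1, L2] R [nat_lit 74646, nat_lit 123732] :=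
  cov_full (ctx h) n499

theorem cov498 {Γ X : Type*} [Group Γ] [MulAction Γ X] {T : Lst X J.n} {gen : ℕ → Γ} {A : Subgroup Γ} (h : J.Model T gen A) : Cov h.M (J.el gen) [L0, L1, L2] R [nat_lit 74646, nat_lit 120834] :=
  cov_full (ctx h) n498

theorem cov497 {Γ X : Type*} [Group Γ] [MulAction Γ X] {T : Lst X J.n} {gen : ℕ → Γ} {A : Subgroup Γ} (h : J.Model T gen A) : Cov h.M (J.el gen) [L0, L1, L2] R [nat_lit 74646, nat_lit 120816] :=
  cov_full (ctx h) n497

theorem cov496 {Γ X : Type*} [Group Γ] [MulAction Γ X] {T : Lst X J.n} {gen : ℕ → Γ} {A : Subgroup Γ} (h : J.Model T gen A) : Cov h.M (J.el gen) [L0, L1, L2] R [nat_lit 74646, nat_lit 126252] :=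
  cov_full (ctx h) n496

theorem cov495 {Γ X : Type*} [Group Γ] [MulAction Γ X] {T : Lst X J.n} {gen : ℕ → Γ} {A : Subgroup Γ} (h : J.Model T gen A) : Cov h.M (J.el gen) [L0, L1, L2] R [nat_lit 74646, nat_lit 120780] :=
  cov_full (ctx h) n495

theorem cov494 {Γ X : Type*} [Group Γ] [MulAction Γ X] {T : Lst X J.n} {gen : ℕ → Γ} {A : Subgroup Γ} (h : J.Model T gen A) : Cov h.M (J.el gen) [L0, L1, L2] R [nat_lit 74646, nat_lit 117378] :=
  cov_full (ctx h) n494

theorem cov493 {Γ X : Type*} [Group Γ] [MulAction Γ X] {T : Lst X J.n} {gen : ℕ → Γ} {A : Subgroup Γ} (h : J.Model T gen A) : Cov h.M (J.el gen) [L0, L1, L2] R [nat_lit 74646, nat_lit 118008] :=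
  cov_full (ctx h) n493

theorem cov492 {Γ X : Type*} [Group Γ] [MulAction Γ X] {T : Lst X J.n} {gen : ℕ → Γ} {A : Subgroup Γ} (h : J.Model T gen A) : Cov h.M (J.el gen) [L0, L1, L2] R [nat_lit 74646, nat_lit 116118] :=
  cov_full (ctx h) n492

theorem cov491 {Γ X : Type*} [Group Γ] [MulAction Γ X] {T : Lst X J.n} {gen : ℕ → Γ} {A : Subgroup Γ} (h : J.Model T gen A) : Cov h.M (J.el gen) [L0, L1, L2] R [nat_lit 74646, nat_lit 120024] :=
  cov_full (ctx h) n491

theorem cov490 {Γ X : Type*} [Group Γ] [MulAction Γ X] {T : Lst X J.n} {gen : ℕ → Γ} {A : Subgroup Γ} (h : J.Model T gen A) : Cov h.M (J.el gen) [L0, L1, L2] R [nat_lit 74646, nat_lit 118944] :=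
  cov_full (ctx h) n490

theorem cov489 {Γ X : Type*} [Group Γ] [MulAction Γ X] {T : Lst X J.n} {gen : ℕ → Γ} {A : Subgroup Γ} (h : J.Model T gen A) : Cov h.M (J.el gen) [L0, L1, L2] R [nat_lit 74646, nat_lit 125028] :=
  cov_full (ctx h) n489

theorem cov488 {Γ X : Type*} [Group Γ] [MulAction Γ X] {T : Lst X J.n} {gen : ℕ → Γ} {A : Subgroup Γ} (h : J.Model T gen A) : Cov h.M (J.el gen) [L0, L1, L2] R [nat_lit 74646, nat_lit 114408] :=
  cov_full (ctx h) n488

theorem cov487 {Γ X : Type*} [Group Γ] [MulAction Γ X] {T : Lst X J.n} {gen : ℕ → Γ} {A : Subgroup Γ} (h : J.Model T gen A) : Cov h.M (J.el gen) [L0, L1, L2] R [nat_lit 74646, nat_lit 126432] :=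
  cov_full (ctx h) n487

theorem cov486 {Γ X : Type*} [Group Γ] [MulAction Γ X] {T : Lst X J.n} {gen : ℕ → Γ} {A : Subgroup Γ} (h : J.Model T gen A) : Cov h.M (J.el gen) [L0, L1, L2] R [nat_lit 74646, nat_lit 113346] :=
  cov_full (ctx h) n486

theorem cov485 {Γ X : Type*} [Group Γ] [MulAction Γ X] {T : Lst X J.n} {gen : ℕ → Γ} {A : Subgroup Γ} (h : J.Model T gen A) : Cov h.M (J.el gen) [L0, L1, L2] R [nat_lit 74646, nat_lit 120186] :=
  cov_full (ctx h) n485

theorem cov484 {Γ X : Type*} [Group Γ] [MulAction Γ X] {T : Lst X J.n} {gen : ℕ → Γ} {A : Subgroup Γ} (h : J.Model T gen A) : Cov h.M (J.el gen) [L0, L1, L2] R [nat_lit 74646, nat_lit 113292] :=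
  cov_full (ctx h) n484

theorem cov483 {Γ X : Type*} [Group Γ] [MulAction Γ X] {T : Lst X J.n} {gen : ℕ → Γ} {A : Subgroup Γ} (h : J.Model T gen A) : Cov h.M (J.el gen) [L0, L1, L2] R [nat_lit 74646, nat_lit 116910] :=
  cov_full (ctx h) n483

theorem cov482 {Γ X : Type*} [Group Γ] [MulAction Γ X] {T : Lst X J.n} {gen : ℕ → Γ} {A : Subgroup Γ} (h : J.Model T gen A) : Cov h.M (J.el gen) [L0, L1, L2] R [nat_lit 74646, nat_lit 114642] :=
  cov_full (ctx h) n482

theorem cov481 {Γ X : Type*} [Group Γ] [MulAction Γ X] {T : Lst X J.n} {gen : ℕ → Γ} {A : Subgroup Γ} (h : J.Model T gen A) : Cov h.M (J.el gen) [L0, L1, L2] R [nat_lit 74646, nat_lit 112032] :=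
  cov_full (ctx h) n481

theorem cov480 {Γ X : Type*} [Group Γ] [MulAction Γ X] {T : Lst X J.n} {gen : ℕ → Γ} {A : Subgroup Γ} (h : J.Model T gen A) : Cov h.M (J.el gen) [L0, L1, L2] R [nat_lit 74646, nat_lit 112014] :=
  cov_full (ctx h) n480

theorem cov479 {Γ X : Type*} [Group Γ] [MulAction Γ X] {T : Lst X J.n} {gen : ℕ → Γ} {A : Subgroup Γ} (h : J.Model T gen A) : Cov h.M (J.el gen) [L0, L1, L2] R [nat_lit 74646, nat_lit 111996] :=
  cov_full (ctx h) n479

theorem cov478 {Γ X : Type*} [Group Γ] [MulAction Γ X] {T : Lst X J.n} {gen : ℕ → Γ} {A : Subgroup Γ} (h : J.Model T gen A) : Cov h.M (J.el gen) [L0, L1, L2] R [nat_lit 74646, nat_lit 111888] :=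
  cov_full (ctx h) n478

theorem cov477 {Γ X : Type*} [Group Γ] [MulAction Γ X] {T : Lst X J.n} {gen : ℕ → Γ} {A : Subgroup Γ} (h : J.Model T gen A) : Cov h.M (J.el gen) [L0, L1, L2] R [nat_lit 74646, nat_lit 111096] :=
  cov_full (ctx h) n477

theorem cov476 {Γ X : Type*} [Group Γ] [MulAction Γ X] {T : Lst X J.n} {gen : ℕ → Γ} {A : Subgroup Γ} (h : J.Model T gen A) : Cov h.M (J.el gen) [L0, L1, L2] R [nat_lit 74646, nat_lit 111078] :=
  cov_full (ctx h) n476

theorem cov475 {Γ X : Type*} [Group Γ] [MulAction Γ X] {T : Lst X J.n} {gen : ℕ → Γ} {A : Subgroup Γ} (h : J.Model T gen A) : Cov h.M (J.el gen) [L0, L1, L2] R [nat_lit 74646, nat_lit 111060] :=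
  cov_full (ctx h) n475

theorem cov474 {Γ X : Type*} [Group Γ] [MulAction Γ X] {T : Lst X J.n} {gen : ℕ → Γ} {A : Subgroup Γ} (h : J.Model T gen A) : Cov h.M (J.el gen) [L0, L1, L2] R [nat_lit 74646, nat_lit 110682] :=
  cov_full (ctx h) n474

theorem cov473 {Γ X : Type*} [Group Γ] [MulAction Γ X] {T : Lst X J.n} {gen : ℕ → Γ} {A : Subgroup Γ} (h : J.Model T gen A) : Cov h.M (J.el gen) [L0, L1, L2] R [nat_lit 74646, nat_lit 110664] :=
  cov_full (ctx h) n473

theorem cov472 {Γ X : Type*} [Group Γ] [MulAction Γ X] {T : Lst X J.n} {gen : ℕ → Γ} {A : Subgroup Γ} (h : J.Model T gen A) : Cov h.M (J.el gen) [L0, L1, L2] R [nat_lit 74646, nat_lit 116694] :=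
  cov_full (ctx h) n472

theorem cov471 {Γ X : Type*} [Group Γ] [MulAction Γ X] {T : Lst X J.n} {gen : ℕ → Γ} {A : Subgroup Γ} (h : J.Model T gen A) : Cov h.M (J.el gen) [L0, L1, L2] R [nat_lit 74646, nat_lit 110628] :=
  cov_full (ctx h) n471

theorem cov470 {Γ X : Type*} [Group Γ] [MulAction Γ X] {T : Lst X J.n} {gen : ℕ → Γ} {A : Subgroup Γ} (h : J.Model T gen A) : Cov h.M (J.el gen) [L0, L1, L2] R [nat_lit 74646, nat_lit 107946] :=
  cov_full (ctx h) n470

theorem cov469 {Γ X : Type*} [Group Γ] [MulAction Γ X] {T : Lst X J.n} {gen : ℕ → Γ} {A : Subgroup Γ} (h : J.Model T gen A) : Cov h.M (J.el gen) [L0, L1, L2] R [nat_lit 74646, nat_lit 107928] :=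
  cov_full (ctx h) n469

theorem cov468 {Γ X : Type*} [Group Γ] [MulAction Γ X] {T : Lst X J.n} {gen : ℕ → Γ} {A : Subgroup Γ} (h : J.Model T gen A) : Cov h.M (J.el gen) [L0, L1, L2] R [nat_lit 74646, nat_lit 107910] :=
  cov_full (ctx h) n468

theorem cov467 {Γ X : Type*} [Group Γ] [MulAction Γ X] {T : Lst X J.n} {gen : ℕ → Γ} {A : Subgroup Γ} (h : J.Model T gen A) : Cov h.M (J.el gen) [L0, L1, L2] R [nat_lit 74646, nat_lit 107892] :=
  cov_full (ctx h) n467

theorem cov466 {Γ X : Type*} [Group Γ] [MulAction Γ X] {T : Lst X J.n} {gen : ℕ → Γ} {A : Subgroup Γ} (h : J.Model T gen A) : Cov h.M (J.el gen) [L0, L1, L2] R [nat_lit 74646, nat_lit 105282] :=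
  cov_full (ctx h) n466

theorem cov465 {Γ X : Type*} [Group Γ] [MulAction Γ X] {T : Lst X J.n} {gen : ℕ → Γ} {A : Subgroup Γ} (h : J.Model T gen A) : Cov h.M (J.el gen) [L0, L1, L2] R [nat_lit 74646, nat_lit 105264] :=
  cov_full (ctx h) n465

theorem cov464 {Γ X : Type*} [Group Γ] [MulAction Γ X] {T : Lst X J.n} {gen : ℕ → Γ} {A : Subgroup Γ} (h : J.Model T gen A) : Cov h.M (J.el gen) [L0, L1, L2] R [nat_lit 74646, nat_lit 105246] :=
  cov_full (ctx h) n464

theorem cov463 {Γ X : Type*} [Group Γ] [MulAction Γ X] {T : Lst X J.n} {gen : ℕ → Γ} {A : Subgroup Γ} (h : J.Model T gen A) : Cov h.M (J.el gen) [L0, L1, L2] R [nat_lit 74646, nat_lit 105228] :=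
  cov_full (ctx h) n463

theorem cov462 {Γ X : Type*} [Group Γ] [MulAction Γ X] {T : Lst X J.n} {gen : ℕ → Γ} {A : Subgroup Γ} (h : J.Model T gen A) : Cov h.M (J.el gen) [L0, L1, L2] R [nat_lit 74646, nat_lit 102438] :=
  cov_full (ctx h) n462

theorem cov461 {Γ X : Type*} [Group Γ] [MulAction Γ X] {T : Lst X J.n} {gen : ℕ → Γ} {A : Subgroup Γ} (h : J.Model T gen A) : Cov h.M (J.el gen) [L0, L1, L2] R [nat_lit 74646, nat_lit 102420] :=
  cov_full (ctx h) n461

theorem cov460 {Γ X : Type*} [Group Γ] [MulAction Γ X] {T : Lst X J.n} {gen : ℕ → Γ} {A : Subgroup Γ} (h : J.Model T gen A) : Cov h.M (J.el gen) [L0, L1, L2] R [nat_lit 74646, nat_lit 100026] :=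
  cov_full (ctx h) n460

theorem cov459 {Γ X : Type*} [Group Γ] [MulAction Γ X] {T : Lst X J.n} {gen : ℕ → Γ} {A : Subgroup Γ} (h : J.Model T gen A) : Cov h.M (J.el gen) [L0, L1, L2] R [nat_lit 74646, nat_lit 100008] :=
  cov_full (ctx h) n459

theorem cov458 {Γ X : Type*} [Group Γ] [MulAction Γ X] {T : Lst X J.n} {gen : ℕ → Γ} {A : Subgroup Γ} (h : J.Model T gen A) : Cov h.M (J.el gen) [L0, L1, L2] R [nat_lit 74646, nat_lit 99990] :=
  cov_full (ctx h) n458

theorem cov457 {Γ X : Type*} [Group Γ] [MulAction Γ X] {T : Lst X J.n} {gen : ℕ → Γ} {A : Subgroup Γ} (h : J.Model T gen A) : Cov h.M (J.el gen) [L0, L1, L2] R [nat_lit 74646, nat_lit 99972] :=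
  cov_full (ctx h) n457

theorem cov456 {Γ X : Type*} [Group Γ] [MulAction Γ X] {T : Lst X J.n} {gen : ℕ → Γ} {A : Subgroup Γ} (h : J.Model T gen A) : Cov h.M (J.el gen) [L0, L1, L2] R [nat_lit 74646, nat_lit 100566] :=
  cov_full (ctx h) n456

theorem cov455 {Γ X : Type*} [Group Γ] [MulAction Γ X] {T : Lst X J.n} {gen : ℕ → Γ} {A : Subgroup Γ} (h : J.Model T gen A) : Cov h.M (J.el gen) [L0, L1, L2] R [nat_lit 74646, nat_lit 98064] :=
  cov_full (ctx h) n455

theorem cov454 {Γ X : Type*} [Group Γ] [MulAction Γ X] {T : Lst X J.n} {gen : ℕ → Γ} {A : Subgroup Γ} (h : J.Model T gen A) : Cov h.M (J.el gen) [L0, L1, L2] R [nat_lit 74646, nat_lit 97272] :=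
  cov_full (ctx h) n454

theorem cov453 {Γ X : Type*} [Group Γ] [MulAction Γ X] {T : Lst X J.n} {gen : ℕ → Γ} {A : Subgroup Γ} (h : J.Model T gen A) : Cov h.M (J.el gen) [L0, L1, L2] R [nat_lit 74646, nat_lit 97236] :=
  cov_full (ctx h) n453

theorem cov452 {Γ X : Type*} [Group Γ] [MulAction Γ X] {T : Lst X J.n} {gen : ℕ → Γ} {A : Subgroup Γ} (h : J.Model T gen A) : Cov h.M (J.el gen) [L0, L1, L2] R [nat_lit 74646, nat_lit 103392] :=
  cov_full (ctx h) n452

theorem cov451 {Γ X : Type*} [Group Γ] [MulAction Γ X] {T : Lst X J.n} {gen : ℕ → Γ} {A : Subgroup Γ} (h : J.Model T gen A) : Cov h.M (J.el gen) [L0, L1, L2] R [nat_lit 74646, nat_lit 94284] :=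
  cov_full (ctx h) n451

theorem cov450 {Γ X : Type*} [Group Γ] [MulAction Γ X] {T : Lst X J.n} {gen : ℕ → Γ} {A : Subgroup Γ} (h : J.Model T gen A) : Cov h.M (J.el gen) [L0, L1, L2] R [nat_lit 74646, nat_lit 94932] :=
  cov_full (ctx h) n450

theorem cov449 {Γ X : Type*} [Group Γ] [MulAction Γ X] {T : Lst X J.n} {gen : ℕ → Γ} {A : Subgroup Γ} (h : J.Model T gen A) : Cov h.M (J.el gen) [L0, L1, L2] R [nat_lit 74646, nat_lit 93888] :=
  cov_full (ctx h) n449

theorem cov448 {Γ X : Type*} [Group Γ] [MulAction Γ X] {T : Lst X J.n} {gen : ℕ → Γ} {A : Subgroup Γ} (h : J.Model T gen A) : Cov h.M (J.el gen) [L0, L1, L2] R [nat_lit 74646, nat_lit 93672] :=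
  cov_full (ctx h) n448

theorem cov447 {Γ X : Type*} [Group Γ] [MulAction Γ X] {T : Lst X J.n} {gen : ℕ → Γ} {A : Subgroup Γ} (h : J.Model T gen A) : Cov h.M (J.el gen) [L0, L1, L2] R [nat_lit 74646, nat_lit 100782] :=
  cov_full (ctx h) n447

theorem cov446 {Γ X : Type*} [Group Γ] [MulAction Γ X] {T : Lst X J.n} {gen : ℕ → Γ} {A : Subgroup Γ} (h : J.Model T gen A) : Cov h.M (J.el gen) [L0, L1, L2] R [nat_lit 74646, nat_lit 94500] :=
  cov_full (ctx h) n446

theorem cov445 {Γ X : Type*} [Group Γ] [MulAction Γ X] {T : Lst X J.n} {gen : ℕ → Γ} {A : Subgroup Γ} (h : J.Model T gen A) : Cov h.M (J.el gen) [L0, L1, L2] R [nat_lit 74646, nat_lit 94536] :=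
  cov_full (ctx h) n445

theorem cov444 {Γ X : Type*} [Group Γ] [MulAction Γ X] {T : Lst X J.n} {gen : ℕ → Γ} {A : Subgroup Γ} (h : J.Model T gen A) : Cov h.M (J.el gen) [L0, L1, L2] R [nat_lit 74646, nat_lit 93510] :=
  cov_full (ctx h) n444

theorem cov443 {Γ X : Type*} [Group Γ] [MulAction Γ X] {T : Lst X J.n} {gen : ℕ → Γ} {A : Subgroup Γ} (h : J.Model T gen A) : Cov h.M (J.el gen) [L0, L1, L2] R [nat_lit 74646, nat_lit 106524] :=
  cov_full (ctx h) n443

theorem cov442 {Γ X : Type*} [Group Γ] [MulAction Γ X] {T : Lst X J.n} {gen : ℕ → Γ} {A : Subgroup Γ} (h : J.Model T gen A) : Cov h.M (J.el gen) [L0, L1, L2] R [nat_lit 74646, nat_lit 99072] :=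
  cov_full (ctx h) n442

theorem cov441 {Γ X : Type*} [Group Γ] [MulAction Γ X] {T : Lst X J.n} {gen : ℕ → Γ} {A : Subgroup Γ} (h : J.Model T gen A) : Cov h.M (J.el gen) [L0, L1, L2] R [nat_lit 74646, nat_lit 104832] :=
  cov_full (ctx h) n441

theorem cov440 {Γ X : Type*} [Group Γ] [MulAction Γ X] {T : Lst X J.n} {gen : ℕ → Γ} {A : Subgroup Γ} (h : J.Model T gen A) : Cov h.M (J.el gen) [L0, L1, L2] R [nat_lit 74646, nat_lit 92952] :=
  cov_full (ctx h) n440

theorem cov439 {Γ X : Type*} [Group Γ] [MulAction Γ X] {T : Lst X J.n} {gen : ℕ → Γ} {A : Subgroup Γ} (h : J.Model T gen A) : Cov h.M (J.el gen) [L0, L1, L2] R [nat_lit 74646, nat_lit 92556] :=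
  cov_full (ctx h) n439

theorem cov438 {Γ X : Type*} [Group Γ] [MulAction Γ X] {T : Lst X J.n} {gen : ℕ → Γ} {A : Subgroup Γ} (h : J.Model T gen A) : Cov h.M (J.el gen) [L0, L1, L2] R [nat_lit 74646, nat_lit 92178] :=
  cov_full (ctx h) n438

theorem cov437 {Γ X : Type*} [Group Γ] [MulAction Γ X] {T : Lst X J.n} {gen : ℕ → Γ} {A : Subgroup Γ} (h : J.Model T gen A) : Cov h.M (J.el gen) [L0, L1, L2] R [nat_lit 74646, nat_lit 92160] :=
  cov_full (ctx h) n437

theorem cov436 {Γ X : Type*} [Group Γ] [MulAction Γ X] {T : Lst X J.n} {gen : ℕ → Γ} {A : Subgroup Γ} (h : J.Model T gen A) : Cov h.M (J.el gen) [L0, L1, L2] R [nat_lit 74646, nat_lit 92142] :=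
  cov_full (ctx h) n436

theorem cov435 {Γ X : Type*} [Group Γ] [MulAction Γ X] {T : Lst X J.n} {gen : ℕ → Γ} {A : Subgroup Γ} (h : J.Model T gen A) : Cov h.M (J.el gen) [L0, L1, L2] R [nat_lit 74646, nat_lit 92124] :=
  cov_full (ctx h) n435

theorem cov434 {Γ X : Type*} [Group Γ] [MulAction Γ X] {T : Lst X J.n} {gen : ℕ → Γ} {A : Subgroup Γ} (h : J.Model T gen A) : Cov h.M (J.el gen) [L0, L1, L2] R [nat_lit 74646, nat_lit 77058] :=
  cov_full (ctx h) n434

theorem cov433 {Γ X : Type*} [Group Γ] [MulAction Γ X] {T : Lst X J.n} {gen : ℕ → Γ} {A : Subgroup Γ} (h : J.Model T gen A) : Cov h.M (J.el gen) [L0, L1, L2] R [nat_lit 74646, nat_lit 77040] :=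
  cov_full (ctx h) n433

theorem cov432 {Γ X : Type*} [Group Γ] [MulAction Γ X] {T : Lst X J.n} {gen : ℕ → Γ} {A : Subgroup Γ} (h : J.Model T gen A) : Cov h.M (J.el gen) [L0, L1, L2] R [nat_lit 74646, nat_lit 83880] :=
  cov_full (ctx h) n432

theorem cov431 {Γ X : Type*} [Group Γ] [MulAction Γ X] {T : Lst X J.n} {gen : ℕ → Γ} {A : Subgroup Γ} (h : J.Model T gen A) : Cov h.M (J.el gen) [L0, L1, L2] R [nat_lit 74646, nat_lit 84366] :=
  cov_full (ctx h) n431

theorem cov430 {Γ X : Type*} [Group Γ] [MulAction Γ X] {T : Lst X J.n} {gen : ℕ → Γ} {A : Subgroup Γ} (h : J.Model T gen A) : Cov h.M (J.el gen) [L0, L1, L2] R [nat_lit 74646, nat_lit 83178] :=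
  cov_full (ctx h) n430

theorem cov429 {Γ X : Type*} [Group Γ] [MulAction Γ X] {T : Lst X J.n} {gen : ℕ → Γ} {A : Subgroup Γ} (h : J.Model T gen A) : Cov h.M (J.el gen) [L0, L1, L2] R [nat_lit 74646, nat_lit 83106] :=
  cov_full (ctx h) n429

theorem cov428 {Γ X : Type*} [Group Γ] [MulAction Γ X] {T : Lst X J.n} {gen : ℕ → Γ} {A : Subgroup Γ} (h : J.Model T gen A) : Cov h.M (J.el gen) [L0, L1, L2] R [nat_lit 74646, nat_lit 76968] :=
  cov_full (ctx h) n428

theorem cov427 {Γ X : Type*} [Group Γ] [MulAction Γ X] {T : Lst X J.n} {gen : ℕ → Γ} {A : Subgroup Γ} (h : J.Model T gen A) : Cov h.M (J.el gen) [L0, L1, L2] R [nat_lit 74646, nat_lit 83466] :=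
  cov_full (ctx h) n427

theorem cov426 {Γ X : Type*} [Group Γ] [MulAction Γ X] {T : Lst X J.n} {gen : ℕ → Γ} {A : Subgroup Γ} (h : J.Model T gen A) : Cov h.M (J.el gen) [L0, L1, L2] R [nat_lit 74646, nat_lit 76842] :=
  cov_full (ctx h) n426

theorem cov425 {Γ X : Type*} [Group Γ] [MulAction Γ X] {T : Lst X J.n} {gen : ℕ → Γ} {A : Subgroup Γ} (h : J.Model T gen A) : Cov h.M (J.el gen) [L0, L1, L2] R [nat_lit 74646, nat_lit 76824] :=
  cov_full (ctx h) n425

theorem cov424 {Γ X : Type*} [Group Γ] [MulAction Γ X] {T : Lst X J.n} {gen : ℕ → Γ} {A : Subgroup Γ} (h : J.Model T gen A) : Cov h.M (J.el gen) [L0, L1, L2] R [nat_lit 74646, nat_lit 76806] :=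
  cov_full (ctx h) n424

theorem cov423 {Γ X : Type*} [Group Γ] [MulAction Γ X] {T : Lst X J.n} {gen : ℕ → Γ} {A : Subgroup Γ} (h : J.Model T gen A) : Cov h.M (J.el gen) [L0, L1, L2] R [nat_lit 74646, nat_lit 76788] :=
  cov_full (ctx h) n423

theorem cov422 {Γ X : Type*} [Group Γ] [MulAction Γ X] {T : Lst X J.n} {gen : ℕ → Γ} {A : Subgroup Γ} (h : J.Model T gen A) : Cov h.M (J.el gen) [L0, L1, L2] R [nat_lit 74646, nat_lit 83592] :=
  cov_full (ctx h) n422

theorem cov421 {Γ X : Type*} [Group Γ] [MulAction Γ X] {T : Lst X J.n} {gen : ℕ → Γ} {A : Subgroup Γ} (h : J.Model T gen A) : Cov h.M (J.el gen) [L0, L1, L2] R [nat_lit 74646, nat_lit 84402] :=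
  cov_full (ctx h) n421

theorem cov420 {Γ X : Type*} [Group Γ] [MulAction Γ X] {T : Lst X J.n} {gen : ℕ → Γ} {A : Subgroup Γ} (h : J.Model T gen A) : Cov h.M (J.el gen) [L0, L1, L2] R [nat_lit 74646, nat_lit 76590] :=
  cov_full (ctx h) n420

theorem cov419 {Γ X : Type*} [Group Γ] [MulAction Γ X] {T : Lst X J.n} {gen : ℕ → Γ} {A : Subgroup Γ} (h : J.Model T gen A) : Cov h.M (J.el gen) [L0, L1, L2] R [nat_lit 74646, nat_lit 85248] :=
  cov_full (ctx h) n419

theorem cov418 {Γ X : Type*} [Group Γ] [MulAction Γ X] {T : Lst X J.n} {gen : ℕ → Γ} {A : Subgroup Γ} (h : J.Model T gen A) : Cov h.M (J.el gen) [L0, L1, L2] R [nat_lit 74646, nat_lit 76410] :=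
  cov_full (ctx h) n418

theorem cov417 {Γ X : Type*} [Group Γ] [MulAction Γ X] {T : Lst X J.n} {gen : ℕ → Γ} {A : Subgroup Γ} (h : J.Model T gen A) : Cov h.M (J.el gen) [L0, L1, L2] R [nat_lit 74646, nat_lit 83682] :=
  cov_full (ctx h) n417

theorem cov416 {Γ X : Type*} [Group Γ] [MulAction Γ X] {T : Lst X J.n} {gen : ℕ → Γ} {A : Subgroup Γ} (h : J.Model T gen A) : Cov h.M (J.el gen) [L0, L1, L2] R [nat_lit 74646, nat_lit 76374] :=
  cov_full (ctx h) n416

theorem cov415 {Γ X : Type*} [Group Γ] [MulAction Γ X] {T : Lst X J.n} {gen : ℕ → Γ} {A : Subgroup Γ} (h : J.Model T gen A) : Cov h.M (J.el gen) [L0, L1, L2] R [nat_lit 74646, nat_lit 76356] :=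
  cov_full (ctx h) n415

theorem cov414 {Γ X : Type*} [Group Γ] [MulAction Γ X] {T : Lst X J.n} {gen : ℕ → Γ} {A : Subgroup Γ} (h : J.Model T gen A) : Cov h.M (J.el gen) [L0, L1, L2] R [nat_lit 74646, nat_lit 83934] :=
  cov_full (ctx h) n414

theorem cov413 {Γ X : Type*} [Group Γ] [MulAction Γ X] {T : Lst X J.n} {gen : ℕ → Γ} {A : Subgroup Γ} (h : J.Model T gen A) : Cov h.M (J.el gen) [L0, L1, L2] R [nat_lit 74646, nat_lit 86022] :=
  cov_full (ctx h) n413

theorem cov412 {Γ X : Type*} [Group Γ] [MulAction Γ X] {T : Lst X J.n} {gen : ℕ → Γ} {A : Subgroup Γ} (h : J.Model T gen A) : Cov h.M (J.el gen) [L0, L1, L2] R [nat_lit 74646, nat_lit 82998] :=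
  cov_full (ctx h) n412

theorem cov411 {Γ X : Type*} [Group Γ] [MulAction Γ X] {T : Lst X J.n} {gen : ℕ → Γ} {A : Subgroup Γ} (h : J.Model T gen A) : Cov h.M (J.el gen) [L0, L1, L2] R [nat_lit 74646, nat_lit 76446] :=
  cov_full (ctx h) n411

theorem cov410 {Γ X : Type*} [Group Γ] [MulAction Γ X] {T : Lst X J.n} {gen : ℕ → Γ} {A : Subgroup Γ} (h : J.Model T gen A) : Cov h.M (J.el gen) [L0, L1, L2] R [nat_lit 74646, nat_lit 76122] :=
  cov_full (ctx h) n410

theorem cov409 {Γ X : Type*} [Group Γ] [MulAction Γ X] {T : Lst X J.n} {gen : ℕ → Γ} {A : Subgroup Γ} (h : J.Model T gen A) : Cov h.M (J.el gen) [L0, L1, L2] R [nat_lit 74646, nat_lit 84384] :=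
  cov_full (ctx h) n409

theorem cov408 {Γ X : Type*} [Group Γ] [MulAction Γ X] {T : Lst X J.n} {gen : ℕ → Γ} {A : Subgroup Γ} (h : J.Model T gen A) : Cov h.M (J.el gen) [L0, L1, L2] R [nat_lit 74646, nat_lit 83556] :=
  cov_full (ctx h) n408

theorem cov407 {Γ X : Type*} [Group Γ] [MulAction Γ X] {T : Lst X J.n} {gen : ℕ → Γ} {A : Subgroup Γ} (h : J.Model T gen A) : Cov h.M (J.el gen) [L0, L1, L2] R [nat_lit 74646, nat_lit 76068] :=
  cov_full (ctx h) n407

theorem cov406 {Γ X : Type*} [Group Γ] [MulAction Γ X] {T : Lst X J.n} {gen : ℕ → Γ} {A : Subgroup Γ} (h : J.Model T gen A) : Cov h.M (J.el gen) [L0, L1, L2] R [nat_lit 74646, nat_lit 76050] :=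
  cov_full (ctx h) n406

theorem cov405 {Γ X : Type*} [Group Γ] [MulAction Γ X] {T : Lst X J.n} {gen : ℕ → Γ} {A : Subgroup Γ} (h : J.Model T gen A) : Cov h.M (J.el gen) [L0, L1, L2] R [nat_lit 74646, nat_lit 83052] :=
  cov_full (ctx h) n405

theorem cov404 {Γ X : Type*} [Group Γ] [MulAction Γ X] {T : Lst X J.n} {gen : ℕ → Γ} {A : Subgroup Γ} (h : J.Model T gen A) : Cov h.M (J.el gen) [L0, L1, L2] R [nat_lit 74646, nat_lit 76014] :=
  cov_full (ctx h) n404

theorem cov403 {Γ X : Type*} [Group Γ] [MulAction Γ X] {T : Lst X J.n} {gen : ℕ → Γ} {A : Subgroup Γ} (h : J.Model T gen A) : Cov h.M (J.el gen) [L0, L1, L2] R [nat_lit 74646, nat_lit 75996] :=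
  cov_full (ctx h) n403

theorem cov402 {Γ X : Type*} [Group Γ] [MulAction Γ X] {T : Lst X J.n} {gen : ℕ → Γ} {A : Subgroup Γ} (h : J.Model T gen A) : Cov h.M (J.el gen) [L0, L1, L2] R [nat_lit 74646] :=
  cov_red (ctx h) h.hAV n402 (forall_mem_cons' (cov403 h) (forall_mem_cons' (cov404 h) (forall_mem_cons' (cov405 h) (forall_mem_cons' (cov406 h) (forall_mem_cons' (cov407 h) (forall_mem_cons' (cov408 h) (forall_mem_cons' (cov409 h) (forall_mem_cons' (cov410 h) (forall_mem_cons' (cov411 h) (forall_mem_cons' (cov412 h) (forall_mem_cons' (cov413 h) (forall_mem_cons' (cov414 h) (forall_mem_cons' (cov415 h) (forall_mem_cons' (cov416 h) (forall_mem_cons' (cov417 h) (forall_mem_cons' (cov418 h) (forall_mem_cons' (cov419 h) (forall_mem_cons' (cov420 h) (forall_mem_cons' (cov421 h) (forall_mem_cons' (cov422 h) (forall_mem_cons' (cov423 h) (forall_mem_cons' (cov424 h) (forall_mem_cons' (cov425 h) (forall_mem_cons' (cov426 h) (forall_mem_cons'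 (cov427 h) (forall_mem_cons' (cov428 h) (forall_mem_cons' (cov429 h) (forall_mem_cons' (cov430 h) (forall_mem_cons' (cov431 h) (forall_mem_cons' (cov432 h) (forall_mem_cons' (cov433 h) (forall_mem_cons' (cov434 h) (forall_mem_cons' (cov435 h) (forall_mem_cons' (cov436 h) (forall_mem_cons' (cov437 h) (forall_mem_cons' (cov438 h) (forall_mem_cons' (cov439 h) (forall_mem_cons' (cov440 h) (forall_mem_cons' (cov441 h) (forall_mem_cons' (cov442 h) (forall_mem_cons' (cov443 h) (forall_mem_cons' (cov444 h) (forall_mem_cons' (cov445 h) (forall_mem_cons' (cov446 h) (forall_mem_cons' (cov447 h) (forall_mem_cons' (cov448 h) (forall_mem_cons' (cov449 h) (forall_mem_cons' (cov450 h) (forall_mem_cons' (cov451 h) (forall_mem_cons' (cov452 h) (forall_mem_cons' (cov453 h) (forall_mem_cons' (cov454 h) (forall_mem_cons' (cov455 h) (forall_mem_cons' (cov456 h) (forall_mem_cons' (cov457 h) (forall_mem_cons' (cov458 h) (forall_mem_cons' (cov459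 h) (forall_mem_cons' (cov460 h) (forall_mem_cons' (cov461 h) (forall_mem_cons' (cov462 h) (forall_mem_cons' (cov463 h) (forall_mem_cons' (cov464 h) (forall_mem_cons' (cov465 h) (forall_mem_cons' (cov466 h) (forall_mem_cons' (cov467 h) (forall_mem_cons' (cov468 h) (forall_mem_cons' (cov469 h) (forall_mem_cons' (cov470 h) (forall_mem_cons' (cov471 h) (forall_mem_cons' (cov472 h) (forall_mem_cons' (cov473 h) (forall_mem_cons' (cov474 h) (forall_mem_cons' (cov475 h) (forall_mem_cons' (cov476 h) (forall_mem_cons' (cov477 h) (forall_mem_cons' (cov478 h) (forall_mem_cons' (cov479 h) (forall_mem_cons' (cov480 h) (forall_mem_cons' (cov481 h) (forall_mem_cons' (cov482 h) (forall_mem_cons' (cov483 h) (forall_mem_cons' (cov484 h) (forall_mem_cons' (cov485 h) (forall_mem_cons' (cov486 h) (forall_mem_cons' (cov487 h) (forall_mem_cons' (cov488 h) (forall_mem_cons' (cov489 h) (forall_mem_cons' (cov490 h) (forall_mem_cons' (cov491 h) (forall_mem_cons'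 (cov492 h) (forall_mem_cons' (cov493 h) (forall_mem_cons' (cov494 h) (forall_mem_cons' (cov495 h) (forall_mem_cons' (cov496 h) (forall_mem_cons' (cov497 h) (forall_mem_cons' (cov498 h) (forall_mem_cons' (cov499 h) (forall_mem_cons' (cov500 h) (forall_mem_cons' (cov501 h) (forall_mem_cons' (cov502 h) (forall_mem_cons' (cov503 h) (forall_mem_cons' (cov504 h) (forall_mem_cons' (cov505 h) (forall_mem_cons' (cov506 h) (forall_mem_cons' (cov507 h) (forall_mem_cons' (cov508 h) (forall_mem_cons' (cov509 h) (forall_mem_cons' (cov510 h) (forall_mem_cons' (cov511 h) (forall_mem_cons' (cov512 h) (forall_mem_cons' (cov513 h) (forall_mem_cons' (cov514 h) (forall_mem_cons' (cov515 h) (forall_mem_cons' (cov516 h) (forall_mem_cons' (cov517 h) (forall_mem_cons' (cov518 h) (forall_mem_cons' (cov519 h) (forall_mem_cons' (cov520 h) (forall_mem_cons' (cov521 h) (forall_mem_cons' (cov522 h) (forall_mem_cons' (cov523 h) (forall_mem_cons' (cov524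 h) (forall_mem_cons' (cov525 h) (forall_mem_cons' (cov526 h) (forall_mem_cons' (cov527 h) (forall_mem_cons' (cov528 h) (forall_mem_cons' (cov529 h) (forall_mem_cons' (cov530 h) (forall_mem_cons' (cov531 h) (forall_mem_cons' (cov532 h) (forall_mem_cons' (cov533 h) (forall_mem_cons' (cov534 h) forall_mem_nil'))))))))))))))))))))))))))))))))))))))))))))))))))))))))))))))))))))))))))))))))))))))))))))))))))))))))))))))))))))))))))))))))))))

theorem cov401 {Γ X : Type*} [Group Γ] [MulAction Γ X] {T : Lst X J.n} {gen : ℕ → Γ} {A : Subgroup Γ} (h : J.Model T gen A) : Cov h.M (J.el gen) [L0, L1, L2] R [nat_lit 73872, nat_lit 132948] :=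
  cov_full (ctx h) n401

theorem cov400 {Γ X : Type*} [Group Γ] [MulAction Γ X] {T : Lst X J.n} {gen : ℕ → Γ} {A : Subgroup Γ} (h : J.Model T gen A) : Cov h.M (J.el gen) [L0, L1, L2] R [nat_lit 73872, nat_lit 132102] :=
  cov_full (ctx h) n400

theorem cov399 {Γ X : Type*} [Group Γ] [MulAction Γ X] {T : Lst X J.n} {gen : ℕ → Γ} {A : Subgroup Γ} (h : J.Model T gen A) : Cov h.M (J.el gen) [L0, L1, L2] R [nat_lit 73872, nat_lit 131904] :=
  cov_full (ctx h) n399

theorem cov398 {Γ X : Type*} [Group Γ] [MulAction Γ X] {T : Lst X J.n} {gen : ℕ → Γ} {A : Subgroup Γ} (h : J.Model T gen A) : Cov h.M (J.el gen) [L0, L1, L2] R [nat_lit 73872, nat_lit 131922] :=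
  cov_full (ctx h) n398

theorem cov397 {Γ X : Type*} [Group Γ] [MulAction Γ X] {T : Lst X J.n} {gen : ℕ → Γ} {A : Subgroup Γ} (h : J.Model T gen A) : Cov h.M (J.el gen) [L0, L1, L2] R [nat_lit 73872, nat_lit 130860] :=
  cov_full (ctx h) n397

theorem cov396 {Γ X : Type*} [Group Γ] [MulAction Γ X] {T : Lst X J.n} {gen : ℕ → Γ} {A : Subgroup Γ} (h : J.Model T gen A) : Cov h.M (J.el gen) [L0, L1, L2] R [nat_lit 73872, nat_lit 131742] :=
  cov_full (ctx h) n396

theorem cov395 {Γ X : Type*} [Group Γ] [MulAction Γ X] {T : Lst X J.n} {gen : ℕ → Γ} {A : Subgroup Γ} (h : J.Model T gen A) : Cov h.M (J.el gen) [L0, L1, L2] R [nat_lit 73872, nat_lit 133524] :=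
  cov_full (ctx h) n395

theorem cov394 {Γ X : Type*} [Group Γ] [MulAction Γ X] {T : Lst X J.n} {gen : ℕ → Γ} {A : Subgroup Γ} (h : J.Model T gen A) : Cov h.M (J.el gen) [L0, L1, L2] R [nat_lit 73872, nat_lit 131580] :=
  cov_full (ctx h) n394

theorem cov393 {Γ X : Type*} [Group Γ] [MulAction Γ X] {T : Lst X J.n} {gen : ℕ → Γ} {A : Subgroup Γ} (h : J.Model T gen A) : Cov h.M (J.el gen) [L0, L1, L2] R [nat_lit 73872, nat_lit 130608] :=
  cov_full (ctx h) n393

theorem cov392 {Γ X : Type*} [Group Γ] [MulAction Γ X] {T : Lst X J.n} {gen : ℕ → Γ} {A : Subgroup Γ} (h : J.Model T gen A) : Cov h.M (J.el gen) [L0, L1, L2] R [nat_lit 73872, nat_lit 130662] :=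
  cov_full (ctx h) n392

theorem cov391 {Γ X : Type*} [Group Γ] [MulAction Γ X] {T : Lst X J.n} {gen : ℕ → Γ} {A : Subgroup Γ} (h : J.Model T gen A) : Cov h.M (J.el gen) [L0, L1, L2] R [nat_lit 73872, nat_lit 132210] :=
  cov_full (ctx h) n391

theorem cov390 {Γ X : Type*} [Group Γ] [MulAction Γ X] {T : Lst X J.n} {gen : ℕ → Γ} {A : Subgroup Γ} (h : J.Model T gen A) : Cov h.M (J.el gen) [L0, L1, L2] R [nat_lit 73872, nat_lit 132264] :=
  cov_full (ctx h) n390

theorem cov389 {Γ X : Type*} [Group Γ] [MulAction Γ X] {T : Lst X J.n} {gen : ℕ → Γ} {A : Subgroup Γ} (h : J.Model T gen A) : Cov h.M (J.el gen) [L0, L1, L2] R [nat_lit 73872, nat_lit 132480] :=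
  cov_full (ctx h) n389

theorem cov388 {Γ X : Type*} [Group Γ] [MulAction Γ X] {T : Lst X J.n} {gen : ℕ → Γ} {A : Subgroup Γ} (h : J.Model T gen A) : Cov h.M (J.el gen) [L0, L1, L2] R [nat_lit 73872, nat_lit 130410] :=
  cov_full (ctx h) n388

theorem cov387 {Γ X : Type*} [Group Γ] [MulAction Γ X] {T : Lst X J.n} {gen : ℕ → Γ} {A : Subgroup Γ} (h : J.Model T gen A) : Cov h.M (J.el gen) [L0, L1, L2] R [nat_lit 73872, nat_lit 130158] :=
  cov_full (ctx h) n387

theorem cov386 {Γ X : Type*} [Group Γ] [MulAction Γ X] {T : Lst X J.n} {gen : ℕ → Γ} {A : Subgroup Γ} (h : J.Model T gen A) : Cov h.M (J.el gen) [L0, L1, L2] R [nat_lit 73872, nat_lit 132444] :=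
  cov_full (ctx h) n386

theorem cov385 {Γ X : Type*} [Group Γ] [MulAction Γ X] {T : Lst X J.n} {gen : ℕ → Γ} {A : Subgroup Γ} (h : J.Model T gen A) : Cov h.M (J.el gen) [L0, L1, L2] R [nat_lit 73872, nat_lit 129330] :=
  cov_full (ctx h) n385

theorem cov384 {Γ X : Type*} [Group Γ] [MulAction Γ X] {T : Lst X J.n} {gen : ℕ → Γ} {A : Subgroup Γ} (h : J.Model T gen A) : Cov h.M (J.el gen) [L0, L1, L2] R [nat_lit 73872, nat_lit 129312] :=
  cov_full (ctx h) n384

theorem cov383 {Γ X : Type*} [Group Γ] [MulAction Γ X] {T : Lst X J.n} {gen : ℕ → Γ} {A : Subgroup Γ} (h : J.Model T gen A) : Cov h.M (J.el gen) [L0, L1, L2] R [nat_lit 73872, nat_lit 129510] :=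
  cov_full (ctx h) n383

theorem cov382 {Γ X : Type*} [Group Γ] [MulAction Γ X] {T : Lst X J.n} {gen : ℕ → Γ} {A : Subgroup Γ} (h : J.Model T gen A) : Cov h.M (J.el gen) [L0, L1, L2] R [nat_lit 73872, nat_lit 129852] :=
  cov_full (ctx h) n382

theorem cov381 {Γ X : Type*} [Group Γ] [MulAction Γ X] {T : Lst X J.n} {gen : ℕ → Γ} {A : Subgroup Γ} (h : J.Model T gen A) : Cov h.M (J.el gen) [L0, L1, L2] R [nat_lit 73872, nat_lit 129258] :=
  cov_full (ctx h) n381

theorem cov380 {Γ X : Type*} [Group Γ] [MulAction Γ X] {T : Lst X J.n} {gen : ℕ → Γ} {A : Subgroup Γ} (h : J.Model T gen A) : Cov h.M (J.el gen) [L0, L1, L2] R [nat_lit 73872, nat_lit 129240] :=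
  cov_full (ctx h) n380

theorem cov379 {Γ X : Type*} [Group Γ] [MulAction Γ X] {T : Lst X J.n} {gen : ℕ → Γ} {A : Subgroup Γ} (h : J.Model T gen A) : Cov h.M (J.el gen) [L0, L1, L2] R [nat_lit 73872, nat_lit 129222] :=
  cov_full (ctx h) n379

theorem cov378 {Γ X : Type*} [Group Γ] [MulAction Γ X] {T : Lst X J.n} {gen : ℕ → Γ} {A : Subgroup Γ} (h : J.Model T gen A) : Cov h.M (J.el gen) [L0, L1, L2] R [nat_lit 73872, nat_lit 129204] :=
  cov_full (ctx h) n378

theorem cov377 {Γ X : Type*} [Group Γ] [MulAction Γ X] {T : Lst X J.n} {gen : ℕ → Γ} {A : Subgroup Γ} (h : J.Model T gen A) : Cov h.M (J.el gen) [L0, L1, L2] R [nat_lit 73872, nat_lit 129186] :=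
  cov_full (ctx h) n377

theorem cov376 {Γ X : Type*} [Group Γ] [MulAction Γ X] {T : Lst X J.n} {gen : ℕ → Γ} {A : Subgroup Γ} (h : J.Model T gen A) : Cov h.M (J.el gen) [L0, L1, L2] R [nat_lit 73872, nat_lit 129168] :=
  cov_full (ctx h) n376

theorem cov375 {Γ X : Type*} [Group Γ] [MulAction Γ X] {T : Lst X J.n} {gen : ℕ → Γ} {A : Subgroup Γ} (h : J.Model T gen A) : Cov h.M (J.el gen) [L0, L1, L2] R [nat_lit 73872, nat_lit 129150] :=
  cov_full (ctx h) n375

theorem cov374 {Γ X : Type*} [Group Γ] [MulAction Γ X] {T : Lst X J.n} {gen : ℕ → Γ} {A : Subgroup Γ} (h : J.Model T gen A) : Cov h.M (J.el gen) [L0, L1, L2] R [nat_lit 73872, nat_lit 129132] :=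
  cov_full (ctx h) n374

theorem cov373 {Γ X : Type*} [Group Γ] [MulAction Γ X] {T : Lst X J.n} {gen : ℕ → Γ} {A : Subgroup Γ} (h : J.Model T gen A) : Cov h.M (J.el gen) [L0, L1, L2] R [nat_lit 73872, nat_lit 129114] :=
  cov_full (ctx h) n373

theorem cov372 {Γ X : Type*} [Group Γ] [MulAction Γ X] {T : Lst X J.n} {gen : ℕ → Γ} {A : Subgroup Γ} (h : J.Model T gen A) : Cov h.M (J.el gen) [L0, L1, L2] R [nat_lit 73872, nat_lit 129096] :=
  cov_full (ctx h) n372

theorem cov371 {Γ X : Type*} [Group Γ] [MulAction Γ X] {T : Lst X J.n} {gen : ℕ → Γ} {A : Subgroup Γ} (h : J.Model T gen A) : Cov h.M (J.el gen) [L0, L1, L2] R [nat_lit 73872, nat_lit 129078] :=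
  cov_full (ctx h) n371

theorem cov370 {Γ X : Type*} [Group Γ] [MulAction Γ X] {T : Lst X J.n} {gen : ℕ → Γ} {A : Subgroup Γ} (h : J.Model T gen A) : Cov h.M (J.el gen) [L0, L1, L2] R [nat_lit 73872, nat_lit 129060] :=
  cov_full (ctx h) n370

theorem cov369 {Γ X : Type*} [Group Γ] [MulAction Γ X] {T : Lst X J.n} {gen : ℕ → Γ} {A : Subgroup Γ} (h : J.Model T gen A) : Cov h.M (J.el gen) [L0, L1, L2] R [nat_lit 73872, nat_lit 129042] :=
  cov_full (ctx h) n369

theorem cov368 {Γ X : Type*} [Group Γ] [MulAction Γ X] {T : Lst X J.n} {gen : ℕ → Γ} {A : Subgroup Γ} (h : J.Model T gen A) : Cov h.M (J.el gen) [L0, L1, L2] R [nat_lit 73872, nat_lit 129024] :=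
  cov_full (ctx h) n368

theorem cov367 {Γ X : Type*} [Group Γ] [MulAction Γ X] {T : Lst X J.n} {gen : ℕ → Γ} {A : Subgroup Γ} (h : J.Model T gen A) : Cov h.M (J.el gen) [L0, L1, L2] R [nat_lit 73872, nat_lit 129006] :=
  cov_full (ctx h) n367

theorem cov366 {Γ X : Type*} [Group Γ] [MulAction Γ X] {T : Lst X J.n} {gen : ℕ → Γ} {A : Subgroup Γ} (h : J.Model T gen A) : Cov h.M (J.el gen) [L0, L1, L2] R [nat_lit 73872, nat_lit 128988] :=
  cov_full (ctx h) n366

theorem cov365 {Γ X : Type*} [Group Γ] [MulAction Γ X] {T : Lst X J.n} {gen : ℕ → Γ} {A : Subgroup Γ} (h : J.Model T gen A) : Cov h.M (J.el gen) [L0, L1, L2] R [nat_lit 73872, nat_lit 117234] :=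
  cov_full (ctx h) n365

theorem cov364 {Γ X : Type*} [Group Γ] [MulAction Γ X] {T : Lst X J.n} {gen : ℕ → Γ} {A : Subgroup Γ} (h : J.Model T gen A) : Cov h.M (J.el gen) [L0, L1, L2] R [nat_lit 73872, nat_lit 118080] :=
  cov_full (ctx h) n364

theorem cov363 {Γ X : Type*} [Group Γ] [MulAction Γ X] {T : Lst X J.n} {gen : ℕ → Γ} {A : Subgroup Γ} (h : J.Model T gen A) : Cov h.M (J.el gen) [L0, L1, L2] R [nat_lit 73872, nat_lit 115686] :=
  cov_full (ctx h) n363

theorem cov362 {Γ X : Type*} [Group Γ] [MulAction Γ X] {T : Lst X J.n} {gen : ℕ → Γ} {A : Subgroup Γ} (h : J.Model T gen A) : Cov h.M (J.el gen) [L0, L1, L2] R [nat_lit 73872, nat_lit 117828] :=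
  cov_full (ctx h) n362

theorem cov361 {Γ X : Type*} [Group Γ] [MulAction Γ X] {T : Lst X J.n} {gen : ℕ → Γ} {A : Subgroup Γ} (h : J.Model T gen A) : Cov h.M (J.el gen) [L0, L1, L2] R [nat_lit 73872, nat_lit 116514] :=
  cov_full (ctx h) n361

theorem cov360 {Γ X : Type*} [Group Γ] [MulAction Γ X] {T : Lst X J.n} {gen : ℕ → Γ} {A : Subgroup Γ} (h : J.Model T gen A) : Cov h.M (J.el gen) [L0, L1, L2] R [nat_lit 73872, nat_lit 115632] :=
  cov_full (ctx h) n360

theorem cov359 {Γ X : Type*} [Group Γ] [MulAction Γ X] {T : Lst X J.n} {gen : ℕ → Γ} {A : Subgroup Γ} (h : J.Model T gen A) : Cov h.M (J.el gen) [L0, L1, L2] R [nat_lit 73872, nat_lit 115614] :=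
  cov_full (ctx h) n359

theorem cov358 {Γ X : Type*} [Group Γ] [MulAction Γ X] {T : Lst X J.n} {gen : ℕ → Γ} {A : Subgroup Γ} (h : J.Model T gen A) : Cov h.M (J.el gen) [L0, L1, L2] R [nat_lit 73872, nat_lit 115884] :=
  cov_full (ctx h) n358

theorem cov357 {Γ X : Type*} [Group Γ] [MulAction Γ X] {T : Lst X J.n} {gen : ℕ → Γ} {A : Subgroup Γ} (h : J.Model T gen A) : Cov h.M (J.el gen) [L0, L1, L2] R [nat_lit 73872, nat_lit 116154] :=
  cov_full (ctx h) n357

theorem cov356 {Γ X : Type*} [Group Γ] [MulAction Γ X] {T : Lst X J.n} {gen : ℕ → Γ} {A : Subgroup Γ} (h : J.Model T gen A) : Cov h.M (J.el gen) [L0, L1, L2] R [nat_lit 73872, nat_lit 115560] :=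
  cov_full (ctx h) n356

theorem cov355 {Γ X : Type*} [Group Γ] [MulAction Γ X] {T : Lst X J.n} {gen : ℕ → Γ} {A : Subgroup Γ} (h : J.Model T gen A) : Cov h.M (J.el gen) [L0, L1, L2] R [nat_lit 73872, nat_lit 115830] :=
  cov_full (ctx h) n355

theorem cov354 {Γ X : Type*} [Group Γ] [MulAction Γ X] {T : Lst X J.n} {gen : ℕ → Γ} {A : Subgroup Γ} (h : J.Model T gen A) : Cov h.M (J.el gen) [L0, L1, L2] R [nat_lit 73872, nat_lit 115524] :=
  cov_full (ctx h) n354

theorem cov353 {Γ X : Type*} [Group Γ] [MulAction Γ X] {T : Lst X J.n} {gen : ℕ → Γ} {A : Subgroup Γ} (h : J.Model T gen A) : Cov h.M (J.el gen) [L0, L1, L2] R [nat_lit 73872, nat_lit 117954] :=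
  cov_full (ctx h) n353

theorem cov352 {Γ X : Type*} [Group Γ] [MulAction Γ X] {T : Lst X J.n} {gen : ℕ → Γ} {A : Subgroup Γ} (h : J.Model T gen A) : Cov h.M (J.el gen) [L0, L1, L2] R [nat_lit 73872, nat_lit 117072] :=
  cov_full (ctx h) n352

theorem cov351 {Γ X : Type*} [Group Γ] [MulAction Γ X] {T : Lst X J.n} {gen : ℕ → Γ} {A : Subgroup Γ} (h : J.Model T gen A) : Cov h.M (J.el gen) [L0, L1, L2] R [nat_lit 73872, nat_lit 119142] :=
  cov_full (ctx h) n351

theorem cov350 {Γ X : Type*} [Group Γ] [MulAction Γ X] {T : Lst X J.n} {gen : ℕ → Γ} {A : Subgroup Γ} (h : J.Model T gen A) : Cov h.M (J.el gen) [L0, L1, L2] R [nat_lit 73872, nat_lit 116316] :=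
  cov_full (ctx h) n350

theorem cov349 {Γ X : Type*} [Group Γ] [MulAction Γ X] {T : Lst X J.n} {gen : ℕ → Γ} {A : Subgroup Γ} (h : J.Model T gen A) : Cov h.M (J.el gen) [L0, L1, L2] R [nat_lit 73872, nat_lit 115434] :=
  cov_full (ctx h) n349

theorem cov348 {Γ X : Type*} [Group Γ] [MulAction Γ X] {T : Lst X J.n} {gen : ℕ → Γ} {A : Subgroup Γ} (h : J.Model T gen A) : Cov h.M (J.el gen) [L0, L1, L2] R [nat_lit 73872, nat_lit 115416] :=
  cov_full (ctx h) n348

theorem cov347 {Γ X : Type*} [Group Γ] [MulAction Γ X] {T : Lst X J.n} {gen : ℕ → Γ} {A : Subgroup Γ} (h : J.Model T gen A) : Cov h.M (J.el gen) [L0, L1, L2] R [nat_lit 73872, nat_lit 115398] :=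
  cov_full (ctx h) n347

theorem cov346 {Γ X : Type*} [Group Γ] [MulAction Γ X] {T : Lst X J.n} {gen : ℕ → Γ} {A : Subgroup Γ} (h : J.Model T gen A) : Cov h.M (J.el gen) [L0, L1, L2] R [nat_lit 73872, nat_lit 116748] :=
  cov_full (ctx h) n346

theorem cov345 {Γ X : Type*} [Group Γ] [MulAction Γ X] {T : Lst X J.n} {gen : ℕ → Γ} {A : Subgroup Γ} (h : J.Model T gen A) : Cov h.M (J.el gen) [L0, L1, L2] R [nat_lit 73872, nat_lit 116874] :=
  cov_full (ctx h) n345

theorem cov344 {Γ X : Type*} [Group Γ] [MulAction Γ X] {T : Lst X J.n} {gen : ℕ → Γ} {A : Subgroup Γ} (h : J.Model T gen A) : Cov h.M (J.el gen) [L0, L1, L2] R [nat_lit 73872, nat_lit 118584] :=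
  cov_full (ctx h) n344

theorem cov343 {Γ X : Type*} [Group Γ] [MulAction Γ X] {T : Lst X J.n} {gen : ℕ → Γ} {A : Subgroup Γ} (h : J.Model T gen A) : Cov h.M (J.el gen) [L0, L1, L2] R [nat_lit 73872, nat_lit 115326] :=
  cov_full (ctx h) n343

theorem cov342 {Γ X : Type*} [Group Γ] [MulAction Γ X] {T : Lst X J.n} {gen : ℕ → Γ} {A : Subgroup Γ} (h : J.Model T gen A) : Cov h.M (J.el gen) [L0, L1, L2] R [nat_lit 73872, nat_lit 115308] :=
  cov_full (ctx h) n342

theorem cov341 {Γ X : Type*} [Group Γ] [MulAction Γ X] {T : Lst X J.n} {gen : ℕ → Γ} {A : Subgroup Γ} (h : J.Model T gen A) : Cov h.M (J.el gen) [L0, L1, L2] R [nat_lit 73872, nat_lit 115290] :=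
  cov_full (ctx h) n341

theorem cov340 {Γ X : Type*} [Group Γ] [MulAction Γ X] {T : Lst X J.n} {gen : ℕ → Γ} {A : Subgroup Γ} (h : J.Model T gen A) : Cov h.M (J.el gen) [L0, L1, L2] R [nat_lit 73872, nat_lit 115272] :=
  cov_full (ctx h) n340

theorem cov339 {Γ X : Type*} [Group Γ] [MulAction Γ X] {T : Lst X J.n} {gen : ℕ → Γ} {A : Subgroup Γ} (h : J.Model T gen A) : Cov h.M (J.el gen) [L0, L1, L2] R [nat_lit 73872, nat_lit 118350] :=
  cov_full (ctx h) n339

theorem cov338 {Γ X : Type*} [Group Γ] [MulAction Γ X] {T : Lst X J.n} {gen : ℕ → Γ} {A : Subgroup Γ} (h : J.Model T gen A) : Cov h.M (J.el gen) [L0, L1, L2] R [nat_lit 73872, nat_lit 116604] :=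
  cov_full (ctx h) n338

theorem cov337 {Γ X : Type*} [Group Γ] [MulAction Γ X] {T : Lst X J.n} {gen : ℕ → Γ} {A : Subgroup Γ} (h : J.Model T gen A) : Cov h.M (J.el gen) [L0, L1, L2] R [nat_lit 73872, nat_lit 115218] :=
  cov_full (ctx h) n337

theorem cov336 {Γ X : Type*} [Group Γ] [MulAction Γ X] {T : Lst X J.n} {gen : ℕ → Γ} {A : Subgroup Γ} (h : J.Model T gen A) : Cov h.M (J.el gen) [L0, L1, L2] R [nat_lit 73872, nat_lit 115200] :=
  cov_full (ctx h) n336

theorem cov335 {Γ X : Type*} [Group Γ] [MulAction Γ X] {T : Lst X J.n} {gen : ℕ → Γ} {A : Subgroup Γ} (h : J.Model T gen A) : Cov h.M (J.el gen) [L0, L1, L2] R [nat_lit 73872, nat_lit 115182] :=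
  cov_full (ctx h) n335

theorem cov334 {Γ X : Type*} [Group Γ] [MulAction Γ X] {T : Lst X J.n} {gen : ℕ → Γ} {A : Subgroup Γ} (h : J.Model T gen A) : Cov h.M (J.el gen) [L0, L1, L2] R [nat_lit 73872, nat_lit 115164] :=
  cov_full (ctx h) n334

theorem cov333 {Γ X : Type*} [Group Γ] [MulAction Γ X] {T : Lst X J.n} {gen : ℕ → Γ} {A : Subgroup Γ} (h : J.Model T gen A) : Cov h.M (J.el gen) [L0, L1, L2] R [nat_lit 73872, nat_lit 101898] :=
  cov_full (ctx h) n333

theorem cov332 {Γ X : Type*} [Group Γ] [MulAction Γ X] {T : Lst X J.n} {gen : ℕ → Γ} {A : Subgroup Γ} (h : J.Model T gen A) : Cov h.M (J.el gen) [L0, L1, L2] R [nat_lit 73872, nat_lit 102168] :=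
  cov_full (ctx h) n332

theorem cov331 {Γ X : Type*} [Group Γ] [MulAction Γ X] {T : Lst X J.n} {gen : ℕ → Γ} {A : Subgroup Γ} (h : J.Model T gen A) : Cov h.M (J.el gen) [L0, L1, L2] R [nat_lit 73872, nat_lit 101862] :=
  cov_full (ctx h) n331

theorem cov330 {Γ X : Type*} [Group Γ] [MulAction Γ X] {T : Lst X J.n} {gen : ℕ → Γ} {A : Subgroup Γ} (h : J.Model T gen A) : Cov h.M (J.el gen) [L0, L1, L2] R [nat_lit 73872, nat_lit 101844] :=
  cov_full (ctx h) n330

theorem cov329 {Γ X : Type*} [Group Γ] [MulAction Γ X] {T : Lst X J.n} {gen : ℕ → Γ} {A : Subgroup Γ} (h : J.Model T gen A) : Cov h.M (J.el gen) [L0, L1, L2] R [nat_lit 73872, nat_lit 101826] :=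
  cov_full (ctx h) n329

theorem cov328 {Γ X : Type*} [Group Γ] [MulAction Γ X] {T : Lst X J.n} {gen : ℕ → Γ} {A : Subgroup Γ} (h : J.Model T gen A) : Cov h.M (J.el gen) [L0, L1, L2] R [nat_lit 73872, nat_lit 104976] :=
  cov_full (ctx h) n328

theorem cov327 {Γ X : Type*} [Group Γ] [MulAction Γ X] {T : Lst X J.n} {gen : ℕ → Γ} {A : Subgroup Γ} (h : J.Model T gen A) : Cov h.M (J.el gen) [L0, L1, L2] R [nat_lit 73872, nat_lit 102078] :=
  cov_full (ctx h) n327

theorem cov326 {Γ X : Type*} [Group Γ] [MulAction Γ X] {T : Lst X J.n} {gen : ℕ → Γ} {A : Subgroup Γ} (h : J.Model T gen A) : Cov h.M (J.el gen) [L0, L1, L2] R [nat_lit 73872, nat_lit 102060] :=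
  cov_full (ctx h) n326

theorem cov325 {Γ X : Type*} [Group Γ] [MulAction Γ X] {T : Lst X J.n} {gen : ℕ → Γ} {A : Subgroup Γ} (h : J.Model T gen A) : Cov h.M (J.el gen) [L0, L1, L2] R [nat_lit 73872, nat_lit 102978] :=
  cov_full (ctx h) n325

theorem cov324 {Γ X : Type*} [Group Γ] [MulAction Γ X] {T : Lst X J.n} {gen : ℕ → Γ} {A : Subgroup Γ} (h : J.Model T gen A) : Cov h.M (J.el gen) [L0, L1, L2] R [nat_lit 73872, nat_lit 102312] :=
  cov_full (ctx h) n324

theorem cov323 {Γ X : Type*} [Group Γ] [MulAction Γ X] {T : Lst X J.n} {gen : ℕ → Γ} {A : Subgroup Γ} (h : J.Model T gen A) : Cov h.M (J.el gen) [L0, L1, L2] R [nat_lit 73872, nat_lit 105534] :=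
  cov_full (ctx h) n323

theorem cov322 {Γ X : Type*} [Group Γ] [MulAction Γ X] {T : Lst X J.n} {gen : ℕ → Γ} {A : Subgroup Γ} (h : J.Model T gen A) : Cov h.M (J.el gen) [L0, L1, L2] R [nat_lit 73872, nat_lit 101988] :=
  cov_full (ctx h) n322

theorem cov321 {Γ X : Type*} [Group Γ] [MulAction Γ X] {T : Lst X J.n} {gen : ℕ → Γ} {A : Subgroup Γ} (h : J.Model T gen A) : Cov h.M (J.el gen) [L0, L1, L2] R [nat_lit 73872, nat_lit 101970] :=
  cov_full (ctx h) n321

theorem cov320 {Γ X : Type*} [Group Γ] [MulAction Γ X] {T : Lst X J.n} {gen : ℕ → Γ} {A : Subgroup Γ} (h : J.Model T gen A) : Cov h.M (J.el gen) [L0, L1, L2] R [nat_lit 73872, nat_lit 104832] :=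
  cov_full (ctx h) n320

theorem cov319 {Γ X : Type*} [Group Γ] [MulAction Γ X] {T : Lst X J.n} {gen : ℕ → Γ} {A : Subgroup Γ} (h : J.Model T gen A) : Cov h.M (J.el gen) [L0, L1, L2] R [nat_lit 73872, nat_lit 101646] :=
  cov_full (ctx h) n319

theorem cov318 {Γ X : Type*} [Group Γ] [MulAction Γ X] {T : Lst X J.n} {gen : ℕ → Γ} {A : Subgroup Γ} (h : J.Model T gen A) : Cov h.M (J.el gen) [L0, L1, L2] R [nat_lit 73872, nat_lit 102204] :=
  cov_full (ctx h) n318

theorem cov317 {Γ X : Type*} [Group Γ] [MulAction Γ X] {T : Lst X J.n} {gen : ℕ → Γ} {A : Subgroup Γ} (h : J.Model T gen A) : Cov h.M (J.el gen) [L0, L1, L2] R [nat_lit 73872, nat_lit 101610] :=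
  cov_full (ctx h) n317

theorem cov316 {Γ X : Type*} [Group Γ] [MulAction Γ X] {T : Lst X J.n} {gen : ℕ → Γ} {A : Subgroup Γ} (h : J.Model T gen A) : Cov h.M (J.el gen) [L0, L1, L2] R [nat_lit 73872, nat_lit 101592] :=
  cov_full (ctx h) n316

theorem cov315 {Γ X : Type*} [Group Γ] [MulAction Γ X] {T : Lst X J.n} {gen : ℕ → Γ} {A : Subgroup Γ} (h : J.Model T gen A) : Cov h.M (J.el gen) [L0, L1, L2] R [nat_lit 73872, nat_lit 104310] :=
  cov_full (ctx h) n315

theorem cov314 {Γ X : Type*} [Group Γ] [MulAction Γ X] {T : Lst X J.n} {gen : ℕ → Γ} {A : Subgroup Γ} (h : J.Model T gen A) : Cov h.M (J.el gen) [L0, L1, L2] R [nat_lit 73872, nat_lit 101556] :=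
  cov_full (ctx h) n314

theorem cov313 {Γ X : Type*} [Group Γ] [MulAction Γ X] {T : Lst X J.n} {gen : ℕ → Γ} {A : Subgroup Γ} (h : J.Model T gen A) : Cov h.M (J.el gen) [L0, L1, L2] R [nat_lit 73872, nat_lit 101538] :=
  cov_full (ctx h) n313

theorem cov312 {Γ X : Type*} [Group Γ] [MulAction Γ X] {T : Lst X J.n} {gen : ℕ → Γ} {A : Subgroup Γ} (h : J.Model T gen A) : Cov h.M (J.el gen) [L0, L1, L2] R [nat_lit 73872, nat_lit 101520] :=
  cov_full (ctx h) n312

theorem cov311 {Γ X : Type*} [Group Γ] [MulAction Γ X] {T : Lst X J.n} {gen : ℕ → Γ} {A : Subgroup Γ} (h : J.Model T gen A) : Cov h.M (J.el gen) [L0, L1, L2] R [nat_lit 73872, nat_lit 105102] :=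
  cov_full (ctx h) n311

theorem cov310 {Γ X : Type*} [Group Γ] [MulAction Γ X] {T : Lst X J.n} {gen : ℕ → Γ} {A : Subgroup Γ} (h : J.Model T gen A) : Cov h.M (J.el gen) [L0, L1, L2] R [nat_lit 73872, nat_lit 101484] :=
  cov_full (ctx h) n310

theorem cov309 {Γ X : Type*} [Group Γ] [MulAction Γ X] {T : Lst X J.n} {gen : ℕ → Γ} {A : Subgroup Γ} (h : J.Model T gen A) : Cov h.M (J.el gen) [L0, L1, L2] R [nat_lit 73872, nat_lit 105354] :=
  cov_full (ctx h) n309

theorem cov308 {Γ X : Type*} [Group Γ] [MulAction Γ X] {T : Lst X J.n} {gen : ℕ → Γ} {A : Subgroup Γ} (h : J.Model T gen A) : Cov h.M (J.el gen) [L0, L1, L2] R [nat_lit 73872, nat_lit 101448] :=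
  cov_full (ctx h) n308

theorem cov307 {Γ X : Type*} [Group Γ] [MulAction Γ X] {T : Lst X J.n} {gen : ℕ → Γ} {A : Subgroup Γ} (h : J.Model T gen A) : Cov h.M (J.el gen) [L0, L1, L2] R [nat_lit 73872, nat_lit 101430] :=
  cov_full (ctx h) n307

theorem cov306 {Γ X : Type*} [Group Γ] [MulAction Γ X] {T : Lst X J.n} {gen : ℕ → Γ} {A : Subgroup Γ} (h : J.Model T gen A) : Cov h.M (J.el gen) [L0, L1, L2] R [nat_lit 73872, nat_lit 101412] :=
  cov_full (ctx h) n306

theorem cov305 {Γ X : Type*} [Group Γ] [MulAction Γ X] {T : Lst X J.n} {gen : ℕ → Γ} {A : Subgroup Γ} (h : J.Model T gen A) : Cov h.M (J.el gen) [L0, L1, L2] R [nat_lit 73872, nat_lit 104418] :=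
  cov_full (ctx h) n305

theorem cov304 {Γ X : Type*} [Group Γ] [MulAction Γ X] {T : Lst X J.n} {gen : ℕ → Γ} {A : Subgroup Γ} (h : J.Model T gen A) : Cov h.M (J.el gen) [L0, L1, L2] R [nat_lit 73872, nat_lit 101376] :=
  cov_full (ctx h) n304

theorem cov303 {Γ X : Type*} [Group Γ] [MulAction Γ X] {T : Lst X J.n} {gen : ℕ → Γ} {A : Subgroup Γ} (h : J.Model T gen A) : Cov h.M (J.el gen) [L0, L1, L2] R [nat_lit 73872, nat_lit 101358] :=
  cov_full (ctx h) n303

theorem cov302 {Γ X : Type*} [Group Γ] [MulAction Γ X] {T : Lst X J.n} {gen : ℕ → Γ} {A : Subgroup Γ} (h : J.Model T gen A) : Cov h.M (J.el gen) [L0, L1, L2] R [nat_lit 73872, nat_lit 101340] :=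
  cov_full (ctx h) n302

theorem cov301 {Γ X : Type*} [Group Γ] [MulAction Γ X] {T : Lst X J.n} {gen : ℕ → Γ} {A : Subgroup Γ} (h : J.Model T gen A) : Cov h.M (J.el gen) [L0, L1, L2] R [nat_lit 73872, nat_lit 89766] :=
  cov_full (ctx h) n301

theorem cov300 {Γ X : Type*} [Group Γ] [MulAction Γ X] {T : Lst X J.n} {gen : ℕ → Γ} {A : Subgroup Γ} (h : J.Model T gen A) : Cov h.M (J.el gen) [L0, L1, L2] R [nat_lit 73872, nat_lit 88362] :=
  cov_full (ctx h) n300

theorem cov299 {Γ X : Type*} [Group Γ] [MulAction Γ X] {T : Lst X J.n} {gen : ℕ → Γ} {A : Subgroup Γ} (h : J.Model T gen A) : Cov h.M (J.el gen) [L0, L1, L2] R [nat_lit 73872, nat_lit 88038] :=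
  cov_full (ctx h) n299

theorem cov298 {Γ X : Type*} [Group Γ] [MulAction Γ X] {T : Lst X J.n} {gen : ℕ → Γ} {A : Subgroup Γ} (h : J.Model T gen A) : Cov h.M (J.el gen) [L0, L1, L2] R [nat_lit 73872, nat_lit 91494] :=
  cov_full (ctx h) n298

theorem cov297 {Γ X : Type*} [Group Γ] [MulAction Γ X] {T : Lst X J.n} {gen : ℕ → Γ} {A : Subgroup Γ} (h : J.Model T gen A) : Cov h.M (J.el gen) [L0, L1, L2] R [nat_lit 73872, nat_lit 88254] :=
  cov_full (ctx h) n297

theorem cov296 {Γ X : Type*} [Group Γ] [MulAction Γ X] {T : Lst X J.n} {gen : ℕ → Γ} {A : Subgroup Γ} (h : J.Model T gen A) : Cov h.M (J.el gen) [L0, L1, L2] R [nat_lit 73872, nat_lit 89442] :=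
  cov_full (ctx h) n296

theorem cov295 {Γ X : Type*} [Group Γ] [MulAction Γ X] {T : Lst X J.n} {gen : ℕ → Γ} {A : Subgroup Γ} (h : J.Model T gen A) : Cov h.M (J.el gen) [L0, L1, L2] R [nat_lit 73872, nat_lit 88578] :=
  cov_full (ctx h) n295

theorem cov294 {Γ X : Type*} [Group Γ] [MulAction Γ X] {T : Lst X J.n} {gen : ℕ → Γ} {A : Subgroup Γ} (h : J.Model T gen A) : Cov h.M (J.el gen) [L0, L1, L2] R [nat_lit 73872, nat_lit 89154] :=
  cov_full (ctx h) n294

theorem cov293 {Γ X : Type*} [Group Γ] [MulAction Γ X] {T : Lst X J.n} {gen : ℕ → Γ} {A : Subgroup Γ} (h : J.Model T gen A) : Cov h.M (J.el gen) [L0, L1, L2] R [nat_lit 73872, nat_lit 88488] :=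
  cov_full (ctx h) n293

theorem cov292 {Γ X : Type*} [Group Γ] [MulAction Γ X] {T : Lst X J.n} {gen : ℕ → Γ} {A : Subgroup Γ} (h : J.Model T gen A) : Cov h.M (J.el gen) [L0, L1, L2] R [nat_lit 73872, nat_lit 91332] :=
  cov_full (ctx h) n292

theorem cov291 {Γ X : Type*} [Group Γ] [MulAction Γ X] {T : Lst X J.n} {gen : ℕ → Γ} {A : Subgroup Γ} (h : J.Model T gen A) : Cov h.M (J.el gen) [L0, L1, L2] R [nat_lit 73872, nat_lit 88200] :=
  cov_full (ctx h) n291

theorem cov290 {Γ X : Type*} [Group Γ] [MulAction Γ X] {T : Lst X J.n} {gen : ℕ → Γ} {A : Subgroup Γ} (h : J.Model T gen A) : Cov h.M (J.el gen) [L0, L1, L2] R [nat_lit 73872, nat_lit 90216] :=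
  cov_full (ctx h) n290

theorem cov289 {Γ X : Type*} [Group Γ] [MulAction Γ X] {T : Lst X J.n} {gen : ℕ → Γ} {A : Subgroup Γ} (h : J.Model T gen A) : Cov h.M (J.el gen) [L0, L1, L2] R [nat_lit 73872, nat_lit 87858] :=
  cov_full (ctx h) n289

theorem cov288 {Γ X : Type*} [Group Γ] [MulAction Γ X] {T : Lst X J.n} {gen : ℕ → Γ} {A : Subgroup Γ} (h : J.Model T gen A) : Cov h.M (J.el gen) [L0, L1, L2] R [nat_lit 73872, nat_lit 89298] :=
  cov_full (ctx h) n288

theorem cov287 {Γ X : Type*} [Group Γ] [MulAction Γ X] {T : Lst X J.n} {gen : ℕ → Γ} {A : Subgroup Γ} (h : J.Model T gen A) : Cov h.M (J.el gen) [L0, L1, L2] R [nat_lit 73872, nat_lit 87822] :=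
  cov_full (ctx h) n287

theorem cov286 {Γ X : Type*} [Group Γ] [MulAction Γ X] {T : Lst X J.n} {gen : ℕ → Γ} {A : Subgroup Γ} (h : J.Model T gen A) : Cov h.M (J.el gen) [L0, L1, L2] R [nat_lit 73872, nat_lit 89010] :=
  cov_full (ctx h) n286

theorem cov285 {Γ X : Type*} [Group Γ] [MulAction Γ X] {T : Lst X J.n} {gen : ℕ → Γ} {A : Subgroup Γ} (h : J.Model T gen A) : Cov h.M (J.el gen) [L0, L1, L2] R [nat_lit 73872, nat_lit 87786] :=
  cov_full (ctx h) n285

theorem cov284 {Γ X : Type*} [Group Γ] [MulAction Γ X] {T : Lst X J.n} {gen : ℕ → Γ} {A : Subgroup Γ} (h : J.Model T gen A) : Cov h.M (J.el gen) [L0, L1, L2] R [nat_lit 73872, nat_lit 87768] :=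
  cov_full (ctx h) n284

theorem cov283 {Γ X : Type*} [Group Γ] [MulAction Γ X] {T : Lst X J.n} {gen : ℕ → Γ} {A : Subgroup Γ} (h : J.Model T gen A) : Cov h.M (J.el gen) [L0, L1, L2] R [nat_lit 73872, nat_lit 87750] :=
  cov_full (ctx h) n283

theorem cov282 {Γ X : Type*} [Group Γ] [MulAction Γ X] {T : Lst X J.n} {gen : ℕ → Γ} {A : Subgroup Γ} (h : J.Model T gen A) : Cov h.M (J.el gen) [L0, L1, L2] R [nat_lit 73872, nat_lit 87732] :=
  cov_full (ctx h) n282

theorem cov281 {Γ X : Type*} [Group Γ] [MulAction Γ X] {T : Lst X J.n} {gen : ℕ → Γ} {A : Subgroup Γ} (h : J.Model T gen A) : Cov h.M (J.el gen) [L0, L1, L2] R [nat_lit 73872, nat_lit 87714] :=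
  cov_full (ctx h) n281

theorem cov280 {Γ X : Type*} [Group Γ] [MulAction Γ X] {T : Lst X J.n} {gen : ℕ → Γ} {A : Subgroup Γ} (h : J.Model T gen A) : Cov h.M (J.el gen) [L0, L1, L2] R [nat_lit 73872, nat_lit 87696] :=
  cov_full (ctx h) n280

theorem cov279 {Γ X : Type*} [Group Γ] [MulAction Γ X] {T : Lst X J.n} {gen : ℕ → Γ} {A : Subgroup Γ} (h : J.Model T gen A) : Cov h.M (J.el gen) [L0, L1, L2] R [nat_lit 73872, nat_lit 88866] :=
  cov_full (ctx h) n279

theorem cov278 {Γ X : Type*} [Group Γ] [MulAction Γ X] {T : Lst X J.n} {gen : ℕ → Γ} {A : Subgroup Γ} (h : J.Model T gen A) : Cov h.M (J.el gen) [L0, L1, L2] R [nat_lit 73872, nat_lit 87660] :=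
  cov_full (ctx h) n278

theorem cov277 {Γ X : Type*} [Group Γ] [MulAction Γ X] {T : Lst X J.n} {gen : ℕ → Γ} {A : Subgroup Γ} (h : J.Model T gen A) : Cov h.M (J.el gen) [L0, L1, L2] R [nat_lit 73872, nat_lit 87642] :=
  cov_full (ctx h) n277

theorem cov276 {Γ X : Type*} [Group Γ] [MulAction Γ X] {T : Lst X J.n} {gen : ℕ → Γ} {A : Subgroup Γ} (h : J.Model T gen A) : Cov h.M (J.el gen) [L0, L1, L2] R [nat_lit 73872, nat_lit 87624] :=
  cov_full (ctx h) n276

theorem cov275 {Γ X : Type*} [Group Γ] [MulAction Γ X] {T : Lst X J.n} {gen : ℕ → Γ} {A : Subgroup Γ} (h : J.Model T gen A) : Cov h.M (J.el gen) [L0, L1, L2] R [nat_lit 73872, nat_lit 87606] :=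
  cov_full (ctx h) n275

theorem cov274 {Γ X : Type*} [Group Γ] [MulAction Γ X] {T : Lst X J.n} {gen : ℕ → Γ} {A : Subgroup Γ} (h : J.Model T gen A) : Cov h.M (J.el gen) [L0, L1, L2] R [nat_lit 73872, nat_lit 87588] :=
  cov_full (ctx h) n274

theorem cov273 {Γ X : Type*} [Group Γ] [MulAction Γ X] {T : Lst X J.n} {gen : ℕ → Γ} {A : Subgroup Γ} (h : J.Model T gen A) : Cov h.M (J.el gen) [L0, L1, L2] R [nat_lit 73872, nat_lit 88686] :=
  cov_full (ctx h) n273

theorem cov272 {Γ X : Type*} [Group Γ] [MulAction Γ X] {T : Lst X J.n} {gen : ℕ → Γ} {A : Subgroup Γ} (h : J.Model T gen A) : Cov h.M (J.el gen) [L0, L1, L2] R [nat_lit 73872, nat_lit 87552] :=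
  cov_full (ctx h) n272

theorem cov271 {Γ X : Type*} [Group Γ] [MulAction Γ X] {T : Lst X J.n} {gen : ℕ → Γ} {A : Subgroup Γ} (h : J.Model T gen A) : Cov h.M (J.el gen) [L0, L1, L2] R [nat_lit 73872, nat_lit 87534] :=
  cov_full (ctx h) n271

theorem cov270 {Γ X : Type*} [Group Γ] [MulAction Γ X] {T : Lst X J.n} {gen : ℕ → Γ} {A : Subgroup Γ} (h : J.Model T gen A) : Cov h.M (J.el gen) [L0, L1, L2] R [nat_lit 73872, nat_lit 87516] :=
  cov_full (ctx h) n270

theorem cov269 {Γ X : Type*} [Group Γ] [MulAction Γ X] {T : Lst X J.n} {gen : ℕ → Γ} {A : Subgroup Γ} (h : J.Model T gen A) : Cov h.M (J.el gen) [L0, L1, L2] R [nat_lit 73872] :=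
  cov_red (ctx h) h.hAV n269 (forall_mem_cons' (cov270 h) (forall_mem_cons' (cov271 h) (forall_mem_cons' (cov272 h) (forall_mem_cons' (cov273 h) (forall_mem_cons' (cov274 h) (forall_mem_cons' (cov275 h) (forall_mem_cons' (cov276 h) (forall_mem_cons' (cov277 h) (forall_mem_cons' (cov278 h) (forall_mem_cons' (cov279 h) (forall_mem_cons' (cov280 h) (forall_mem_cons' (cov281 h) (forall_mem_cons' (cov282 h) (forall_mem_cons' (cov283 h) (forall_mem_cons' (cov284 h) (forall_mem_cons' (cov285 h) (forall_mem_cons' (cov286 h) (forall_mem_cons' (cov287 h) (forall_mem_cons' (cov288 h) (forall_mem_cons' (cov289 h) (forall_mem_cons' (cov290 h) (forall_mem_cons' (cov291 h) (forall_mem_cons' (cov292 h) (forall_mem_cons' (cov293 h) (forall_mem_cons' (cov294 h) (forall_mem_cons' (cov295 h) (forall_mem_cons' (cov296 h) (forall_mem_cons' (cov297 h) (forall_mem_cons' (cov298 h) (forall_mem_cons' (cov299 h) (forall_mem_cons' (cov300 h) (forall_mem_cons'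 (cov301 h) (forall_mem_cons' (cov302 h) (forall_mem_cons' (cov303 h) (forall_mem_cons' (cov304 h) (forall_mem_cons' (cov305 h) (forall_mem_cons' (cov306 h) (forall_mem_cons' (cov307 h) (forall_mem_cons' (cov308 h) (forall_mem_cons' (cov309 h) (forall_mem_cons' (cov310 h) (forall_mem_cons' (cov311 h) (forall_mem_cons' (cov312 h) (forall_mem_cons' (cov313 h) (forall_mem_cons' (cov314 h) (forall_mem_cons' (cov315 h) (forall_mem_cons' (cov316 h) (forall_mem_cons' (cov317 h) (forall_mem_cons' (cov318 h) (forall_mem_cons' (cov319 h) (forall_mem_cons' (cov320 h) (forall_mem_cons' (cov321 h) (forall_mem_cons' (cov322 h) (forall_mem_cons' (cov323 h) (forall_mem_cons' (cov324 h) (forall_mem_cons' (cov325 h) (forall_mem_cons' (cov326 h) (forall_mem_cons' (cov327 h) (forall_mem_cons' (cov328 h) (forall_mem_cons' (cov329 h) (forall_mem_cons' (cov330 h) (forall_mem_cons' (cov331 h) (forall_mem_cons' (cov332 h) (forall_mem_cons' (cov333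 h) (forall_mem_cons' (cov334 h) (forall_mem_cons' (cov335 h) (forall_mem_cons' (cov336 h) (forall_mem_cons' (cov337 h) (forall_mem_cons' (cov338 h) (forall_mem_cons' (cov339 h) (forall_mem_cons' (cov340 h) (forall_mem_cons' (cov341 h) (forall_mem_cons' (cov342 h) (forall_mem_cons' (cov343 h) (forall_mem_cons' (cov344 h) (forall_mem_cons' (cov345 h) (forall_mem_cons' (cov346 h) (forall_mem_cons' (cov347 h) (forall_mem_cons' (cov348 h) (forall_mem_cons' (cov349 h) (forall_mem_cons' (cov350 h) (forall_mem_cons' (cov351 h) (forall_mem_cons' (cov352 h) (forall_mem_cons' (cov353 h) (forall_mem_cons' (cov354 h) (forall_mem_cons' (cov355 h) (forall_mem_cons' (cov356 h) (forall_mem_cons' (cov357 h) (forall_mem_cons' (cov358 h) (forall_mem_cons' (cov359 h) (forall_mem_cons' (cov360 h) (forall_mem_cons' (cov361 h) (forall_mem_cons' (cov362 h) (forall_mem_cons' (cov363 h) (forall_mem_cons' (cov364 h) (forall_mem_cons' (cov365 h) (forall_mem_cons'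 (cov366 h) (forall_mem_cons' (cov367 h) (forall_mem_cons' (cov368 h) (forall_mem_cons' (cov369 h) (forall_mem_cons' (cov370 h) (forall_mem_cons' (cov371 h) (forall_mem_cons' (cov372 h) (forall_mem_cons' (cov373 h) (forall_mem_cons' (cov374 h) (forall_mem_cons' (cov375 h) (forall_mem_cons' (cov376 h) (forall_mem_cons' (cov377 h) (forall_mem_cons' (cov378 h) (forall_mem_cons' (cov379 h) (forall_mem_cons' (cov380 h) (forall_mem_cons' (cov381 h) (forall_mem_cons' (cov382 h) (forall_mem_cons' (cov383 h) (forall_mem_cons' (cov384 h) (forall_mem_cons' (cov385 h) (forall_mem_cons' (cov386 h) (forall_mem_cons' (cov387 h) (forall_mem_cons' (cov388 h) (forall_mem_cons' (cov389 h) (forall_mem_cons' (cov390 h) (forall_mem_cons' (cov391 h) (forall_mem_cons' (cov392 h) (forall_mem_cons' (cov393 h) (forall_mem_cons' (cov394 h) (forall_mem_cons' (cov395 h) (forall_mem_cons' (cov396 h) (forall_mem_cons' (cov397 h) (forall_mem_cons' (cov398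 h) (forall_mem_cons' (cov399 h) (forall_mem_cons' (cov400 h) (forall_mem_cons' (cov401 h) forall_mem_nil'))))))))))))))))))))))))))))))))))))))))))))))))))))))))))))))))))))))))))))))))))))))))))))))))))))))))))))))))))))))))))))))))))))

theorem cov268 {Γ X : Type*} [Group Γ] [MulAction Γ X] {T : Lst X J.n} {gen : ℕ → Γ} {A : Subgroup Γ} (h : J.Model T gen A) : Cov h.M (J.el gen) [L0, L1, L2] R [nat_lit 73782, nat_lit 138762] :=
  cov_full (ctx h) n268

theorem cov267 {Γ X : Type*} [Group Γ] [MulAction Γ X] {T : Lst X J.n} {gen : ℕ → Γ} {A : Subgroup Γ} (h : J.Model T gen A) : Cov h.M (J.el gen) [L0, L1, L2] R [nat_lit 73782, nat_lit 142704] :=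
  cov_full (ctx h) n267

theorem cov266 {Γ X : Type*} [Group Γ] [MulAction Γ X] {T : Lst X J.n} {gen : ℕ → Γ} {A : Subgroup Γ} (h : J.Model T gen A) : Cov h.M (J.el gen) [L0, L1, L2] R [nat_lit 73782, nat_lit 139302] :=
  cov_full (ctx h) n266

theorem cov265 {Γ X : Type*} [Group Γ] [MulAction Γ X] {T : Lst X J.n} {gen : ℕ → Γ} {A : Subgroup Γ} (h : J.Model T gen A) : Cov h.M (J.el gen) [L0, L1, L2] R [nat_lit 73782, nat_lit 140076] :=
  cov_full (ctx h) n265

theorem cov264 {Γ X : Type*} [Group Γ] [MulAction Γ X] {T : Lst X J.n} {gen : ℕ → Γ} {A : Subgroup Γ} (h : J.Model T gen A) : Cov h.M (J.el gen) [L0, L1, L2] R [nat_lit 73782, nat_lit 138690] :=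
  cov_full (ctx h) n264

theorem cov263 {Γ X : Type*} [Group Γ] [MulAction Γ X] {T : Lst X J.n} {gen : ℕ → Γ} {A : Subgroup Γ} (h : J.Model T gen A) : Cov h.M (J.el gen) [L0, L1, L2] R [nat_lit 73782, nat_lit 138672] :=
  cov_full (ctx h) n263

theorem cov262 {Γ X : Type*} [Group Γ] [MulAction Γ X] {T : Lst X J.n} {gen : ℕ → Γ} {A : Subgroup Γ} (h : J.Model T gen A) : Cov h.M (J.el gen) [L0, L1, L2] R [nat_lit 73782, nat_lit 140166] :=
  cov_full (ctx h) n262

theorem cov261 {Γ X : Type*} [Group Γ] [MulAction Γ X] {T : Lst X J.n} {gen : ℕ → Γ} {A : Subgroup Γ} (h : J.Model T gen A) : Cov h.M (J.el gen) [L0, L1, L2] R [nat_lit 73782, nat_lit 140148] :=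
  cov_full (ctx h) n261

theorem cov260 {Γ X : Type*} [Group Γ] [MulAction Γ X] {T : Lst X J.n} {gen : ℕ → Γ} {A : Subgroup Γ} (h : J.Model T gen A) : Cov h.M (J.el gen) [L0, L1, L2] R [nat_lit 73782, nat_lit 139482] :=
  cov_full (ctx h) n260

theorem cov259 {Γ X : Type*} [Group Γ] [MulAction Γ X] {T : Lst X J.n} {gen : ℕ → Γ} {A : Subgroup Γ} (h : J.Model T gen A) : Cov h.M (J.el gen) [L0, L1, L2] R [nat_lit 73782, nat_lit 138600] :=
  cov_full (ctx h) n259

theorem cov258 {Γ X : Type*} [Group Γ] [MulAction Γ X] {T : Lst X J.n} {gen : ℕ → Γ} {A : Subgroup Γ} (h : J.Model T gen A) : Cov h.M (J.el gen) [L0, L1, L2] R [nat_lit 73782, nat_lit 139806] :=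
  cov_full (ctx h) n258

theorem cov257 {Γ X : Type*} [Group Γ] [MulAction Γ X] {T : Lst X J.n} {gen : ℕ → Γ} {A : Subgroup Γ} (h : J.Model T gen A) : Cov h.M (J.el gen) [L0, L1, L2] R [nat_lit 73782, nat_lit 138564] :=
  cov_full (ctx h) n257

theorem cov256 {Γ X : Type*} [Group Γ] [MulAction Γ X] {T : Lst X J.n} {gen : ℕ → Γ} {A : Subgroup Γ} (h : J.Model T gen A) : Cov h.M (J.el gen) [L0, L1, L2] R [nat_lit 73782, nat_lit 140562] :=
  cov_full (ctx h) n256

theorem cov255 {Γ X : Type*} [Group Γ] [MulAction Γ X] {T : Lst X J.n} {gen : ℕ → Γ} {A : Subgroup Γ} (h : J.Model T gen A) : Cov h.M (J.el gen) [L0, L1, L2] R [nat_lit 73782, nat_lit 140040] :=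
  cov_full (ctx h) n255

theorem cov254 {Γ X : Type*} [Group Γ] [MulAction Γ X] {T : Lst X J.n} {gen : ℕ → Γ} {A : Subgroup Γ} (h : J.Model T gen A) : Cov h.M (J.el gen) [L0, L1, L2] R [nat_lit 73782, nat_lit 139374] :=
  cov_full (ctx h) n254

theorem cov253 {Γ X : Type*} [Group Γ] [MulAction Γ X] {T : Lst X J.n} {gen : ℕ → Γ} {A : Subgroup Γ} (h : J.Model T gen A) : Cov h.M (J.el gen) [L0, L1, L2] R [nat_lit 73782, nat_lit 139356] :=
  cov_full (ctx h) n253

theorem cov252 {Γ X : Type*} [Group Γ] [MulAction Γ X] {T : Lst X J.n} {gen : ℕ → Γ} {A : Subgroup Γ} (h : J.Model T gen A) : Cov h.M (J.el gen) [L0, L1, L2] R [nat_lit 73782, nat_lit 138474] :=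
  cov_full (ctx h) n252

theorem cov251 {Γ X : Type*} [Group Γ] [MulAction Γ X] {T : Lst X J.n} {gen : ℕ → Γ} {A : Subgroup Γ} (h : J.Model T gen A) : Cov h.M (J.el gen) [L0, L1, L2] R [nat_lit 73782, nat_lit 138456] :=
  cov_full (ctx h) n251

theorem cov250 {Γ X : Type*} [Group Γ] [MulAction Γ X] {T : Lst X J.n} {gen : ℕ → Γ} {A : Subgroup Γ} (h : J.Model T gen A) : Cov h.M (J.el gen) [L0, L1, L2] R [nat_lit 73782, nat_lit 138438] :=
  cov_full (ctx h) n250

theorem cov249 {Γ X : Type*} [Group Γ] [MulAction Γ X] {T : Lst X J.n} {gen : ℕ → Γ} {A : Subgroup Γ} (h : J.Model T gen A) : Cov h.M (J.el gen) [L0, L1, L2] R [nat_lit 73782, nat_lit 138420] :=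
  cov_full (ctx h) n249

theorem cov248 {Γ X : Type*} [Group Γ] [MulAction Γ X] {T : Lst X J.n} {gen : ℕ → Γ} {A : Subgroup Γ} (h : J.Model T gen A) : Cov h.M (J.el gen) [L0, L1, L2] R [nat_lit 73782, nat_lit 140274] :=
  cov_full (ctx h) n248

theorem cov247 {Γ X : Type*} [Group Γ] [MulAction Γ X] {T : Lst X J.n} {gen : ℕ → Γ} {A : Subgroup Γ} (h : J.Model T gen A) : Cov h.M (J.el gen) [L0, L1, L2] R [nat_lit 73782, nat_lit 141120] :=
  cov_full (ctx h) n247

theorem cov246 {Γ X : Type*} [Group Γ] [MulAction Γ X] {T : Lst X J.n} {gen : ℕ → Γ} {A : Subgroup Γ} (h : J.Model T gen A) : Cov h.M (J.el gen) [L0, L1, L2] R [nat_lit 73782, nat_lit 140238] :=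
  cov_full (ctx h) n246

theorem cov245 {Γ X : Type*} [Group Γ] [MulAction Γ X] {T : Lst X J.n} {gen : ℕ → Γ} {A : Subgroup Γ} (h : J.Model T gen A) : Cov h.M (J.el gen) [L0, L1, L2] R [nat_lit 73782, nat_lit 138348] :=
  cov_full (ctx h) n245

theorem cov244 {Γ X : Type*} [Group Γ] [MulAction Γ X] {T : Lst X J.n} {gen : ℕ → Γ} {A : Subgroup Γ} (h : J.Model T gen A) : Cov h.M (J.el gen) [L0, L1, L2] R [nat_lit 73782, nat_lit 138330] :=
  cov_full (ctx h) n244

theorem cov243 {Γ X : Type*} [Group Γ] [MulAction Γ X] {T : Lst X J.n} {gen : ℕ → Γ} {A : Subgroup Γ} (h : J.Model T gen A) : Cov h.M (J.el gen) [L0, L1, L2] R [nat_lit 73782, nat_lit 138312] :=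
  cov_full (ctx h) n243

theorem cov242 {Γ X : Type*} [Group Γ] [MulAction Γ X] {T : Lst X J.n} {gen : ℕ → Γ} {A : Subgroup Γ} (h : J.Model T gen A) : Cov h.M (J.el gen) [L0, L1, L2] R [nat_lit 73782, nat_lit 138294] :=
  cov_full (ctx h) n242

theorem cov241 {Γ X : Type*} [Group Γ] [MulAction Γ X] {T : Lst X J.n} {gen : ℕ → Γ} {A : Subgroup Γ} (h : J.Model T gen A) : Cov h.M (J.el gen) [L0, L1, L2] R [nat_lit 73782, nat_lit 142164] :=
  cov_full (ctx h) n241

theorem cov240 {Γ X : Type*} [Group Γ] [MulAction Γ X] {T : Lst X J.n} {gen : ℕ → Γ} {A : Subgroup Γ} (h : J.Model T gen A) : Cov h.M (J.el gen) [L0, L1, L2] R [nat_lit 73782, nat_lit 142146] :=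
  cov_full (ctx h) n240

theorem cov239 {Γ X : Type*} [Group Γ] [MulAction Γ X] {T : Lst X J.n} {gen : ℕ → Γ} {A : Subgroup Γ} (h : J.Model T gen A) : Cov h.M (J.el gen) [L0, L1, L2] R [nat_lit 73782, nat_lit 140400] :=
  cov_full (ctx h) n239

theorem cov238 {Γ X : Type*} [Group Γ] [MulAction Γ X] {T : Lst X J.n} {gen : ℕ → Γ} {A : Subgroup Γ} (h : J.Model T gen A) : Cov h.M (J.el gen) [L0, L1, L2] R [nat_lit 73782, nat_lit 141246] :=
  cov_full (ctx h) n238

theorem cov237 {Γ X : Type*} [Group Γ] [MulAction Γ X] {T : Lst X J.n} {gen : ℕ → Γ} {A : Subgroup Γ} (h : J.Model T gen A) : Cov h.M (J.el gen) [L0, L1, L2] R [nat_lit 73782, nat_lit 138204] :=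
  cov_full (ctx h) n237

theorem cov236 {Γ X : Type*} [Group Γ] [MulAction Γ X] {T : Lst X J.n} {gen : ℕ → Γ} {A : Subgroup Γ} (h : J.Model T gen A) : Cov h.M (J.el gen) [L0, L1, L2] R [nat_lit 73782, nat_lit 124938] :=
  cov_full (ctx h) n236

theorem cov235 {Γ X : Type*} [Group Γ] [MulAction Γ X] {T : Lst X J.n} {gen : ℕ → Γ} {A : Subgroup Γ} (h : J.Model T gen A) : Cov h.M (J.el gen) [L0, L1, L2] R [nat_lit 73782, nat_lit 125208] :=
  cov_full (ctx h) n235

theorem cov234 {Γ X : Type*} [Group Γ] [MulAction Γ X] {T : Lst X J.n} {gen : ℕ → Γ} {A : Subgroup Γ} (h : J.Model T gen A) : Cov h.M (J.el gen) [L0, L1, L2] R [nat_lit 73782, nat_lit 125910] :=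
  cov_full (ctx h) n234

theorem cov233 {Γ X : Type*} [Group Γ] [MulAction Γ X] {T : Lst X J.n} {gen : ℕ → Γ} {A : Subgroup Γ} (h : J.Model T gen A) : Cov h.M (J.el gen) [L0, L1, L2] R [nat_lit 73782, nat_lit 126540] :=
  cov_full (ctx h) n233

theorem cov232 {Γ X : Type*} [Group Γ] [MulAction Γ X] {T : Lst X J.n} {gen : ℕ → Γ} {A : Subgroup Γ} (h : J.Model T gen A) : Cov h.M (J.el gen) [L0, L1, L2] R [nat_lit 73782, nat_lit 128034] :=
  cov_full (ctx h) n232

theorem cov231 {Γ X : Type*} [Group Γ] [MulAction Γ X] {T : Lst X J.n} {gen : ℕ → Γ} {A : Subgroup Γ} (h : J.Model T gen A) : Cov h.M (J.el gen) [L0, L1, L2] R [nat_lit 73782, nat_lit 125136] :=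
  cov_full (ctx h) n231

theorem cov230 {Γ X : Type*} [Group Γ] [MulAction Γ X] {T : Lst X J.n} {gen : ℕ → Γ} {A : Subgroup Γ} (h : J.Model T gen A) : Cov h.M (J.el gen) [L0, L1, L2] R [nat_lit 73782, nat_lit 124830] :=
  cov_full (ctx h) n230

theorem cov229 {Γ X : Type*} [Group Γ] [MulAction Γ X] {T : Lst X J.n} {gen : ℕ → Γ} {A : Subgroup Γ} (h : J.Model T gen A) : Cov h.M (J.el gen) [L0, L1, L2] R [nat_lit 73782, nat_lit 127476] :=
  cov_full (ctx h) n229

theorem cov228 {Γ X : Type*} [Group Γ] [MulAction Γ X] {T : Lst X J.n} {gen : ℕ → Γ} {A : Subgroup Γ} (h : J.Model T gen A) : Cov h.M (J.el gen) [L0, L1, L2] R [nat_lit 73782, nat_lit 128178] :=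
  cov_full (ctx h) n228

theorem cov227 {Γ X : Type*} [Group Γ] [MulAction Γ X] {T : Lst X J.n} {gen : ℕ → Γ} {A : Subgroup Γ} (h : J.Model T gen A) : Cov h.M (J.el gen) [L0, L1, L2] R [nat_lit 73782, nat_lit 125064] :=
  cov_full (ctx h) n227

theorem cov226 {Γ X : Type*} [Group Γ] [MulAction Γ X] {T : Lst X J.n} {gen : ℕ → Γ} {A : Subgroup Γ} (h : J.Model T gen A) : Cov h.M (J.el gen) [L0, L1, L2] R [nat_lit 73782, nat_lit 125622] :=
  cov_full (ctx h) n226

theorem cov225 {Γ X : Type*} [Group Γ] [MulAction Γ X] {T : Lst X J.n} {gen : ℕ → Γ} {A : Subgroup Γ} (h : J.Model T gen A) : Cov h.M (J.el gen) [L0, L1, L2] R [nat_lit 73782, nat_lit 124740] :=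
  cov_full (ctx h) n225

theorem cov224 {Γ X : Type*} [Group Γ] [MulAction Γ X] {T : Lst X J.n} {gen : ℕ → Γ} {A : Subgroup Γ} (h : J.Model T gen A) : Cov h.M (J.el gen) [L0, L1, L2] R [nat_lit 73782, nat_lit 124722] :=
  cov_full (ctx h) n224

theorem cov223 {Γ X : Type*} [Group Γ] [MulAction Γ X] {T : Lst X J.n} {gen : ℕ → Γ} {A : Subgroup Γ} (h : J.Model T gen A) : Cov h.M (J.el gen) [L0, L1, L2] R [nat_lit 73782, nat_lit 124704] :=
  cov_full (ctx h) n223

theorem cov222 {Γ X : Type*} [Group Γ] [MulAction Γ X] {T : Lst X J.n} {gen : ℕ → Γ} {A : Subgroup Γ} (h : J.Model T gen A) : Cov h.M (J.el gen) [L0, L1, L2] R [nat_lit 73782, nat_lit 126702] :=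
  cov_full (ctx h) n222

theorem cov221 {Γ X : Type*} [Group Γ] [MulAction Γ X] {T : Lst X J.n} {gen : ℕ → Γ} {A : Subgroup Γ} (h : J.Model T gen A) : Cov h.M (J.el gen) [L0, L1, L2] R [nat_lit 73782, nat_lit 125964] :=
  cov_full (ctx h) n221

theorem cov220 {Γ X : Type*} [Group Γ] [MulAction Γ X] {T : Lst X J.n} {gen : ℕ → Γ} {A : Subgroup Γ} (h : J.Model T gen A) : Cov h.M (J.el gen) [L0, L1, L2] R [nat_lit 73782, nat_lit 124650] :=
  cov_full (ctx h) n220

theorem cov219 {Γ X : Type*} [Group Γ] [MulAction Γ X] {T : Lst X J.n} {gen : ℕ → Γ} {A : Subgroup Γ} (h : J.Model T gen A) : Cov h.M (J.el gen) [L0, L1, L2] R [nat_lit 73782, nat_lit 126144] :=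
  cov_full (ctx h) n219

theorem cov218 {Γ X : Type*} [Group Γ] [MulAction Γ X] {T : Lst X J.n} {gen : ℕ → Γ} {A : Subgroup Γ} (h : J.Model T gen A) : Cov h.M (J.el gen) [L0, L1, L2] R [nat_lit 73782, nat_lit 124614] :=
  cov_full (ctx h) n218

theorem cov217 {Γ X : Type*} [Group Γ] [MulAction Γ X] {T : Lst X J.n} {gen : ℕ → Γ} {A : Subgroup Γ} (h : J.Model T gen A) : Cov h.M (J.el gen) [L0, L1, L2] R [nat_lit 73782, nat_lit 124596] :=
  cov_full (ctx h) n217

theorem cov216 {Γ X : Type*} [Group Γ] [MulAction Γ X] {T : Lst X J.n} {gen : ℕ → Γ} {A : Subgroup Γ} (h : J.Model T gen A) : Cov h.M (J.el gen) [L0, L1, L2] R [nat_lit 73782, nat_lit 124578] :=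
  cov_full (ctx h) n216

theorem cov215 {Γ X : Type*} [Group Γ] [MulAction Γ X] {T : Lst X J.n} {gen : ℕ → Γ} {A : Subgroup Γ} (h : J.Model T gen A) : Cov h.M (J.el gen) [L0, L1, L2] R [nat_lit 73782, nat_lit 128808] :=
  cov_full (ctx h) n215

theorem cov214 {Γ X : Type*} [Group Γ] [MulAction Γ X] {T : Lst X J.n} {gen : ℕ → Γ} {A : Subgroup Γ} (h : J.Model T gen A) : Cov h.M (J.el gen) [L0, L1, L2] R [nat_lit 73782, nat_lit 124542] :=
  cov_full (ctx h) n214

theorem cov213 {Γ X : Type*} [Group Γ] [MulAction Γ X] {T : Lst X J.n} {gen : ℕ → Γ} {A : Subgroup Γ} (h : J.Model T gen A) : Cov h.M (J.el gen) [L0, L1, L2] R [nat_lit 73782, nat_lit 127044] :=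
  cov_full (ctx h) n213

theorem cov212 {Γ X : Type*} [Group Γ] [MulAction Γ X] {T : Lst X J.n} {gen : ℕ → Γ} {A : Subgroup Γ} (h : J.Model T gen A) : Cov h.M (J.el gen) [L0, L1, L2] R [nat_lit 73782, nat_lit 124506] :=
  cov_full (ctx h) n212

theorem cov211 {Γ X : Type*} [Group Γ] [MulAction Γ X] {T : Lst X J.n} {gen : ℕ → Γ} {A : Subgroup Γ} (h : J.Model T gen A) : Cov h.M (J.el gen) [L0, L1, L2] R [nat_lit 73782, nat_lit 124488] :=
  cov_full (ctx h) n211

theorem cov210 {Γ X : Type*} [Group Γ] [MulAction Γ X] {T : Lst X J.n} {gen : ℕ → Γ} {A : Subgroup Γ} (h : J.Model T gen A) : Cov h.M (J.el gen) [L0, L1, L2] R [nat_lit 73782, nat_lit 124470] :=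
  cov_full (ctx h) n210

theorem cov209 {Γ X : Type*} [Group Γ] [MulAction Γ X] {T : Lst X J.n} {gen : ℕ → Γ} {A : Subgroup Γ} (h : J.Model T gen A) : Cov h.M (J.el gen) [L0, L1, L2] R [nat_lit 73782, nat_lit 126252] :=
  cov_full (ctx h) n209

theorem cov208 {Γ X : Type*} [Group Γ] [MulAction Γ X] {T : Lst X J.n} {gen : ℕ → Γ} {A : Subgroup Γ} (h : J.Model T gen A) : Cov h.M (J.el gen) [L0, L1, L2] R [nat_lit 73782, nat_lit 124434] :=
  cov_full (ctx h) n208

theorem cov207 {Γ X : Type*} [Group Γ] [MulAction Γ X] {T : Lst X J.n} {gen : ℕ → Γ} {A : Subgroup Γ} (h : J.Model T gen A) : Cov h.M (J.el gen) [L0, L1, L2] R [nat_lit 73782, nat_lit 126360] :=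
  cov_full (ctx h) n207

theorem cov206 {Γ X : Type*} [Group Γ] [MulAction Γ X] {T : Lst X J.n} {gen : ℕ → Γ} {A : Subgroup Γ} (h : J.Model T gen A) : Cov h.M (J.el gen) [L0, L1, L2] R [nat_lit 73782, nat_lit 124398] :=
  cov_full (ctx h) n206

theorem cov205 {Γ X : Type*} [Group Γ] [MulAction Γ X] {T : Lst X J.n} {gen : ℕ → Γ} {A : Subgroup Γ} (h : J.Model T gen A) : Cov h.M (J.el gen) [L0, L1, L2] R [nat_lit 73782, nat_lit 124380] :=
  cov_full (ctx h) n205

theorem cov204 {Γ X : Type*} [Group Γ] [MulAction Γ X] {T : Lst X J.n} {gen : ℕ → Γ} {A : Subgroup Γ} (h : J.Model T gen A) : Cov h.M (J.el gen) [L0, L1, L2] R [nat_lit 73782, nat_lit 96084] :=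
  cov_full (ctx h) n204

theorem cov203 {Γ X : Type*} [Group Γ] [MulAction Γ X] {T : Lst X J.n} {gen : ℕ → Γ} {A : Subgroup Γ} (h : J.Model T gen A) : Cov h.M (J.el gen) [L0, L1, L2] R [nat_lit 73782, nat_lit 94212] :=
  cov_full (ctx h) n203

theorem cov202 {Γ X : Type*} [Group Γ] [MulAction Γ X] {T : Lst X J.n} {gen : ℕ → Γ} {A : Subgroup Γ} (h : J.Model T gen A) : Cov h.M (J.el gen) [L0, L1, L2] R [nat_lit 73782, nat_lit 96012] :=
  cov_full (ctx h) n202

theorem cov201 {Γ X : Type*} [Group Γ] [MulAction Γ X] {T : Lst X J.n} {gen : ℕ → Γ} {A : Subgroup Γ} (h : J.Model T gen A) : Cov h.M (J.el gen) [L0, L1, L2] R [nat_lit 73782, nat_lit 94140] :=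
  cov_full (ctx h) n201

theorem cov200 {Γ X : Type*} [Group Γ] [MulAction Γ X] {T : Lst X J.n} {gen : ℕ → Γ} {A : Subgroup Γ} (h : J.Model T gen A) : Cov h.M (J.el gen) [L0, L1, L2] R [nat_lit 73782, nat_lit 93978] :=
  cov_full (ctx h) n200

theorem cov199 {Γ X : Type*} [Group Γ] [MulAction Γ X] {T : Lst X J.n} {gen : ℕ → Γ} {A : Subgroup Γ} (h : J.Model T gen A) : Cov h.M (J.el gen) [L0, L1, L2] R [nat_lit 73782, nat_lit 93960] :=
  cov_full (ctx h) n199

theorem cov198 {Γ X : Type*} [Group Γ] [MulAction Γ X] {T : Lst X J.n} {gen : ℕ → Γ} {A : Subgroup Γ} (h : J.Model T gen A) : Cov h.M (J.el gen) [L0, L1, L2] R [nat_lit 73782, nat_lit 93870] :=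
  cov_full (ctx h) n198

theorem cov197 {Γ X : Type*} [Group Γ] [MulAction Γ X] {T : Lst X J.n} {gen : ℕ → Γ} {A : Subgroup Γ} (h : J.Model T gen A) : Cov h.M (J.el gen) [L0, L1, L2] R [nat_lit 73782, nat_lit 94086] :=
  cov_full (ctx h) n197

theorem cov196 {Γ X : Type*} [Group Γ] [MulAction Γ X] {T : Lst X J.n} {gen : ℕ → Γ} {A : Subgroup Γ} (h : J.Model T gen A) : Cov h.M (J.el gen) [L0, L1, L2] R [nat_lit 73782, nat_lit 93744] :=
  cov_full (ctx h) n196

theorem cov195 {Γ X : Type*} [Group Γ] [MulAction Γ X] {T : Lst X J.n} {gen : ℕ → Γ} {A : Subgroup Γ} (h : J.Model T gen A) : Cov h.M (J.el gen) [L0, L1, L2] R [nat_lit 73782, nat_lit 96354] :=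
  cov_full (ctx h) n195

theorem cov194 {Γ X : Type*} [Group Γ] [MulAction Γ X] {T : Lst X J.n} {gen : ℕ → Γ} {A : Subgroup Γ} (h : J.Model T gen A) : Cov h.M (J.el gen) [L0, L1, L2] R [nat_lit 73782, nat_lit 93600] :=
  cov_full (ctx h) n194

theorem cov193 {Γ X : Type*} [Group Γ] [MulAction Γ X] {T : Lst X J.n} {gen : ℕ → Γ} {A : Subgroup Γ} (h : J.Model T gen A) : Cov h.M (J.el gen) [L0, L1, L2] R [nat_lit 73782, nat_lit 95328] :=
  cov_full (ctx h) n193

theorem cov192 {Γ X : Type*} [Group Γ] [MulAction Γ X] {T : Lst X J.n} {gen : ℕ → Γ} {A : Subgroup Γ} (h : J.Model T gen A) : Cov h.M (J.el gen) [L0, L1, L2] R [nat_lit 73782, nat_lit 94554] :=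
  cov_full (ctx h) n192

theorem cov191 {Γ X : Type*} [Group Γ] [MulAction Γ X] {T : Lst X J.n} {gen : ℕ → Γ} {A : Subgroup Γ} (h : J.Model T gen A) : Cov h.M (J.el gen) [L0, L1, L2] R [nat_lit 73782, nat_lit 93312] :=
  cov_full (ctx h) n191

theorem cov190 {Γ X : Type*} [Group Γ] [MulAction Γ X] {T : Lst X J.n} {gen : ℕ → Γ} {A : Subgroup Γ} (h : J.Model T gen A) : Cov h.M (J.el gen) [L0, L1, L2] R [nat_lit 73782, nat_lit 94662] :=
  cov_full (ctx h) n190

theorem cov189 {Γ X : Type*} [Group Γ] [MulAction Γ X] {T : Lst X J.n} {gen : ℕ → Γ} {A : Subgroup Γ} (h : J.Model T gen A) : Cov h.M (J.el gen) [L0, L1, L2] R [nat_lit 73782, nat_lit 93276] :=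
  cov_full (ctx h) n189

theorem cov188 {Γ X : Type*} [Group Γ] [MulAction Γ X] {T : Lst X J.n} {gen : ℕ → Γ} {A : Subgroup Γ} (h : J.Model T gen A) : Cov h.M (J.el gen) [L0, L1, L2] R [nat_lit 73782, nat_lit 92682] :=
  cov_full (ctx h) n188

theorem cov187 {Γ X : Type*} [Group Γ] [MulAction Γ X] {T : Lst X J.n} {gen : ℕ → Γ} {A : Subgroup Γ} (h : J.Model T gen A) : Cov h.M (J.el gen) [L0, L1, L2] R [nat_lit 73782, nat_lit 92592] :=
  cov_full (ctx h) n187

theorem cov186 {Γ X : Type*} [Group Γ] [MulAction Γ X] {T : Lst X J.n} {gen : ℕ → Γ} {A : Subgroup Γ} (h : J.Model T gen A) : Cov h.M (J.el gen) [L0, L1, L2] R [nat_lit 73782, nat_lit 92430] :=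
  cov_full (ctx h) n186

theorem cov185 {Γ X : Type*} [Group Γ] [MulAction Γ X] {T : Lst X J.n} {gen : ℕ → Γ} {A : Subgroup Γ} (h : J.Model T gen A) : Cov h.M (J.el gen) [L0, L1, L2] R [nat_lit 73782, nat_lit 92412] :=
  cov_full (ctx h) n185

theorem cov184 {Γ X : Type*} [Group Γ] [MulAction Γ X] {T : Lst X J.n} {gen : ℕ → Γ} {A : Subgroup Γ} (h : J.Model T gen A) : Cov h.M (J.el gen) [L0, L1, L2] R [nat_lit 73782, nat_lit 92394] :=
  cov_full (ctx h) n184

theorem cov183 {Γ X : Type*} [Group Γ] [MulAction Γ X] {T : Lst X J.n} {gen : ℕ → Γ} {A : Subgroup Γ} (h : J.Model T gen A) : Cov h.M (J.el gen) [L0, L1, L2] R [nat_lit 73782, nat_lit 92376] :=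
  cov_full (ctx h) n183

theorem cov182 {Γ X : Type*} [Group Γ] [MulAction Γ X] {T : Lst X J.n} {gen : ℕ → Γ} {A : Subgroup Γ} (h : J.Model T gen A) : Cov h.M (J.el gen) [L0, L1, L2] R [nat_lit 73782, nat_lit 92358] :=
  cov_full (ctx h) n182

theorem cov181 {Γ X : Type*} [Group Γ] [MulAction Γ X] {T : Lst X J.n} {gen : ℕ → Γ} {A : Subgroup Γ} (h : J.Model T gen A) : Cov h.M (J.el gen) [L0, L1, L2] R [nat_lit 73782, nat_lit 92340] :=
  cov_full (ctx h) n181

theorem cov180 {Γ X : Type*} [Group Γ] [MulAction Γ X] {T : Lst X J.n} {gen : ℕ → Γ} {A : Subgroup Γ} (h : J.Model T gen A) : Cov h.M (J.el gen) [L0, L1, L2] R [nat_lit 73782, nat_lit 92322] :=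
  cov_full (ctx h) n180

theorem cov179 {Γ X : Type*} [Group Γ] [MulAction Γ X] {T : Lst X J.n} {gen : ℕ → Γ} {A : Subgroup Γ} (h : J.Model T gen A) : Cov h.M (J.el gen) [L0, L1, L2] R [nat_lit 73782, nat_lit 92304] :=
  cov_full (ctx h) n179

theorem cov178 {Γ X : Type*} [Group Γ] [MulAction Γ X] {T : Lst X J.n} {gen : ℕ → Γ} {A : Subgroup Γ} (h : J.Model T gen A) : Cov h.M (J.el gen) [L0, L1, L2] R [nat_lit 73782, nat_lit 92286] :=
  cov_full (ctx h) n178

theorem cov177 {Γ X : Type*} [Group Γ] [MulAction Γ X] {T : Lst X J.n} {gen : ℕ → Γ} {A : Subgroup Γ} (h : J.Model T gen A) : Cov h.M (J.el gen) [L0, L1, L2] R [nat_lit 73782, nat_lit 92268] :=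
  cov_full (ctx h) n177

theorem cov176 {Γ X : Type*} [Group Γ] [MulAction Γ X] {T : Lst X J.n} {gen : ℕ → Γ} {A : Subgroup Γ} (h : J.Model T gen A) : Cov h.M (J.el gen) [L0, L1, L2] R [nat_lit 73782, nat_lit 92250] :=
  cov_full (ctx h) n176

theorem cov175 {Γ X : Type*} [Group Γ] [MulAction Γ X] {T : Lst X J.n} {gen : ℕ → Γ} {A : Subgroup Γ} (h : J.Model T gen A) : Cov h.M (J.el gen) [L0, L1, L2] R [nat_lit 73782, nat_lit 92232] :=
  cov_full (ctx h) n175

theorem cov174 {Γ X : Type*} [Group Γ] [MulAction Γ X] {T : Lst X J.n} {gen : ℕ → Γ} {A : Subgroup Γ} (h : J.Model T gen A) : Cov h.M (J.el gen) [L0, L1, L2] R [nat_lit 73782, nat_lit 92214] :=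
  cov_full (ctx h) n174

theorem cov173 {Γ X : Type*} [Group Γ] [MulAction Γ X] {T : Lst X J.n} {gen : ℕ → Γ} {A : Subgroup Γ} (h : J.Model T gen A) : Cov h.M (J.el gen) [L0, L1, L2] R [nat_lit 73782, nat_lit 92196] :=
  cov_full (ctx h) n173

theorem cov172 {Γ X : Type*} [Group Γ] [MulAction Γ X] {T : Lst X J.n} {gen : ℕ → Γ} {A : Subgroup Γ} (h : J.Model T gen A) : Cov h.M (J.el gen) [L0, L1, L2] R [nat_lit 73782, nat_lit 92178] :=
  cov_full (ctx h) n172

theorem cov171 {Γ X : Type*} [Group Γ] [MulAction Γ X] {T : Lst X J.n} {gen : ℕ → Γ} {A : Subgroup Γ} (h : J.Model T gen A) : Cov h.M (J.el gen) [L0, L1, L2] R [nat_lit 73782, nat_lit 92160] :=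
  cov_full (ctx h) n171

theorem cov170 {Γ X : Type*} [Group Γ] [MulAction Γ X] {T : Lst X J.n} {gen : ℕ → Γ} {A : Subgroup Γ} (h : J.Model T gen A) : Cov h.M (J.el gen) [L0, L1, L2] R [nat_lit 73782, nat_lit 92142] :=
  cov_full (ctx h) n170

theorem cov169 {Γ X : Type*} [Group Γ] [MulAction Γ X] {T : Lst X J.n} {gen : ℕ → Γ} {A : Subgroup Γ} (h : J.Model T gen A) : Cov h.M (J.el gen) [L0, L1, L2] R [nat_lit 73782, nat_lit 92124] :=
  cov_full (ctx h) n169

theorem cov168 {Γ X : Type*} [Group Γ] [MulAction Γ X] {T : Lst X J.n} {gen : ℕ → Γ} {A : Subgroup Γ} (h : J.Model T gen A) : Cov h.M (J.el gen) [L0, L1, L2] R [nat_lit 73782, nat_lit 79110] :=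
  cov_full (ctx h) n168

theorem cov167 {Γ X : Type*} [Group Γ] [MulAction Γ X] {T : Lst X J.n} {gen : ℕ → Γ} {A : Subgroup Γ} (h : J.Model T gen A) : Cov h.M (J.el gen) [L0, L1, L2] R [nat_lit 73782, nat_lit 78840] :=
  cov_full (ctx h) n167

theorem cov166 {Γ X : Type*} [Group Γ] [MulAction Γ X] {T : Lst X J.n} {gen : ℕ → Γ} {A : Subgroup Γ} (h : J.Model T gen A) : Cov h.M (J.el gen) [L0, L1, L2] R [nat_lit 73782, nat_lit 78822] :=
  cov_full (ctx h) n166

theorem cov165 {Γ X : Type*} [Group Γ] [MulAction Γ X] {T : Lst X J.n} {gen : ℕ → Γ} {A : Subgroup Γ} (h : J.Model T gen A) : Cov h.M (J.el gen) [L0, L1, L2] R [nat_lit 73782, nat_lit 79380] :=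
  cov_full (ctx h) n165

theorem cov164 {Γ X : Type*} [Group Γ] [MulAction Γ X] {T : Lst X J.n} {gen : ℕ → Γ} {A : Subgroup Γ} (h : J.Model T gen A) : Cov h.M (J.el gen) [L0, L1, L2] R [nat_lit 73782, nat_lit 81324] :=
  cov_full (ctx h) n164

theorem cov163 {Γ X : Type*} [Group Γ] [MulAction Γ X] {T : Lst X J.n} {gen : ℕ → Γ} {A : Subgroup Γ} (h : J.Model T gen A) : Cov h.M (J.el gen) [L0, L1, L2] R [nat_lit 73782, nat_lit 79326] :=
  cov_full (ctx h) n163

theorem cov162 {Γ X : Type*} [Group Γ] [MulAction Γ X] {T : Lst X J.n} {gen : ℕ → Γ} {A : Subgroup Γ} (h : J.Model T gen A) : Cov h.M (J.el gen) [L0, L1, L2] R [nat_lit 73782, nat_lit 81612] :=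
  cov_full (ctx h) n162

theorem cov161 {Γ X : Type*} [Group Γ] [MulAction Γ X] {T : Lst X J.n} {gen : ℕ → Γ} {A : Subgroup Γ} (h : J.Model T gen A) : Cov h.M (J.el gen) [L0, L1, L2] R [nat_lit 73782, nat_lit 79308] :=
  cov_full (ctx h) n161

theorem cov160 {Γ X : Type*} [Group Γ] [MulAction Γ X] {T : Lst X J.n} {gen : ℕ → Γ} {A : Subgroup Γ} (h : J.Model T gen A) : Cov h.M (J.el gen) [L0, L1, L2] R [nat_lit 73782, nat_lit 80118] :=
  cov_full (ctx h) n160

theorem cov159 {Γ X : Type*} [Group Γ] [MulAction Γ X] {T : Lst X J.n} {gen : ℕ → Γ} {A : Subgroup Γ} (h : J.Model T gen A) : Cov h.M (J.el gen) [L0, L1, L2] R [nat_lit 73782, nat_lit 78696] :=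
  cov_full (ctx h) n159

theorem cov158 {Γ X : Type*} [Group Γ] [MulAction Γ X] {T : Lst X J.n} {gen : ℕ → Γ} {A : Subgroup Γ} (h : J.Model T gen A) : Cov h.M (J.el gen) [L0, L1, L2] R [nat_lit 73782, nat_lit 78984] :=
  cov_full (ctx h) n158

theorem cov157 {Γ X : Type*} [Group Γ] [MulAction Γ X] {T : Lst X J.n} {gen : ℕ → Γ} {A : Subgroup Γ} (h : J.Model T gen A) : Cov h.M (J.el gen) [L0, L1, L2] R [nat_lit 73782, nat_lit 82458] :=
  cov_full (ctx h) n157

theorem cov156 {Γ X : Type*} [Group Γ] [MulAction Γ X] {T : Lst X J.n} {gen : ℕ → Γ} {A : Subgroup Γ} (h : J.Model T gen A) : Cov h.M (J.el gen) [L0, L1, L2] R [nat_lit 73782, nat_lit 81522] :=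
  cov_full (ctx h) n156

theorem cov155 {Γ X : Type*} [Group Γ] [MulAction Γ X] {T : Lst X J.n} {gen : ℕ → Γ} {A : Subgroup Γ} (h : J.Model T gen A) : Cov h.M (J.el gen) [L0, L1, L2] R [nat_lit 73782, nat_lit 80892] :=
  cov_full (ctx h) n155

theorem cov154 {Γ X : Type*} [Group Γ] [MulAction Γ X] {T : Lst X J.n} {gen : ℕ → Γ} {A : Subgroup Γ} (h : J.Model T gen A) : Cov h.M (J.el gen) [L0, L1, L2] R [nat_lit 73782, nat_lit 78606] :=
  cov_full (ctx h) n154

theorem cov153 {Γ X : Type*} [Group Γ] [MulAction Γ X] {T : Lst X J.n} {gen : ℕ → Γ} {A : Subgroup Γ} (h : J.Model T gen A) : Cov h.M (J.el gen) [L0, L1, L2] R [nat_lit 73782, nat_lit 78588] :=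
  cov_full (ctx h) n153

theorem cov152 {Γ X : Type*} [Group Γ] [MulAction Γ X] {T : Lst X J.n} {gen : ℕ → Γ} {A : Subgroup Γ} (h : J.Model T gen A) : Cov h.M (J.el gen) [L0, L1, L2] R [nat_lit 73782, nat_lit 78570] :=
  cov_full (ctx h) n152

theorem cov151 {Γ X : Type*} [Group Γ] [MulAction Γ X] {T : Lst X J.n} {gen : ℕ → Γ} {A : Subgroup Γ} (h : J.Model T gen A) : Cov h.M (J.el gen) [L0, L1, L2] R [nat_lit 73782, nat_lit 78552] :=
  cov_full (ctx h) n151

theorem cov150 {Γ X : Type*} [Group Γ] [MulAction Γ X] {T : Lst X J.n} {gen : ℕ → Γ} {A : Subgroup Γ} (h : J.Model T gen A) : Cov h.M (J.el gen) [L0, L1, L2] R [nat_lit 73782, nat_lit 80856] :=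
  cov_full (ctx h) n150

theorem cov149 {Γ X : Type*} [Group Γ] [MulAction Γ X] {T : Lst X J.n} {gen : ℕ → Γ} {A : Subgroup Γ} (h : J.Model T gen A) : Cov h.M (J.el gen) [L0, L1, L2] R [nat_lit 73782, nat_lit 78516] :=
  cov_full (ctx h) n149

theorem cov148 {Γ X : Type*} [Group Γ] [MulAction Γ X] {T : Lst X J.n} {gen : ℕ → Γ} {A : Subgroup Γ} (h : J.Model T gen A) : Cov h.M (J.el gen) [L0, L1, L2] R [nat_lit 73782, nat_lit 78498] :=
  cov_full (ctx h) n148

theorem cov147 {Γ X : Type*} [Group Γ] [MulAction Γ X] {T : Lst X J.n} {gen : ℕ → Γ} {A : Subgroup Γ} (h : J.Model T gen A) : Cov h.M (J.el gen) [L0, L1, L2] R [nat_lit 73782, nat_lit 78480] :=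
  cov_full (ctx h) n147

theorem cov146 {Γ X : Type*} [Group Γ] [MulAction Γ X] {T : Lst X J.n} {gen : ℕ → Γ} {A : Subgroup Γ} (h : J.Model T gen A) : Cov h.M (J.el gen) [L0, L1, L2] R [nat_lit 73782, nat_lit 78462] :=
  cov_full (ctx h) n146

theorem cov145 {Γ X : Type*} [Group Γ] [MulAction Γ X] {T : Lst X J.n} {gen : ℕ → Γ} {A : Subgroup Γ} (h : J.Model T gen A) : Cov h.M (J.el gen) [L0, L1, L2] R [nat_lit 73782, nat_lit 81900] :=
  cov_full (ctx h) n145

theorem cov144 {Γ X : Type*} [Group Γ] [MulAction Γ X] {T : Lst X J.n} {gen : ℕ → Γ} {A : Subgroup Γ} (h : J.Model T gen A) : Cov h.M (J.el gen) [L0, L1, L2] R [nat_lit 73782, nat_lit 78426] :=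
  cov_full (ctx h) n144

theorem cov143 {Γ X : Type*} [Group Γ] [MulAction Γ X] {T : Lst X J.n} {gen : ℕ → Γ} {A : Subgroup Γ} (h : J.Model T gen A) : Cov h.M (J.el gen) [L0, L1, L2] R [nat_lit 73782, nat_lit 81864] :=
  cov_full (ctx h) n143

theorem cov142 {Γ X : Type*} [Group Γ] [MulAction Γ X] {T : Lst X J.n} {gen : ℕ → Γ} {A : Subgroup Γ} (h : J.Model T gen A) : Cov h.M (J.el gen) [L0, L1, L2] R [nat_lit 73782, nat_lit 78390] :=
  cov_full (ctx h) n142

theorem cov141 {Γ X : Type*} [Group Γ] [MulAction Γ X] {T : Lst X J.n} {gen : ℕ → Γ} {A : Subgroup Γ} (h : J.Model T gen A) : Cov h.M (J.el gen) [L0, L1, L2] R [nat_lit 73782, nat_lit 78372] :=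
  cov_full (ctx h) n141

theorem cov140 {Γ X : Type*} [Group Γ] [MulAction Γ X] {T : Lst X J.n} {gen : ℕ → Γ} {A : Subgroup Γ} (h : J.Model T gen A) : Cov h.M (J.el gen) [L0, L1, L2] R [nat_lit 73782, nat_lit 80658] :=
  cov_full (ctx h) n140

theorem cov139 {Γ X : Type*} [Group Γ] [MulAction Γ X] {T : Lst X J.n} {gen : ℕ → Γ} {A : Subgroup Γ} (h : J.Model T gen A) : Cov h.M (J.el gen) [L0, L1, L2] R [nat_lit 73782, nat_lit 80622] :=
  cov_full (ctx h) n139

theorem cov138 {Γ X : Type*} [Group Γ] [MulAction Γ X] {T : Lst X J.n} {gen : ℕ → Γ} {A : Subgroup Γ} (h : J.Model T gen A) : Cov h.M (J.el gen) [L0, L1, L2] R [nat_lit 73782, nat_lit 78318] :=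
  cov_full (ctx h) n138

theorem cov137 {Γ X : Type*} [Group Γ] [MulAction Γ X] {T : Lst X J.n} {gen : ℕ → Γ} {A : Subgroup Γ} (h : J.Model T gen A) : Cov h.M (J.el gen) [L0, L1, L2] R [nat_lit 73782, nat_lit 78300] :=
  cov_full (ctx h) n137

theorem cov136 {Γ X : Type*} [Group Γ] [MulAction Γ X] {T : Lst X J.n} {gen : ℕ → Γ} {A : Subgroup Γ} (h : J.Model T gen A) : Cov h.M (J.el gen) [L0, L1, L2] R [nat_lit 73782] :=
  cov_red (ctx h) h.hAV n136 (forall_mem_cons' (cov137 h) (forall_mem_cons' (cov138 h) (forall_mem_cons' (cov139 h) (forall_mem_cons' (cov140 h) (forall_mem_cons' (cov141 h) (forall_mem_cons' (cov142 h) (forall_mem_cons' (cov143 h) (forall_mem_cons' (cov144 h) (forall_mem_cons' (cov145 h) (forall_mem_cons' (cov146 h) (forall_mem_cons' (cov147 h) (forall_mem_cons' (cov148 h) (forall_mem_cons' (cov149 h) (forall_mem_cons' (cov150 h) (forall_mem_cons' (cov151 h) (forall_mem_cons' (cov152 h) (forall_mem_cons'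 (cov153 h) (forall_mem_cons' (cov154 h) (forall_mem_cons' (cov155 h) (forall_mem_cons' (cov156 h) (forall_mem_cons' (cov157 h) (forall_mem_cons' (cov158 h) (forall_mem_cons' (cov159 h) (forall_mem_cons' (cov160 h) (forall_mem_cons' (cov161 h) (forall_mem_cons' (cov162 h) (forall_mem_cons' (cov163 h) (forall_mem_cons' (cov164 h) (forall_mem_cons' (cov165 h) (forall_mem_cons' (cov166 h) (forall_mem_cons' (cov167 h) (forall_mem_cons' (cov168 h) (forall_mem_cons' (cov169 h) (forall_mem_cons' (cov170 h) (forall_mem_cons' (cov171 h) (forall_mem_cons' (cov172 h) (forall_mem_cons' (cov173 h) (forall_mem_cons' (cov174 h) (forall_mem_cons' (cov175 h) (forall_mem_cons' (cov176 h) (forall_mem_cons' (cov177 h) (forall_mem_cons' (cov178 h) (forall_mem_cons' (cov179 h) (forall_mem_cons' (cov180 h) (forall_mem_cons' (cov181 h) (forall_mem_cons' (cov182 h) (forall_mem_cons' (cov183 h) (forall_mem_cons' (cov184 h) (forall_mem_cons' (cov185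 h) (forall_mem_cons' (cov186 h) (forall_mem_cons' (cov187 h) (forall_mem_cons' (cov188 h) (forall_mem_cons' (cov189 h) (forall_mem_cons' (cov190 h) (forall_mem_cons' (cov191 h) (forall_mem_cons' (cov192 h) (forall_mem_cons' (cov193 h) (forall_mem_cons' (cov194 h) (forall_mem_cons' (cov195 h) (forall_mem_cons' (cov196 h) (forall_mem_cons' (cov197 h) (forall_mem_cons' (cov198 h) (forall_mem_cons' (cov199 h) (forall_mem_cons' (cov200 h) (forall_mem_cons' (cov201 h) (forall_mem_cons' (cov202 h) (forall_mem_cons' (cov203 h) (forall_mem_cons' (cov204 h) (forall_mem_cons' (cov205 h) (forall_mem_cons' (cov206 h) (forall_mem_cons' (cov207 h) (forall_mem_cons' (cov208 h) (forall_mem_cons' (cov209 h) (forall_mem_cons' (cov210 h) (forall_mem_cons' (cov211 h) (forall_mem_cons' (cov212 h) (forall_mem_cons' (cov213 h) (forall_mem_cons' (cov214 h) (forall_mem_cons' (cov215 h) (forall_mem_cons' (cov216 h) (forall_mem_cons' (cov217 h) (forall_mem_cons'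 (cov218 h) (forall_mem_cons' (cov219 h) (forall_mem_cons' (cov220 h) (forall_mem_cons' (cov221 h) (forall_mem_cons' (cov222 h) (forall_mem_cons' (cov223 h) (forall_mem_cons' (cov224 h) (forall_mem_cons' (cov225 h) (forall_mem_cons' (cov226 h) (forall_mem_cons' (cov227 h) (forall_mem_cons' (cov228 h) (forall_mem_cons' (cov229 h) (forall_mem_cons' (cov230 h) (forall_mem_cons' (cov231 h) (forall_mem_cons' (cov232 h) (forall_mem_cons' (cov233 h) (forall_mem_cons' (cov234 h) (forall_mem_cons' (cov235 h) (forall_mem_cons' (cov236 h) (forall_mem_cons' (cov237 h) (forall_mem_cons' (cov238 h) (forall_mem_cons' (cov239 h) (forall_mem_cons' (cov240 h) (forall_mem_cons' (cov241 h) (forall_mem_cons' (cov242 h) (forall_mem_cons' (cov243 h) (forall_mem_cons' (cov244 h) (forall_mem_cons' (cov245 h) (forall_mem_cons' (cov246 h) (forall_mem_cons' (cov247 h) (forall_mem_cons' (cov248 h) (forall_mem_cons' (cov249 h) (forall_mem_cons' (cov250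 h) (forall_mem_cons' (cov251 h) (forall_mem_cons' (cov252 h) (forall_mem_cons' (cov253 h) (forall_mem_cons' (cov254 h) (forall_mem_cons' (cov255 h) (forall_mem_cons' (cov256 h) (forall_mem_cons' (cov257 h) (forall_mem_cons' (cov258 h) (forall_mem_cons' (cov259 h) (forall_mem_cons' (cov260 h) (forall_mem_cons' (cov261 h) (forall_mem_cons' (cov262 h) (forall_mem_cons' (cov263 h) (forall_mem_cons' (cov264 h) (forall_mem_cons' (cov265 h) (forall_mem_cons' (cov266 h) (forall_mem_cons' (cov267 h) (forall_mem_cons' (cov268 h) forall_mem_nil'))))))))))))))))))))))))))))))))))))))))))))))))))))))))))))))))))))))))))))))))))))))))))))))))))))))))))))))))))))))))))))))))))))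

theorem cov135 {Γ X : Type*} [Group Γ] [MulAction Γ X] {T : Lst X J.n} {gen : ℕ → Γ} {A : Subgroup Γ} (h : J.Model T gen A) : Cov h.M (J.el gen) [L0, L1, L2] R [nat_lit 73746, nat_lit 119754] :=
  cov_full (ctx h) n135

theorem cov134 {Γ X : Type*} [Group Γ] [MulAction Γ X] {T : Lst X J.n} {gen : ℕ → Γ} {A : Subgroup Γ} (h : J.Model T gen A) : Cov h.M (J.el gen) [L0, L1, L2] R [nat_lit 73746, nat_lit 116136] :=
  cov_full (ctx h) n134

theorem cov133 {Γ X : Type*} [Group Γ] [MulAction Γ X] {T : Lst X J.n} {gen : ℕ → Γ} {A : Subgroup Γ} (h : J.Model T gen A) : Cov h.M (J.el gen) [L0, L1, L2] R [nat_lit 73746, nat_lit 115542] :=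
  cov_full (ctx h) n133

theorem cov132 {Γ X : Type*} [Group Γ] [MulAction Γ X] {T : Lst X J.n} {gen : ℕ → Γ} {A : Subgroup Γ} (h : J.Model T gen A) : Cov h.M (J.el gen) [L0, L1, L2] R [nat_lit 73746, nat_lit 119700] :=
  cov_full (ctx h) n132

theorem cov131 {Γ X : Type*} [Group Γ] [MulAction Γ X] {T : Lst X J.n} {gen : ℕ → Γ} {A : Subgroup Γ} (h : J.Model T gen A) : Cov h.M (J.el gen) [L0, L1, L2] R [nat_lit 73746, nat_lit 121320] :=
  cov_full (ctx h) n131

theorem cov130 {Γ X : Type*} [Group Γ] [MulAction Γ X] {T : Lst X J.n} {gen : ℕ → Γ} {A : Subgroup Γ} (h : J.Model T gen A) : Cov h.M (J.el gen) [L0, L1, L2] R [nat_lit 73746, nat_lit 118512] :=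
  cov_full (ctx h) n130

theorem cov129 {Γ X : Type*} [Group Γ] [MulAction Γ X] {T : Lst X J.n} {gen : ℕ → Γ} {A : Subgroup Γ} (h : J.Model T gen A) : Cov h.M (J.el gen) [L0, L1, L2] R [nat_lit 73746, nat_lit 120222] :=
  cov_full (ctx h) n129

theorem cov128 {Γ X : Type*} [Group Γ] [MulAction Γ X] {T : Lst X J.n} {gen : ℕ → Γ} {A : Subgroup Γ} (h : J.Model T gen A) : Cov h.M (J.el gen) [L0, L1, L2] R [nat_lit 73746, nat_lit 120258] :=
  cov_full (ctx h) n128

theorem cov127 {Γ X : Type*} [Group Γ] [MulAction Γ X] {T : Lst X J.n} {gen : ℕ → Γ} {A : Subgroup Γ} (h : J.Model T gen A) : Cov h.M (J.el gen) [L0, L1, L2] R [nat_lit 73746, nat_lit 123732] :=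
  cov_full (ctx h) n127

theorem cov126 {Γ X : Type*} [Group Γ] [MulAction Γ X] {T : Lst X J.n} {gen : ℕ → Γ} {A : Subgroup Γ} (h : J.Model T gen A) : Cov h.M (J.el gen) [L0, L1, L2] R [nat_lit 73746, nat_lit 128268] :=
  cov_full (ctx h) n126

theorem cov125 {Γ X : Type*} [Group Γ] [MulAction Γ X] {T : Lst X J.n} {gen : ℕ → Γ} {A : Subgroup Γ} (h : J.Model T gen A) : Cov h.M (J.el gen) [L0, L1, L2] R [nat_lit 73746, nat_lit 116838] :=
  cov_full (ctx h) n125

theorem cov124 {Γ X : Type*} [Group Γ] [MulAction Γ X] {T : Lst X J.n} {gen : ℕ → Γ} {A : Subgroup Γ} (h : J.Model T gen A) : Cov h.M (J.el gen) [L0, L1, L2] R [nat_lit 73746, nat_lit 115308] :=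
  cov_full (ctx h) n124

theorem cov123 {Γ X : Type*} [Group Γ] [MulAction Γ X] {T : Lst X J.n} {gen : ℕ → Γ} {A : Subgroup Γ} (h : J.Model T gen A) : Cov h.M (J.el gen) [L0, L1, L2] R [nat_lit 73746, nat_lit 112680] :=
  cov_full (ctx h) n123

theorem cov122 {Γ X : Type*} [Group Γ] [MulAction Γ X] {T : Lst X J.n} {gen : ℕ → Γ} {A : Subgroup Γ} (h : J.Model T gen A) : Cov h.M (J.el gen) [L0, L1, L2] R [nat_lit 73746, nat_lit 112842] :=
  cov_full (ctx h) n122

theorem cov121 {Γ X : Type*} [Group Γ] [MulAction Γ X] {T : Lst X J.n} {gen : ℕ → Γ} {A : Subgroup Γ} (h : J.Model T gen A) : Cov h.M (J.el gen) [L0, L1, L2] R [nat_lit 73746, nat_lit 123552] :=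
  cov_full (ctx h) n121

theorem cov120 {Γ X : Type*} [Group Γ] [MulAction Γ X] {T : Lst X J.n} {gen : ℕ → Γ} {A : Subgroup Γ} (h : J.Model T gen A) : Cov h.M (J.el gen) [L0, L1, L2] R [nat_lit 73746, nat_lit 112770] :=
  cov_full (ctx h) n120

theorem cov119 {Γ X : Type*} [Group Γ] [MulAction Γ X] {T : Lst X J.n} {gen : ℕ → Γ} {A : Subgroup Γ} (h : J.Model T gen A) : Cov h.M (J.el gen) [L0, L1, L2] R [nat_lit 73746, nat_lit 121032] :=
  cov_full (ctx h) n119

theorem cov118 {Γ X : Type*} [Group Γ] [MulAction Γ X] {T : Lst X J.n} {gen : ℕ → Γ} {A : Subgroup Γ} (h : J.Model T gen A) : Cov h.M (J.el gen) [L0, L1, L2] R [nat_lit 73746, nat_lit 120132] :=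
  cov_full (ctx h) n118

theorem cov117 {Γ X : Type*} [Group Γ] [MulAction Γ X] {T : Lst X J.n} {gen : ℕ → Γ} {A : Subgroup Γ} (h : J.Model T gen A) : Cov h.M (J.el gen) [L0, L1, L2] R [nat_lit 73746, nat_lit 112302] :=
  cov_full (ctx h) n117

theorem cov116 {Γ X : Type*} [Group Γ] [MulAction Γ X] {T : Lst X J.n} {gen : ℕ → Γ} {A : Subgroup Γ} (h : J.Model T gen A) : Cov h.M (J.el gen) [L0, L1, L2] R [nat_lit 73746, nat_lit 114876] :=
  cov_full (ctx h) n116

theorem cov115 {Γ X : Type*} [Group Γ] [MulAction Γ X] {T : Lst X J.n} {gen : ℕ → Γ} {A : Subgroup Γ} (h : J.Model T gen A) : Cov h.M (J.el gen) [L0, L1, L2] R [nat_lit 73746, nat_lit 113886] :=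
  cov_full (ctx h) n115

theorem cov114 {Γ X : Type*} [Group Γ] [MulAction Γ X] {T : Lst X J.n} {gen : ℕ → Γ} {A : Subgroup Γ} (h : J.Model T gen A) : Cov h.M (J.el gen) [L0, L1, L2] R [nat_lit 73746, nat_lit 112230] :=
  cov_full (ctx h) n114

theorem cov113 {Γ X : Type*} [Group Γ] [MulAction Γ X] {T : Lst X J.n} {gen : ℕ → Γ} {A : Subgroup Γ} (h : J.Model T gen A) : Cov h.M (J.el gen) [L0, L1, L2] R [nat_lit 73746, nat_lit 112104] :=
  cov_full (ctx h) n113

theorem cov112 {Γ X : Type*} [Group Γ] [MulAction Γ X] {T : Lst X J.n} {gen : ℕ → Γ} {A : Subgroup Γ} (h : J.Model T gen A) : Cov h.M (J.el gen) [L0, L1, L2] R [nat_lit 73746, nat_lit 112032] :=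
  cov_full (ctx h) n112

theorem cov111 {Γ X : Type*} [Group Γ] [MulAction Γ X] {T : Lst X J.n} {gen : ℕ → Γ} {A : Subgroup Γ} (h : J.Model T gen A) : Cov h.M (J.el gen) [L0, L1, L2] R [nat_lit 73746, nat_lit 111114] :=
  cov_full (ctx h) n111

theorem cov110 {Γ X : Type*} [Group Γ] [MulAction Γ X] {T : Lst X J.n} {gen : ℕ → Γ} {A : Subgroup Γ} (h : J.Model T gen A) : Cov h.M (J.el gen) [L0, L1, L2] R [nat_lit 73746, nat_lit 110880] :=
  cov_full (ctx h) n110

theorem cov109 {Γ X : Type*} [Group Γ] [MulAction Γ X] {T : Lst X J.n} {gen : ℕ → Γ} {A : Subgroup Γ} (h : J.Model T gen A) : Cov h.M (J.el gen) [L0, L1, L2] R [nat_lit 73746, nat_lit 111546] :=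
  cov_full (ctx h) n109

theorem cov108 {Γ X : Type*} [Group Γ] [MulAction Γ X] {T : Lst X J.n} {gen : ℕ → Γ} {A : Subgroup Γ} (h : J.Model T gen A) : Cov h.M (J.el gen) [L0, L1, L2] R [nat_lit 73746, nat_lit 111636] :=
  cov_full (ctx h) n108

theorem cov107 {Γ X : Type*} [Group Γ] [MulAction Γ X] {T : Lst X J.n} {gen : ℕ → Γ} {A : Subgroup Γ} (h : J.Model T gen A) : Cov h.M (J.el gen) [L0, L1, L2] R [nat_lit 73746, nat_lit 110826] :=
  cov_full (ctx h) n107

theorem cov106 {Γ X : Type*} [Group Γ] [MulAction Γ X] {T : Lst X J.n} {gen : ℕ → Γ} {A : Subgroup Γ} (h : J.Model T gen A) : Cov h.M (J.el gen) [L0, L1, L2] R [nat_lit 73746, nat_lit 127224] :=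
  cov_full (ctx h) n106

theorem cov105 {Γ X : Type*} [Group Γ] [MulAction Γ X] {T : Lst X J.n} {gen : ℕ → Γ} {A : Subgroup Γ} (h : J.Model T gen A) : Cov h.M (J.el gen) [L0, L1, L2] R [nat_lit 73746, nat_lit 110790] :=
  cov_full (ctx h) n105

theorem cov104 {Γ X : Type*} [Group Γ] [MulAction Γ X] {T : Lst X J.n} {gen : ℕ → Γ} {A : Subgroup Γ} (h : J.Model T gen A) : Cov h.M (J.el gen) [L0, L1, L2] R [nat_lit 73746, nat_lit 124380] :=
  cov_full (ctx h) n104

theorem cov103 {Γ X : Type*} [Group Γ] [MulAction Γ X] {T : Lst X J.n} {gen : ℕ → Γ} {A : Subgroup Γ} (h : J.Model T gen A) : Cov h.M (J.el gen) [L0, L1, L2] R [nat_lit 73746, nat_lit 119826] :=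
  cov_full (ctx h) n103

theorem cov102 {Γ X : Type*} [Group Γ] [MulAction Γ X] {T : Lst X J.n} {gen : ℕ → Γ} {A : Subgroup Γ} (h : J.Model T gen A) : Cov h.M (J.el gen) [L0, L1, L2] R [nat_lit 73746, nat_lit 110736] :=
  cov_full (ctx h) n102

theorem cov101 {Γ X : Type*} [Group Γ] [MulAction Γ X] {T : Lst X J.n} {gen : ℕ → Γ} {A : Subgroup Γ} (h : J.Model T gen A) : Cov h.M (J.el gen) [L0, L1, L2] R [nat_lit 73746, nat_lit 110718] :=
  cov_full (ctx h) n101

theorem cov100 {Γ X : Type*} [Group Γ] [MulAction Γ X] {T : Lst X J.n} {gen : ℕ → Γ} {A : Subgroup Γ} (h : J.Model T gen A) : Cov h.M (J.el gen) [L0, L1, L2] R [nat_lit 73746, nat_lit 121932] :=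
  cov_full (ctx h) n100

theorem cov99 {Γ X : Type*} [Group Γ] [MulAction Γ X] {T : Lst X J.n} {gen : ℕ → Γ} {A : Subgroup Γ} (h : J.Model T gen A) : Cov h.M (J.el gen) [L0, L1, L2] R [nat_lit 73746, nat_lit 118458] :=
  cov_full (ctx h) n99

theorem cov98 {Γ X : Type*} [Group Γ] [MulAction Γ X] {T : Lst X J.n} {gen : ℕ → Γ} {A : Subgroup Γ} (h : J.Model T gen A) : Cov h.M (J.el gen) [L0, L1, L2] R [nat_lit 73746, nat_lit 110664] :=
  cov_full (ctx h) n98

theorem cov97 {Γ X : Type*} [Group Γ] [MulAction Γ X] {T : Lst X J.n} {gen : ℕ → Γ} {A : Subgroup Γ} (h : J.Model T gen A) : Cov h.M (J.el gen) [L0, L1, L2] R [nat_lit 73746, nat_lit 110646] :=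
  cov_full (ctx h) n97

theorem cov96 {Γ X : Type*} [Group Γ] [MulAction Γ X] {T : Lst X J.n} {gen : ℕ → Γ} {A : Subgroup Γ} (h : J.Model T gen A) : Cov h.M (J.el gen) [L0, L1, L2] R [nat_lit 73746, nat_lit 110628] :=
  cov_full (ctx h) n96

theorem cov95 {Γ X : Type*} [Group Γ] [MulAction Γ X] {T : Lst X J.n} {gen : ℕ → Γ} {A : Subgroup Γ} (h : J.Model T gen A) : Cov h.M (J.el gen) [L0, L1, L2] R [nat_lit 73746, nat_lit 110610] :=
  cov_full (ctx h) n95

theorem cov94 {Γ X : Type*} [Group Γ] [MulAction Γ X] {T : Lst X J.n} {gen : ℕ → Γ} {A : Subgroup Γ} (h : J.Model T gen A) : Cov h.M (J.el gen) [L0, L1, L2] R [nat_lit 73746, nat_lit 110592] :=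
  cov_full (ctx h) n94

theorem cov93 {Γ X : Type*} [Group Γ] [MulAction Γ X] {T : Lst X J.n} {gen : ℕ → Γ} {A : Subgroup Γ} (h : J.Model T gen A) : Cov h.M (J.el gen) [L0, L1, L2] R [nat_lit 73746, nat_lit 110574] :=
  cov_full (ctx h) n93

theorem cov92 {Γ X : Type*} [Group Γ] [MulAction Γ X] {T : Lst X J.n} {gen : ℕ → Γ} {A : Subgroup Γ} (h : J.Model T gen A) : Cov h.M (J.el gen) [L0, L1, L2] R [nat_lit 73746, nat_lit 110556] :=
  cov_full (ctx h) n92

theorem cov91 {Γ X : Type*} [Group Γ] [MulAction Γ X] {T : Lst X J.n} {gen : ℕ → Γ} {A : Subgroup Γ} (h : J.Model T gen A) : Cov h.M (J.el gen) [L0, L1, L2] R [nat_lit 73746] :=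
  cov_red (ctx h) h.hAV n91 (forall_mem_cons' (cov92 h) (forall_mem_cons' (cov93 h) (forall_mem_cons' (cov94 h) (forall_mem_cons' (cov95 h) (forall_mem_cons' (cov96 h) (forall_mem_cons' (cov97 h) (forall_mem_cons' (cov98 h) (forall_mem_cons' (cov99 h) (forall_mem_cons' (cov100 h) (forall_mem_cons' (cov101 h) (forall_mem_cons' (cov102 h) (forall_mem_cons' (cov103 h) (forall_mem_cons' (cov104 h) (forall_mem_cons' (cov105 h) (forall_mem_cons' (cov106 h) (forall_mem_cons' (cov107 h) (forall_mem_cons' (cov108 h) (forall_mem_cons' (cov109 h) (forall_mem_cons' (cov110 h) (forall_mem_cons' (cov111 h) (forall_mem_cons' (cov112 h) (forall_mem_cons' (cov113 h) (forall_mem_cons' (cov114 h) (forall_mem_cons' (cov115 h) (forall_mem_cons' (cov116 h) (forall_mem_cons' (cov117 h) (forall_mem_cons' (cov118 h) (forall_mem_cons' (cov119 h) (forall_mem_cons' (cov120 h) (forall_mem_cons' (cov121 h) (forall_mem_cons' (cov122 h) (forall_mem_cons'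 (cov123 h) (forall_mem_cons' (cov124 h) (forall_mem_cons' (cov125 h) (forall_mem_cons' (cov126 h) (forall_mem_cons' (cov127 h) (forall_mem_cons' (cov128 h) (forall_mem_cons' (cov129 h) (forall_mem_cons' (cov130 h) (forall_mem_cons' (cov131 h) (forall_mem_cons' (cov132 h) (forall_mem_cons' (cov133 h) (forall_mem_cons' (cov134 h) (forall_mem_cons' (cov135 h) forall_mem_nil'))))))))))))))))))))))))))))))))))))))))))))

theorem cov90 {Γ X : Type*} [Group Γ] [MulAction Γ X] {T : Lst X J.n} {gen : ℕ → Γ} {A : Subgroup Γ} (h : J.Model T gen A) : Cov h.M (J.el gen) [L0, L1, L2] R [nat_lit 73728, nat_lit 134874] :=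
  cov_full (ctx h) n90

theorem cov89 {Γ X : Type*} [Group Γ] [MulAction Γ X] {T : Lst X J.n} {gen : ℕ → Γ} {A : Subgroup Γ} (h : J.Model T gen A) : Cov h.M (J.el gen) [L0, L1, L2] R [nat_lit 73728, nat_lit 134856] :=
  cov_full (ctx h) n89

theorem cov88 {Γ X : Type*} [Group Γ] [MulAction Γ X] {T : Lst X J.n} {gen : ℕ → Γ} {A : Subgroup Γ} (h : J.Model T gen A) : Cov h.M (J.el gen) [L0, L1, L2] R [nat_lit 73728, nat_lit 134550] :=
  cov_full (ctx h) n88

theorem cov87 {Γ X : Type*} [Group Γ] [MulAction Γ X] {T : Lst X J.n} {gen : ℕ → Γ} {A : Subgroup Γ} (h : J.Model T gen A) : Cov h.M (J.el gen) [L0, L1, L2] R [nat_lit 73728, nat_lit 135972] :=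
  cov_full (ctx h) n87

theorem cov86 {Γ X : Type*} [Group Γ] [MulAction Γ X] {T : Lst X J.n} {gen : ℕ → Γ} {A : Subgroup Γ} (h : J.Model T gen A) : Cov h.M (J.el gen) [L0, L1, L2] R [nat_lit 73728, nat_lit 133866] :=
  cov_full (ctx h) n86

theorem cov85 {Γ X : Type*} [Group Γ] [MulAction Γ X] {T : Lst X J.n} {gen : ℕ → Γ} {A : Subgroup Γ} (h : J.Model T gen A) : Cov h.M (J.el gen) [L0, L1, L2] R [nat_lit 73728, nat_lit 142344] :=
  cov_full (ctx h) n85

theorem cov84 {Γ X : Type*} [Group Γ] [MulAction Γ X] {T : Lst X J.n} {gen : ℕ → Γ} {A : Subgroup Γ} (h : J.Model T gen A) : Cov h.M (J.el gen) [L0, L1, L2] R [nat_lit 73728, nat_lit 140202] :=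
  cov_full (ctx h) n84

theorem cov83 {Γ X : Type*} [Group Γ] [MulAction Γ X] {T : Lst X J.n} {gen : ℕ → Γ} {A : Subgroup Γ} (h : J.Model T gen A) : Cov h.M (J.el gen) [L0, L1, L2] R [nat_lit 73728, nat_lit 133812] :=
  cov_full (ctx h) n83

theorem cov82 {Γ X : Type*} [Group Γ] [MulAction Γ X] {T : Lst X J.n} {gen : ℕ → Γ} {A : Subgroup Γ} (h : J.Model T gen A) : Cov h.M (J.el gen) [L0, L1, L2] R [nat_lit 73728, nat_lit 141354] :=
  cov_full (ctx h) n82

theorem cov81 {Γ X : Type*} [Group Γ] [MulAction Γ X] {T : Lst X J.n} {gen : ℕ → Γ} {A : Subgroup Γ} (h : J.Model T gen A) : Cov h.M (J.el gen) [L0, L1, L2] R [nat_lit 73728, nat_lit 137016] :=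
  cov_full (ctx h) n81

theorem cov80 {Γ X : Type*} [Group Γ] [MulAction Γ X] {T : Lst X J.n} {gen : ℕ → Γ} {A : Subgroup Γ} (h : J.Model T gen A) : Cov h.M (J.el gen) [L0, L1, L2] R [nat_lit 73728, nat_lit 143910] :=
  cov_full (ctx h) n80

theorem cov79 {Γ X : Type*} [Group Γ] [MulAction Γ X] {T : Lst X J.n} {gen : ℕ → Γ} {A : Subgroup Γ} (h : J.Model T gen A) : Cov h.M (J.el gen) [L0, L1, L2] R [nat_lit 73728, nat_lit 144216] :=
  cov_full (ctx h) n79

theorem cov78 {Γ X : Type*} [Group Γ] [MulAction Γ X] {T : Lst X J.n} {gen : ℕ → Γ} {A : Subgroup Γ} (h : J.Model T gen A) : Cov h.M (J.el gen) [L0, L1, L2] R [nat_lit 73728, nat_lit 131976] :=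
  cov_full (ctx h) n78

theorem cov77 {Γ X : Type*} [Group Γ] [MulAction Γ X] {T : Lst X J.n} {gen : ℕ → Γ} {A : Subgroup Γ} (h : J.Model T gen A) : Cov h.M (J.el gen) [L0, L1, L2] R [nat_lit 73728, nat_lit 135450] :=
  cov_full (ctx h) n77

theorem cov76 {Γ X : Type*} [Group Γ] [MulAction Γ X] {T : Lst X J.n} {gen : ℕ → Γ} {A : Subgroup Γ} (h : J.Model T gen A) : Cov h.M (J.el gen) [L0, L1, L2] R [nat_lit 73728, nat_lit 142002] :=
  cov_full (ctx h) n76

theorem cov75 {Γ X : Type*} [Group Γ] [MulAction Γ X] {T : Lst X J.n} {gen : ℕ → Γ} {A : Subgroup Γ} (h : J.Model T gen A) : Cov h.M (J.el gen) [L0, L1, L2] R [nat_lit 73728, nat_lit 131040] :=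
  cov_full (ctx h) n75

theorem cov74 {Γ X : Type*} [Group Γ] [MulAction Γ X] {T : Lst X J.n} {gen : ℕ → Γ} {A : Subgroup Γ} (h : J.Model T gen A) : Cov h.M (J.el gen) [L0, L1, L2] R [nat_lit 73728, nat_lit 133398] :=
  cov_full (ctx h) n74

theorem cov73 {Γ X : Type*} [Group Γ] [MulAction Γ X] {T : Lst X J.n} {gen : ℕ → Γ} {A : Subgroup Γ} (h : J.Model T gen A) : Cov h.M (J.el gen) [L0, L1, L2] R [nat_lit 73728, nat_lit 130914] :=
  cov_full (ctx h) n73

theorem cov72 {Γ X : Type*} [Group Γ] [MulAction Γ X] {T : Lst X J.n} {gen : ℕ → Γ} {A : Subgroup Γ} (h : J.Model T gen A) : Cov h.M (J.el gen) [L0, L1, L2] R [nat_lit 73728, nat_lit 133524] :=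
  cov_full (ctx h) n72

theorem cov71 {Γ X : Type*} [Group Γ] [MulAction Γ X] {T : Lst X J.n} {gen : ℕ → Γ} {A : Subgroup Γ} (h : J.Model T gen A) : Cov h.M (J.el gen) [L0, L1, L2] R [nat_lit 73728, nat_lit 130734] :=
  cov_full (ctx h) n71

theorem cov70 {Γ X : Type*} [Group Γ] [MulAction Γ X] {T : Lst X J.n} {gen : ℕ → Γ} {A : Subgroup Γ} (h : J.Model T gen A) : Cov h.M (J.el gen) [L0, L1, L2] R [nat_lit 73728, nat_lit 138708] :=
  cov_full (ctx h) n70

theorem cov69 {Γ X : Type*} [Group Γ] [MulAction Γ X] {T : Lst X J.n} {gen : ℕ → Γ} {A : Subgroup Γ} (h : J.Model T gen A) : Cov h.M (J.el gen) [L0, L1, L2] R [nat_lit 73728, nat_lit 132318] :=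
  cov_full (ctx h) n69

theorem cov68 {Γ X : Type*} [Group Γ] [MulAction Γ X] {T : Lst X J.n} {gen : ℕ → Γ} {A : Subgroup Γ} (h : J.Model T gen A) : Cov h.M (J.el gen) [L0, L1, L2] R [nat_lit 73728, nat_lit 132192] :=
  cov_full (ctx h) n68

theorem cov67 {Γ X : Type*} [Group Γ] [MulAction Γ X] {T : Lst X J.n} {gen : ℕ → Γ} {A : Subgroup Γ} (h : J.Model T gen A) : Cov h.M (J.el gen) [L0, L1, L2] R [nat_lit 73728, nat_lit 133020] :=
  cov_full (ctx h) n67

theorem cov66 {Γ X : Type*} [Group Γ] [MulAction Γ X] {T : Lst X J.n} {gen : ℕ → Γ} {A : Subgroup Γ} (h : J.Model T gen A) : Cov h.M (J.el gen) [L0, L1, L2] R [nat_lit 73728, nat_lit 129330] :=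
  cov_full (ctx h) n66

theorem cov65 {Γ X : Type*} [Group Γ] [MulAction Γ X] {T : Lst X J.n} {gen : ℕ → Γ} {A : Subgroup Γ} (h : J.Model T gen A) : Cov h.M (J.el gen) [L0, L1, L2] R [nat_lit 73728, nat_lit 138780] :=
  cov_full (ctx h) n65

theorem cov64 {Γ X : Type*} [Group Γ] [MulAction Γ X] {T : Lst X J.n} {gen : ℕ → Γ} {A : Subgroup Γ} (h : J.Model T gen A) : Cov h.M (J.el gen) [L0, L1, L2] R [nat_lit 73728, nat_lit 131508] :=
  cov_full (ctx h) n64

theorem cov63 {Γ X : Type*} [Group Γ] [MulAction Γ X] {T : Lst X J.n} {gen : ℕ → Γ} {A : Subgroup Γ} (h : J.Model T gen A) : Cov h.M (J.el gen) [L0, L1, L2] R [nat_lit 73728, nat_lit 129852] :=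
  cov_full (ctx h) n63

theorem cov62 {Γ X : Type*} [Group Γ] [MulAction Γ X] {T : Lst X J.n} {gen : ℕ → Γ} {A : Subgroup Γ} (h : J.Model T gen A) : Cov h.M (J.el gen) [L0, L1, L2] R [nat_lit 73728, nat_lit 129258] :=
  cov_full (ctx h) n62

theorem cov61 {Γ X : Type*} [Group Γ] [MulAction Γ X] {T : Lst X J.n} {gen : ℕ → Γ} {A : Subgroup Γ} (h : J.Model T gen A) : Cov h.M (J.el gen) [L0, L1, L2] R [nat_lit 73728, nat_lit 129240] :=
  cov_full (ctx h) n61

theorem cov60 {Γ X : Type*} [Group Γ] [MulAction Γ X] {T : Lst X J.n} {gen : ℕ → Γ} {A : Subgroup Γ} (h : J.Model T gen A) : Cov h.M (J.el gen) [L0, L1, L2] R [nat_lit 73728, nat_lit 142830] :=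
  cov_full (ctx h) n60

theorem cov59 {Γ X : Type*} [Group Γ] [MulAction Γ X] {T : Lst X J.n} {gen : ℕ → Γ} {A : Subgroup Γ} (h : J.Model T gen A) : Cov h.M (J.el gen) [L0, L1, L2] R [nat_lit 73728, nat_lit 129204] :=
  cov_full (ctx h) n59

theorem cov58 {Γ X : Type*} [Group Γ] [MulAction Γ X] {T : Lst X J.n} {gen : ℕ → Γ} {A : Subgroup Γ} (h : J.Model T gen A) : Cov h.M (J.el gen) [L0, L1, L2] R [nat_lit 73728, nat_lit 129186] :=
  cov_full (ctx h) n58

theorem cov57 {Γ X : Type*} [Group Γ] [MulAction Γ X] {T : Lst X J.n} {gen : ℕ → Γ} {A : Subgroup Γ} (h : J.Model T gen A) : Cov h.M (J.el gen) [L0, L1, L2] R [nat_lit 73728, nat_lit 138240] :=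
  cov_full (ctx h) n57

theorem cov56 {Γ X : Type*} [Group Γ] [MulAction Γ X] {T : Lst X J.n} {gen : ℕ → Γ} {A : Subgroup Γ} (h : J.Model T gen A) : Cov h.M (J.el gen) [L0, L1, L2] R [nat_lit 73728, nat_lit 141246] :=
  cov_full (ctx h) n56

theorem cov55 {Γ X : Type*} [Group Γ] [MulAction Γ X] {T : Lst X J.n} {gen : ℕ → Γ} {A : Subgroup Γ} (h : J.Model T gen A) : Cov h.M (J.el gen) [L0, L1, L2] R [nat_lit 73728, nat_lit 129132] :=
  cov_full (ctx h) n55

theorem cov54 {Γ X : Type*} [Group Γ] [MulAction Γ X] {T : Lst X J.n} {gen : ℕ → Γ} {A : Subgroup Γ} (h : J.Model T gen A) : Cov h.M (J.el gen) [L0, L1, L2] R [nat_lit 73728, nat_lit 129114] :=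
  cov_full (ctx h) n54

theorem cov53 {Γ X : Type*} [Group Γ] [MulAction Γ X] {T : Lst X J.n} {gen : ℕ → Γ} {A : Subgroup Γ} (h : J.Model T gen A) : Cov h.M (J.el gen) [L0, L1, L2] R [nat_lit 73728, nat_lit 129096] :=
  cov_full (ctx h) n53

theorem cov52 {Γ X : Type*} [Group Γ] [MulAction Γ X] {T : Lst X J.n} {gen : ℕ → Γ} {A : Subgroup Γ} (h : J.Model T gen A) : Cov h.M (J.el gen) [L0, L1, L2] R [nat_lit 73728, nat_lit 129078] :=
  cov_full (ctx h) n52

theorem cov51 {Γ X : Type*} [Group Γ] [MulAction Γ X] {T : Lst X J.n} {gen : ℕ → Γ} {A : Subgroup Γ} (h : J.Model T gen A) : Cov h.M (J.el gen) [L0, L1, L2] R [nat_lit 73728, nat_lit 133596] :=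
  cov_full (ctx h) n51

theorem cov50 {Γ X : Type*} [Group Γ] [MulAction Γ X] {T : Lst X J.n} {gen : ℕ → Γ} {A : Subgroup Γ} (h : J.Model T gen A) : Cov h.M (J.el gen) [L0, L1, L2] R [nat_lit 73728, nat_lit 129042] :=
  cov_full (ctx h) n50

theorem cov49 {Γ X : Type*} [Group Γ] [MulAction Γ X] {T : Lst X J.n} {gen : ℕ → Γ} {A : Subgroup Γ} (h : J.Model T gen A) : Cov h.M (J.el gen) [L0, L1, L2] R [nat_lit 73728, nat_lit 129024] :=
  cov_full (ctx h) n49

theorem cov48 {Γ X : Type*} [Group Γ] [MulAction Γ X] {T : Lst X J.n} {gen : ℕ → Γ} {A : Subgroup Γ} (h : J.Model T gen A) : Cov h.M (J.el gen) [L0, L1, L2] R [nat_lit 73728, nat_lit 129006] :=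
  cov_full (ctx h) n48

theorem cov47 {Γ X : Type*} [Group Γ] [MulAction Γ X] {T : Lst X J.n} {gen : ℕ → Γ} {A : Subgroup Γ} (h : J.Model T gen A) : Cov h.M (J.el gen) [L0, L1, L2] R [nat_lit 73728, nat_lit 128988] :=
  cov_full (ctx h) n47

theorem cov46 {Γ X : Type*} [Group Γ] [MulAction Γ X] {T : Lst X J.n} {gen : ℕ → Γ} {A : Subgroup Γ} (h : J.Model T gen A) : Cov h.M (J.el gen) [L0, L1, L2] R [nat_lit 73728] :=
  cov_red (ctx h) h.hAV n46 (forall_mem_cons' (cov47 h) (forall_mem_cons' (cov48 h) (forall_mem_cons' (cov49 h) (forall_mem_cons' (cov50 h) (forall_mem_cons' (cov51 h) (forall_mem_cons' (cov52 h) (forall_mem_cons' (cov53 h) (forall_mem_cons' (cov54 h) (forall_mem_cons' (cov55 h) (forall_mem_cons' (cov56 h) (forall_mem_cons' (cov57 h) (forall_mem_cons' (cov58 h) (forall_mem_cons' (cov59 h) (forall_mem_cons' (cov60 h) (forall_mem_cons' (cov61 h) (forall_mem_cons' (cov62 h) (forall_mem_cons' (cov63 h) (forall_mem_cons'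 (cov64 h) (forall_mem_cons' (cov65 h) (forall_mem_cons' (cov66 h) (forall_mem_cons' (cov67 h) (forall_mem_cons' (cov68 h) (forall_mem_cons' (cov69 h) (forall_mem_cons' (cov70 h) (forall_mem_cons' (cov71 h) (forall_mem_cons' (cov72 h) (forall_mem_cons' (cov73 h) (forall_mem_cons' (cov74 h) (forall_mem_cons' (cov75 h) (forall_mem_cons' (cov76 h) (forall_mem_cons' (cov77 h) (forall_mem_cons' (cov78 h) (forall_mem_cons' (cov79 h) (forall_mem_cons' (cov80 h) (forall_mem_cons' (cov81 h) (forall_mem_cons' (cov82 h) (forall_mem_cons' (cov83 h) (forall_mem_cons' (cov84 h) (forall_mem_cons' (cov85 h) (forall_mem_cons' (cov86 h) (forall_mem_cons' (cov87 h) (forall_mem_cons' (cov88 h) (forall_mem_cons' (cov89 h) (forall_mem_cons' (cov90 h) forall_mem_nil'))))))))))))))))))))))))))))))))))))))))))))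

theorem cov45 {Γ X : Type*} [Group Γ] [MulAction Γ X] {T : Lst X J.n} {gen : ℕ → Γ} {A : Subgroup Γ} (h : J.Model T gen A) : Cov h.M (J.el gen) [L0, L1, L2] R [nat_lit 73710, nat_lit 106146] :=
  cov_full (ctx h) n45

theorem cov44 {Γ X : Type*} [Group Γ] [MulAction Γ X] {T : Lst X J.n} {gen : ℕ → Γ} {A : Subgroup Γ} (h : J.Model T gen A) : Cov h.M (J.el gen) [L0, L1, L2] R [nat_lit 73710, nat_lit 99576] :=
  cov_full (ctx h) n44

theorem cov43 {Γ X : Type*} [Group Γ] [MulAction Γ X] {T : Lst X J.n} {gen : ℕ → Γ} {A : Subgroup Γ} (h : J.Model T gen A) : Cov h.M (J.el gen) [L0, L1, L2] R [nat_lit 73710, nat_lit 100278] :=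
  cov_full (ctx h) n43

theorem cov42 {Γ X : Type*} [Group Γ] [MulAction Γ X] {T : Lst X J.n} {gen : ℕ → Γ} {A : Subgroup Γ} (h : J.Model T gen A) : Cov h.M (J.el gen) [L0, L1, L2] R [nat_lit 73710, nat_lit 104310] :=
  cov_full (ctx h) n42

theorem cov41 {Γ X : Type*} [Group Γ] [MulAction Γ X] {T : Lst X J.n} {gen : ℕ → Γ} {A : Subgroup Γ} (h : J.Model T gen A) : Cov h.M (J.el gen) [L0, L1, L2] R [nat_lit 73710, nat_lit 104202] :=
  cov_full (ctx h) n41

theorem cov40 {Γ X : Type*} [Group Γ] [MulAction Γ X] {T : Lst X J.n} {gen : ℕ → Γ} {A : Subgroup Γ} (h : J.Model T gen A) : Cov h.M (J.el gen) [L0, L1, L2] R [nat_lit 73710, nat_lit 101790] :=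
  cov_full (ctx h) n40

theorem cov39 {Γ X : Type*} [Group Γ] [MulAction Γ X] {T : Lst X J.n} {gen : ℕ → Γ} {A : Subgroup Γ} (h : J.Model T gen A) : Cov h.M (J.el gen) [L0, L1, L2] R [nat_lit 73710, nat_lit 102060] :=
  cov_full (ctx h) n39

theorem cov38 {Γ X : Type*} [Group Γ] [MulAction Γ X] {T : Lst X J.n} {gen : ℕ → Γ} {A : Subgroup Γ} (h : J.Model T gen A) : Cov h.M (J.el gen) [L0, L1, L2] R [nat_lit 73710, nat_lit 102096] :=
  cov_full (ctx h) n38

theorem cov37 {Γ X : Type*} [Group Γ] [MulAction Γ X] {T : Lst X J.n} {gen : ℕ → Γ} {A : Subgroup Γ} (h : J.Model T gen A) : Cov h.M (J.el gen) [L0, L1, L2] R [nat_lit 73710, nat_lit 100170] :=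
  cov_full (ctx h) n37

theorem cov36 {Γ X : Type*} [Group Γ] [MulAction Γ X] {T : Lst X J.n} {gen : ℕ → Γ} {A : Subgroup Γ} (h : J.Model T gen A) : Cov h.M (J.el gen) [L0, L1, L2] R [nat_lit 73710, nat_lit 101016] :=
  cov_full (ctx h) n36

theorem cov35 {Γ X : Type*} [Group Γ] [MulAction Γ X] {T : Lst X J.n} {gen : ℕ → Γ} {A : Subgroup Γ} (h : J.Model T gen A) : Cov h.M (J.el gen) [L0, L1, L2] R [nat_lit 73710, nat_lit 100998] :=
  cov_full (ctx h) n35

theorem cov34 {Γ X : Type*} [Group Γ] [MulAction Γ X] {T : Lst X J.n} {gen : ℕ → Γ} {A : Subgroup Γ} (h : J.Model T gen A) : Cov h.M (J.el gen) [L0, L1, L2] R [nat_lit 73710, nat_lit 100116] :=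
  cov_full (ctx h) n34

theorem cov33 {Γ X : Type*} [Group Γ] [MulAction Γ X] {T : Lst X J.n} {gen : ℕ → Γ} {A : Subgroup Γ} (h : J.Model T gen A) : Cov h.M (J.el gen) [L0, L1, L2] R [nat_lit 73710, nat_lit 94410] :=
  cov_full (ctx h) n33

theorem cov32 {Γ X : Type*} [Group Γ] [MulAction Γ X] {T : Lst X J.n} {gen : ℕ → Γ} {A : Subgroup Γ} (h : J.Model T gen A) : Cov h.M (J.el gen) [L0, L1, L2] R [nat_lit 73710, nat_lit 94374] :=
  cov_full (ctx h) n32

theorem cov31 {Γ X : Type*} [Group Γ] [MulAction Γ X] {T : Lst X J.n} {gen : ℕ → Γ} {A : Subgroup Γ} (h : J.Model T gen A) : Cov h.M (J.el gen) [L0, L1, L2] R [nat_lit 73710, nat_lit 105084] :=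
  cov_full (ctx h) n31

theorem cov30 {Γ X : Type*} [Group Γ] [MulAction Γ X] {T : Lst X J.n} {gen : ℕ → Γ} {A : Subgroup Γ} (h : J.Model T gen A) : Cov h.M (J.el gen) [L0, L1, L2] R [nat_lit 73710, nat_lit 104256] :=
  cov_full (ctx h) n30

theorem cov29 {Γ X : Type*} [Group Γ] [MulAction Γ X] {T : Lst X J.n} {gen : ℕ → Γ} {A : Subgroup Γ} (h : J.Model T gen A) : Cov h.M (J.el gen) [L0, L1, L2] R [nat_lit 73710, nat_lit 96588] :=
  cov_full (ctx h) n29

theorem cov28 {Γ X : Type*} [Group Γ] [MulAction Γ X] {T : Lst X J.n} {gen : ℕ → Γ} {A : Subgroup Γ} (h : J.Model T gen A) : Cov h.M (J.el gen) [L0, L1, L2] R [nat_lit 73710, nat_lit 98838] :=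
  cov_full (ctx h) n28

theorem cov27 {Γ X : Type*} [Group Γ] [MulAction Γ X] {T : Lst X J.n} {gen : ℕ → Γ} {A : Subgroup Γ} (h : J.Model T gen A) : Cov h.M (J.el gen) [L0, L1, L2] R [nat_lit 73710, nat_lit 96660] :=
  cov_full (ctx h) n27

theorem cov26 {Γ X : Type*} [Group Γ] [MulAction Γ X] {T : Lst X J.n} {gen : ℕ → Γ} {A : Subgroup Γ} (h : J.Model T gen A) : Cov h.M (J.el gen) [L0, L1, L2] R [nat_lit 73710, nat_lit 93852] :=
  cov_full (ctx h) n26

theorem cov25 {Γ X : Type*} [Group Γ] [MulAction Γ X] {T : Lst X J.n} {gen : ℕ → Γ} {A : Subgroup Γ} (h : J.Model T gen A) : Cov h.M (J.el gen) [L0, L1, L2] R [nat_lit 73710, nat_lit 95490] :=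
  cov_full (ctx h) n25

theorem cov24 {Γ X : Type*} [Group Γ] [MulAction Γ X] {T : Lst X J.n} {gen : ℕ → Γ} {A : Subgroup Γ} (h : J.Model T gen A) : Cov h.M (J.el gen) [L0, L1, L2] R [nat_lit 73710, nat_lit 102186] :=
  cov_full (ctx h) n24

theorem cov23 {Γ X : Type*} [Group Γ] [MulAction Γ X] {T : Lst X J.n} {gen : ℕ → Γ} {A : Subgroup Γ} (h : J.Model T gen A) : Cov h.M (J.el gen) [L0, L1, L2] R [nat_lit 73710, nat_lit 93636] :=
  cov_full (ctx h) n23

theorem cov22 {Γ X : Type*} [Group Γ] [MulAction Γ X] {T : Lst X J.n} {gen : ℕ → Γ} {A : Subgroup Γ} (h : J.Model T gen A) : Cov h.M (J.el gen) [L0, L1, L2] R [nat_lit 73710, nat_lit 95382] :=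
  cov_full (ctx h) n22

theorem cov21 {Γ X : Type*} [Group Γ] [MulAction Γ X] {T : Lst X J.n} {gen : ℕ → Γ} {A : Subgroup Γ} (h : J.Model T gen A) : Cov h.M (J.el gen) [L0, L1, L2] R [nat_lit 73710, nat_lit 93384] :=
  cov_full (ctx h) n21

theorem cov20 {Γ X : Type*} [Group Γ] [MulAction Γ X] {T : Lst X J.n} {gen : ℕ → Γ} {A : Subgroup Γ} (h : J.Model T gen A) : Cov h.M (J.el gen) [L0, L1, L2] R [nat_lit 73710, nat_lit 97362] :=
  cov_full (ctx h) n20

theorem cov19 {Γ X : Type*} [Group Γ] [MulAction Γ X] {T : Lst X J.n} {gen : ℕ → Γ} {A : Subgroup Γ} (h : J.Model T gen A) : Cov h.M (J.el gen) [L0, L1, L2] R [nat_lit 73710, nat_lit 92502] :=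
  cov_full (ctx h) n19

theorem cov18 {Γ X : Type*} [Group Γ] [MulAction Γ X] {T : Lst X J.n} {gen : ℕ → Γ} {A : Subgroup Γ} (h : J.Model T gen A) : Cov h.M (J.el gen) [L0, L1, L2] R [nat_lit 73710, nat_lit 93528] :=
  cov_full (ctx h) n18

theorem cov17 {Γ X : Type*} [Group Γ] [MulAction Γ X] {T : Lst X J.n} {gen : ℕ → Γ} {A : Subgroup Γ} (h : J.Model T gen A) : Cov h.M (J.el gen) [L0, L1, L2] R [nat_lit 73710, nat_lit 92394] :=
  cov_full (ctx h) n17

theorem cov16 {Γ X : Type*} [Group Γ] [MulAction Γ X] {T : Lst X J.n} {gen : ℕ → Γ} {A : Subgroup Γ} (h : J.Model T gen A) : Cov h.M (J.el gen) [L0, L1, L2] R [nat_lit 73710, nat_lit 92376] :=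
  cov_full (ctx h) n16

theorem cov15 {Γ X : Type*} [Group Γ] [MulAction Γ X] {T : Lst X J.n} {gen : ℕ → Γ} {A : Subgroup Γ} (h : J.Model T gen A) : Cov h.M (J.el gen) [L0, L1, L2] R [nat_lit 73710, nat_lit 105966] :=
  cov_full (ctx h) n15

theorem cov14 {Γ X : Type*} [Group Γ] [MulAction Γ X] {T : Lst X J.n} {gen : ℕ → Γ} {A : Subgroup Γ} (h : J.Model T gen A) : Cov h.M (J.el gen) [L0, L1, L2] R [nat_lit 73710, nat_lit 105948] :=
  cov_full (ctx h) n14

theorem cov13 {Γ X : Type*} [Group Γ] [MulAction Γ X] {T : Lst X J.n} {gen : ℕ → Γ} {A : Subgroup Γ} (h : J.Model T gen A) : Cov h.M (J.el gen) [L0, L1, L2] R [nat_lit 73710, nat_lit 101394] :=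
  cov_full (ctx h) n13

theorem cov12 {Γ X : Type*} [Group Γ] [MulAction Γ X] {T : Lst X J.n} {gen : ℕ → Γ} {A : Subgroup Γ} (h : J.Model T gen A) : Cov h.M (J.el gen) [L0, L1, L2] R [nat_lit 73710, nat_lit 92304] :=
  cov_full (ctx h) n12

theorem cov11 {Γ X : Type*} [Group Γ] [MulAction Γ X] {T : Lst X J.n} {gen : ℕ → Γ} {A : Subgroup Γ} (h : J.Model T gen A) : Cov h.M (J.el gen) [L0, L1, L2] R [nat_lit 73710, nat_lit 103518] :=
  cov_full (ctx h) n11

theorem cov10 {Γ X : Type*} [Group Γ] [MulAction Γ X] {T : Lst X J.n} {gen : ℕ → Γ} {A : Subgroup Γ} (h : J.Model T gen A) : Cov h.M (J.el gen) [L0, L1, L2] R [nat_lit 73710, nat_lit 92268] :=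
  cov_full (ctx h) n10

theorem cov9 {Γ X : Type*} [Group Γ] [MulAction Γ X] {T : Lst X J.n} {gen : ℕ → Γ} {A : Subgroup Γ} (h : J.Model T gen A) : Cov h.M (J.el gen) [L0, L1, L2] R [nat_lit 73710, nat_lit 92250] :=
  cov_full (ctx h) n9

theorem cov8 {Γ X : Type*} [Group Γ] [MulAction Γ X] {T : Lst X J.n} {gen : ℕ → Γ} {A : Subgroup Γ} (h : J.Model T gen A) : Cov h.M (J.el gen) [L0, L1, L2] R [nat_lit 73710, nat_lit 92232] :=
  cov_full (ctx h) n8

theorem cov7 {Γ X : Type*} [Group Γ] [MulAction Γ X] {T : Lst X J.n} {gen : ℕ → Γ} {A : Subgroup Γ} (h : J.Model T gen A) : Cov h.M (J.el gen) [L0, L1, L2] R [nat_lit 73710, nat_lit 96750] :=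
  cov_full (ctx h) n7

theorem cov6 {Γ X : Type*} [Group Γ] [MulAction Γ X] {T : Lst X J.n} {gen : ℕ → Γ} {A : Subgroup Γ} (h : J.Model T gen A) : Cov h.M (J.el gen) [L0, L1, L2] R [nat_lit 73710, nat_lit 92196] :=
  cov_full (ctx h) n6

theorem cov5 {Γ X : Type*} [Group Γ] [MulAction Γ X] {T : Lst X J.n} {gen : ℕ → Γ} {A : Subgroup Γ} (h : J.Model T gen A) : Cov h.M (J.el gen) [L0, L1, L2] R [nat_lit 73710, nat_lit 92178] :=
  cov_full (ctx h) n5

theorem cov4 {Γ X : Type*} [Group Γ] [MulAction Γ X] {T : Lst X J.n} {gen : ℕ → Γ} {A : Subgroup Γ} (h : J.Model T gen A) : Cov h.M (J.el gen) [L0, L1, L2] R [nat_lit 73710, nat_lit 92160] :=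
  cov_full (ctx h) n4

theorem cov3 {Γ X : Type*} [Group Γ] [MulAction Γ X] {T : Lst X J.n} {gen : ℕ → Γ} {A : Subgroup Γ} (h : J.Model T gen A) : Cov h.M (J.el gen) [L0, L1, L2] R [nat_lit 73710, nat_lit 92142] :=
  cov_full (ctx h) n3

theorem cov2 {Γ X : Type*} [Group Γ] [MulAction Γ X] {T : Lst X J.n} {gen : ℕ → Γ} {A : Subgroup Γ} (h : J.Model T gen A) : Cov h.M (J.el gen) [L0, L1, L2] R [nat_lit 73710, nat_lit 92124] :=
  cov_full (ctx h) n2

theorem cov1 {Γ X : Type*} [Group Γ] [MulAction Γ X] {T : Lst X J.n} {gen : ℕ → Γ} {A : Subgroup Γ} (h : J.Model T gen A) : Cov h.M (J.el gen) [L0, L1, L2] R [nat_lit 73710] :=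
  cov_red (ctx h) h.hAV n1 (forall_mem_cons' (cov2 h) (forall_mem_cons' (cov3 h) (forall_mem_cons' (cov4 h) (forall_mem_cons' (cov5 h) (forall_mem_cons' (cov6 h) (forall_mem_cons' (cov7 h) (forall_mem_cons' (cov8 h) (forall_mem_cons' (cov9 h) (forall_mem_cons' (cov10 h) (forall_mem_cons' (cov11 h) (forall_mem_cons' (cov12 h) (forall_mem_cons' (cov13 h) (forall_mem_cons' (cov14 h) (forall_mem_cons' (cov15 h) (forall_mem_cons' (cov16 h) (forall_mem_cons' (cov17 h) (forall_mem_cons' (cov18 h) (forall_mem_cons' (cov19 h) (forall_mem_cons' (cov20 h) (forall_mem_cons' (cov21 h) (forall_mem_cons' (cov22 h) (forall_mem_cons' (cov23 h) (forall_mem_cons' (cov24 h) (forall_mem_cons' (cov25 h) (forall_mem_cons' (cov26 h) (forall_mem_cons' (cov27 h) (forall_mem_cons' (cov28 h) (forall_mem_cons' (cov29 h) (forall_mem_cons' (cov30 h) (forall_mem_cons' (cov31 h) (forall_mem_cons' (cov32 h) (forall_mem_cons' (cov33 h) (forall_mem_cons'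 (cov34 h) (forall_mem_cons' (cov35 h) (forall_mem_cons' (cov36 h) (forall_mem_cons' (cov37 h) (forall_mem_cons' (cov38 h) (forall_mem_cons' (cov39 h) (forall_mem_cons' (cov40 h) (forall_mem_cons' (cov41 h) (forall_mem_cons' (cov42 h) (forall_mem_cons' (cov43 h) (forall_mem_cons' (cov44 h) (forall_mem_cons' (cov45 h) forall_mem_nil'))))))))))))))))))))))))))))))))))))))))))))

theorem cov0 {Γ X : Type*} [Group Γ] [MulAction Γ X] {T : Lst X J.n} {gen : ℕ → Γ} {A : Subgroup Γ} (h : J.Model T gen A) : Cov h.M (J.el gen) [L0, L1, L2] R [] :=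
  cov_red (ctx h) h.hAV n0 (forall_mem_cons' (cov1 h) (forall_mem_cons' (cov46 h) (forall_mem_cons' (cov91 h) (forall_mem_cons' (cov136 h) (forall_mem_cons' (cov269 h) (forall_mem_cons' (cov402 h) (forall_mem_cons' (cov535 h) (forall_mem_cons' (cov664 h) (forall_mem_cons' (cov793 h) (forall_mem_cons' (cov922 h) (forall_mem_cons' (cov967 h) (forall_mem_cons' (cov1012 h) forall_mem_nil'))))))))))))

theorem classes {Γ X : Type*} [Group Γ] [MulAction Γ X] {T : Lst X J.n} {gen : ℕ → Γ} {A : Subgroup Γ} (h : J.Model T gen A) : ∀ g ∈ J.G gen, ∃ j, j < 32 ∧ ∃ c ∈ J.G gen, c * g = R.x (J.el gen) j * c := by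
  rw [← GpL_eq]; exact (cov0 h).all

theorem ords {Γ X : Type*} [Group Γ] [MulAction Γ X] {T : Lst X J.n} {gen : ℕ → Γ} {A : Subgroup Γ} (h : J.Model T gen A) : ∀ j, j < 32 → orderOf (R.x (J.el gen) j) = nth os j :=
  specChk_ord (ctx h) sp

theorem spec {Γ X : Type*} [Group Γ] [MulAction Γ X] {T : Lst X J.n} {gen : ℕ → Γ} {A : Subgroup Γ} (h : J.Model T gen A) : Set.range (orderOf : J.G gen → ℕ) = {n | n ∈ [1, 2, 3, 4, 5, 6, 7, 8, 10, 12, 13, 15, 21]} := by
  rw [← GpL_eq]; exact spec_of_chk (ctx h) (cov0 h) sp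

end Cfsg.Agent.Comp.G24
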